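import Mathlib
import Cfsg.Agent.H649.PwSp.Corner_m3
import Cfsg.Agent.H643.PwCnt
import Cfsg.Agent.S2445
import Cfsg.Prelude.Def_Classical
import Cfsg.Agent.H122.TC.Real_m3
import Cfsg.Agent.H122.Pw.Pc
import Cfsg.Agent.TitsThree.RTFast
import Cfsg.Agent.H126.PwO.FiveThree_m3
import Cfsg.Agent.H557.InvF4
import Cfsg.Agent.H841.TwG_m3
import Cfsg.Agent.H86.Pair
import Cfsg.Agent.H934.IdxExc
import Cfsg.Agent.H952.F4.TorDiag_m3
import Cfsg.Agent.H952.F4.Scott_m3
import Cfsg.Agent.H952.F4.Jord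
import Cfsg.Agent.LieClassical.OrthForms
import Cfsg.Agent.S0286
import Cfsg.Agent.LieClassical.OrthSimple
import Cfsg.Agent.LieClassical.OrthFinite
import Cfsg.Agent.H885.BS.OrthB
import Cfsg.Agent.H510.OA.Chev
import Cfsg.Agent.LieClassical.OrthCore
import Cfsg.Agent.FastGrp
import Cfsg.Agent.Prune
set_option linter.all false

section
prune_inst 0x7ffca8f8abbc3fdfdfff7e7fa694cdfc39901fffa4dff94b7fe061ff0b9f138009c523a10de010fe0e96401410a87843797eeeffe26bd87ffffd1ff41ffbee0ff5f6b50851948c340fb40ffe03f0778e7f3fffffffffffffffffffffffffffbeffbfffffffff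

-- part: H649/PwSp/Big
section
set_option linter.all false
open scoped Cfsg.Agent.FastGrp

/-!
# Symplectic groups: a scalar `a` with `a ^ 2 ≠ 1` in the base field

* `prB_pieces` : every isometry is a product of two isometries of order prime to `N`, if `a ∈ F`, `a ^ 2 ≠ 1`,
  has order prime to `N` and (`2 = 0` in `F` or `N` odd).
* `own_sp`, `own_psp` : `All r` for `Sp_2m(q)`, `PSp_2m(q)`, `q` a power of `r`, `q ≥ 5`.
-/

set_option autoImplicit false
open Polynomial

noncomputable section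

namespace Cfsg.Agent.H649.PwSp

open Cfsg.Agent.H144

universe u v

/-- isometry of `V` as an element of the matrix group -/
def mk {F : Type*} [Field F] {m : ℕ} (X : (Fin m ⊕ Fin m → F) ≃ₗ[F] (Fin m ⊕ Fin m → F))
    (hX : Iso (Cfsg.Agent.S2445.form F m) X) : Matrix.symplecticGroup (Fin m) F :=
  ⟨_, Cfsg.Agent.S2445.mem_of_iso hX⟩

theorem mk_mul {F : Type*} [Field F] {m : ℕ} {X Y : (Fin m ⊕ Fin m → F) ≃ₗ[F] (Fin m ⊕ Fin m → F)}
    (hX : Iso (Cfsg.Agent.S2445.form F m) X) (hY : Iso (Cfsg.Agent.S2445.form F m) Y) :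
    mk (X * Y) (hX.mul hY) = mk X hX * mk Y hY := by
  apply Subtype.ext
  change LinearMap.toMatrix' _ = LinearMap.toMatrix' _ * LinearMap.toMatrix' _
  rw [← LinearMap.toMatrix'_comp]
  rfl

theorem iso_pow {F V : Type*} [Field F] [AddCommGroup V] [Module F V] {B : LinearMap.BilinForm F V}
    {X : V ≃ₗ[F] V} (hX : Iso B X) (k : ℕ) : Iso B (X ^ k) := by
  induction k with
  | zero => exact Iso.one B
  | succ k ih => rw [pow_succ]; exact ih.mul hX

theorem mk_pow {F : Type*} [Field F] {m : ℕ} {X : (Fin m ⊕ Fin m → F) ≃ₗ[F] (Fin m ⊕ Fin m → F)}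
    (hX : Iso (Cfsg.Agent.S2445.form F m) X) (k : ℕ) : (mk X hX) ^ k = mk (X ^ k) (iso_pow hX k) := by
  induction k with
  | zero =>
    apply Subtype.ext
    change (1 : Matrix _ _ F) = LinearMap.toMatrix' _
    exact LinearMap.toMatrix'_one.symm
  | succ k ih =>
    rw [pow_succ, ih, ← mk_mul]
    rfl

theorem pr_of_prB {F : Type*} [Field F] {m N : ℕ} {g : Matrix.symplecticGroup (Fin m) F}
    (h : PrB (Cfsg.Agent.S2445.form F m) N (Cfsg.Agent.S2445.act g)) : H78.Pw.Pr N g := by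
  obtain ⟨X, Y, k, hX, hY, e, hk, hXk, hYk⟩ := h
  have key : ∀ (X : (Fin m ⊕ Fin m → F) ≃ₗ[F] (Fin m ⊕ Fin m → F)) (hX : Iso (Cfsg.Agent.S2445.form F m) X),
      X ^ k = 1 → (orderOf (mk X hX)).Coprime N := by
    intro X hX hXk
    refine Nat.Coprime.of_dvd_left (orderOf_dvd_of_pow_eq_one ?_) hk
    rw [mk_pow]
    apply Subtype.ext
    change LinearMap.toMatrix' _ = (1 : Matrix _ _ F)
    rw [hXk]
    exact LinearMap.toMatrix'_one
  refine ⟨mk X hX, mk Y hY, ?_, key X hX hXk, key Y hY hYk⟩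
  rw [← mk_mul]
  apply Subtype.ext
  change g.1 = LinearMap.toMatrix' _
  rw [← e]
  exact (LinearMap.toMatrix'_toLin' _).symm

/-- strong induction over orthogonal pieces -/
theorem prB_ind {F : Type v} [Field F] [Finite F] (N : ℕ)
    (hpiece : ∀ (V : Type u) [AddCommGroup V] [Module F V] [FiniteDimensional F V] (B : LinearMap.BilinForm F V),
      Alt B → Nond B → ∀ g : V ≃ₗ[F] V, Iso B g → Indec B g → PrB B N g) :
    ∀ (n : ℕ) (V : Type u) [AddCommGroup V] [Module F V] [FiniteDimensional F V]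
      (B : LinearMap.BilinForm F V), Alt B → Nond B → Module.finrank F V = n → ∀ g : V ≃ₗ[F] V, Iso B g →
      PrB B N g := by
  intro n
  induction n using Nat.strong_induction_on with
  | _ n ih =>
  intro V _ _ _ B hB hN hn g hg
  by_cases hI : Indec B g
  · exact hpiece V B hB hN g hg hI
  · unfold Indec at hI
    push Not at hI
    obtain ⟨P, hPI, hPN, hP0, hP1⟩ := hI
    have hc := isCompl_perp hB hPN
    have h1 := Submodule.finrank_add_eq_of_isCompl hc
    have h2 : Module.finrank F P < n := by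
      rw [← hn]
      exact Submodule.finrank_lt hP1
    have h3 : 0 < Module.finrank F P := by
      rw [Nat.pos_iff_ne_zero]
      intro h0
      exact hP0 (Submodule.finrank_eq_zero.1 h0)
    have hPI' := inv_perp hg hPI
    have hPN' := nd_perp hB hN hPN
    exact PrB.glue hB hN hPN hPI hPI'
      (ih _ h2 P (B.restrict P) (restrict_alt hB P) (restrict_nond hPN) rfl _ (gr_iso hg P hPI))
      (ih _ (by omega) (perp B P) (B.restrict (perp B P)) (restrict_alt hB _) (restrict_nond hPN') rfl _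
        (gr_iso hg _ hPI'))

/-- the scalar -/
def sc {F V : Type*} [Field F] [AddCommGroup V] [Module F V] (a : F) (ha : a ≠ 0) : V ≃ₗ[F] V :=
  LinearEquiv.smulOfNeZero F V a ha

theorem sc_apply {F V : Type*} [Field F] [AddCommGroup V] [Module F V] (a : F) (ha : a ≠ 0) (v : V) :
    sc a ha v = a • v := rfl

theorem sc_inv_apply {F V : Type*} [Field F] [AddCommGroup V] [Module F V] (a : F) (ha : a ≠ 0) (v : V) :
    (sc a ha)⁻¹ v = a⁻¹ • v := by
  have h : sc a ha (a⁻¹ • v) = v := by rw [sc_apply, smul_smul, mul_inv_cancel₀ ha, one_smul]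
  nth_rewrite 1 [← h]
  rw [inv_app]

theorem sc_pow {F V : Type*} [Field F] [AddCommGroup V] [Module F V] (a : F) (ha : a ≠ 0) {k : ℕ}
    (hk : a ^ k = 1) : (sc a ha : V ≃ₗ[F] V) ^ k = 1 := by
  have h : ∀ (j : ℕ) (v : V), ((sc a ha : V ≃ₗ[F] V) ^ j) v = a ^ j • v := by
    intro j
    induction j with
    | zero => intro v; rw [pow_zero, pow_zero, one_smul]; rfl
    | succ j ih => intro v; rw [pow_succ', LinearEquiv.mul_apply, ih, sc_apply, smul_smul, pow_succ']
  ext v
  rw [h, hk, one_smul]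
  rfl

theorem PrB.of_ng {F V : Type*} [Field F] [AddCommGroup V] [Module F V] {B : LinearMap.BilinForm F V} {N : ℕ}
    (h2 : Nat.Coprime 2 N) {g : V ≃ₗ[F] V} (h : PrB B N (ng g)) : PrB B N g := by
  obtain ⟨X, Y, k, hX, hY, e, hk, hXk, hYk⟩ := h
  have hsq : (LinearEquiv.neg F : V ≃ₗ[F] V) * LinearEquiv.neg F = 1 := by
    ext v
    change - - v = v
    rw [neg_neg]
  have hcomm : Commute (LinearEquiv.neg F : V ≃ₗ[F] V) X := by
    ext v
    change - (X v) = X (-v)
    rw [map_neg]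
  refine ⟨ng X, Y, 2 * k, ng_iso hX, hY, ?_, Nat.Coprime.mul_left h2 hk, ?_, ?_⟩
  · unfold ng at e ⊢
    calc g = (LinearEquiv.neg F : V ≃ₗ[F] V) * LinearEquiv.neg F * g := by rw [hsq, one_mul]
      _ = LinearEquiv.neg F * (LinearEquiv.neg F * g) := by rw [mul_assoc]
      _ = _ := by rw [e, mul_assoc]
  · unfold ng
    rw [hcomm.mul_pow, mul_comm 2 k, pow_mul X, hXk, one_pow, mul_one, mul_comm k 2, pow_mul, pow_two, hsq,
      one_pow]
  · rw [mul_comm, pow_mul, hYk, one_pow]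

theorem prB_c1_sc {F V : Type*} [Field F] [Finite F] [AddCommGroup V] [Module F V] [FiniteDimensional F V]
    {B : LinearMap.BilinForm F V} (hB : Alt B) (hN : Nond B) {N : ℕ} {g : V ≃ₗ[F] V} (hg : Iso B g)
    (h : C1 B g) {a : F} (ha : a ≠ 0) (ha2 : a * a ≠ 1) {k : ℕ} (hk : a ^ k = 1) (hkN : k.Coprime N) :
    PrB B N g := by
  obtain ⟨P, Q, hP, hQ, hPQ, hPg⟩ := h
  have hval : ∀ (x : P ≃ₗ[F] P) (v : P), aeval (x : Module.End F P) (Polynomial.X - C a : F[X]) v =
      x v - a • v := by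
    intro x v
    rw [map_sub, aeval_X, aeval_C]
    rfl
  refine prB_c1 hB hN hg hP hQ hPQ hPg (x := sc a ha) (Polynomial.X - C a) (fun v => ?_) (fun v hv => ?_)
    hkN (sc_pow a ha hk)
  · rw [hval, sc_apply, sub_self]
  · rw [hval, sc_inv_apply, ← sub_smul] at hv
    refine (smul_eq_zero.1 hv).resolve_left ?_
    intro h0
    apply ha2
    rw [sub_eq_zero] at h0
    nth_rewrite 1 [← h0]
    exact inv_mul_cancel₀ ha

theorem prB_pieces {F : Type v} [Field F] [Finite F] {N : ℕ} {a : F} (ha : a ≠ 0) (ha2 : a * a ≠ 1) {k : ℕ}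
    (hk : a ^ k = 1) (hkN : k.Coprime N) (h2 : (2 : F) = 0 ∨ Nat.Coprime 2 N) {V : Type u} [AddCommGroup V]
    [Module F V] [FiniteDimensional F V] {B : LinearMap.BilinForm F V} (hB : Alt B) (hN : Nond B)
    {g : V ≃ₗ[F] V} (hg : Iso B g) : PrB B N g := by
  refine prB_ind N (fun V _ _ _ B hB hN g hg hI => ?_) (Module.finrank F V) V B hB hN rfl g hg
  rcases subsingleton_or_nontrivial V with hs | hs
  · refine ⟨1, 1, 1, Iso.one B, Iso.one B, ?_, Nat.coprime_one_left N, one_pow _, one_pow _⟩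
    ext v
    exact Subsingleton.elim _ _
  rcases indec_main hB hN hg hI with h | ⟨h3, h⟩
  · exact prB_c1_sc hB hN hg h ha ha2 hk hkN
  · exact PrB.of_ng (h2.resolve_left h3) (prB_c1_sc hB hN (ng_iso hg) h.1 ha ha2 hk hkN)

theorem exists_sq_ne (F : Type*) [Field F] [Finite F] (h : 4 ≤ Nat.card F) : ∃ a : F, a ≠ 0 ∧ a * a ≠ 1 := by
  by_contra hcon
  push Not at hcon
  have : Fintype F := Fintype.ofFinite F
  have h3 := Polynomial.eq_zero_of_natDegree_lt_card_of_eval_eq_zero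
    (X * (X ^ 2 - 1) : F[X]) Function.injective_id (by
      intro a
      simp only [id, eval_mul, eval_sub, eval_X, eval_one, eval_pow]
      by_cases ha : a = 0
      · simp [ha]
      rw [pow_two, hcon a ha, sub_self, mul_zero]) (by
      have h4 : (X * (X ^ 2 - 1) : F[X]).natDegree ≤ 3 := by
        compute_degree
      rw [Nat.card_eq_fintype_card] at h
      omega)
  have h4 : (X * (X ^ 2 - 1) : F[X]).coeff 3 = 1 := by
    have : (X * (X ^ 2 - 1) : F[X]) = X ^ 3 - X := by ring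
    rw [this]
    simp [coeff_X]
  rw [h3] at h4
  simp at h4

/-- **`Sp_2m(q)`, the characteristic.** -/
theorem own_sp {F : Type*} [Field F] [Fintype F] (r : ℕ) (hr : r.Prime) [CharP F r] (hr5 : 5 ≤ r) (m : ℕ) :
    H78.Pw.All r (Matrix.symplecticGroup (Fin m) F) := by
  intro g
  apply pr_of_prB
  have : Fact r.Prime := ⟨hr⟩
  obtain ⟨n, hn⟩ := FiniteField.card F r
  have h5 : 5 ≤ Nat.card F := by
    rw [Nat.card_eq_fintype_card, hn.2]
    exact hr5.trans (Nat.le_self_pow n.ne_zero r)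
  obtain ⟨a, ha, ha2⟩ := exists_sq_ne F (by omega)
  have hcop : (Fintype.card F - 1).Coprime r := by
    rw [hn.2, Nat.coprime_comm, Nat.Prime.coprime_iff_not_dvd hr]
    intro hd
    have h6 : r ∣ r ^ (n : ℕ) := dvd_pow_self r n.ne_zero
    have h7 : 1 ≤ r ^ (n : ℕ) := Nat.one_le_pow _ _ (by omega)
    have h8 : r ∣ r ^ (n : ℕ) - (r ^ (n : ℕ) - 1) := Nat.dvd_sub h6 hd
    rw [Nat.sub_sub_self h7] at h8
    have := Nat.le_of_dvd one_pos h8
    omega
  exact prB_pieces ha ha2 (FiniteField.pow_card_sub_one_eq_one a ha) hcop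
    (Or.inr ((Nat.coprime_primes Nat.prime_two hr).2 (by omega))) Cfsg.Agent.S2445.form_alt
    Cfsg.Agent.S2445.form_nond (Cfsg.Agent.S2445.act_iso g)

/-- **`PSp_2m(q)`, the characteristic.** -/
theorem own_psp {F : Type*} [Field F] [Fintype F] (r : ℕ) (hr : r.Prime) [CharP F r] (hr5 : 5 ≤ r) (m : ℕ) :
    H78.Pw.All r (PSp m F) :=
  H78.Pw.All.of_surjective (QuotientGroup.mk' _) (QuotientGroup.mk'_surjective _) (own_sp r hr hr5 m)

end Cfsg.Agent.H649.PwSp
end
end

-- part: H649/PwSp/Two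
section
prune_inst 0x30505100340002000000058483201c22fa0000000008080028800a060e81ac028040c020bab000000086008448380848110000000240000004000400011c0080108110043000000080001e000000000000000000000000000000000000000000000000000
set_option linter.all false
open scoped Cfsg.Agent.FastGrp

/-!
# Symplectic groups in characteristic two: `All 6`

* `c1_two` : every isometry is `C1`.
* `exists_x` : `x ∈ GL_m(F)`, `m ≥ 3` odd, of order dividing `2 ^ m - 1`.
* `exists_pq` : the corner.
-/

set_option autoImplicit false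
open Polynomial

noncomputable section

namespace Cfsg.Agent.H649.PwSp

open Cfsg.Agent.H144

universe u v

/-- in characteristic two every isometry is `C1` -/
theorem c1_two {F : Type v} [Field F] [Finite F] (h2 : (2 : F) = 0) :
    ∀ (n : ℕ) (V : Type u) [AddCommGroup V] [Module F V] [FiniteDimensional F V]
      (B : LinearMap.BilinForm F V), Alt B → Nond B → Module.finrank F V = n → ∀ g : V ≃ₗ[F] V, Iso B g →
      C1 B g := by
  intro n
  induction n using Nat.strong_induction_on with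
  | _ n ih =>
  intro V _ _ _ B hB hN hn g hg
  rcases subsingleton_or_nontrivial V with hs | hs
  · refine ⟨⊤, ⊤, ?_, ?_, by simp, fun v _ => trivial⟩ <;>
    · intro x _ y _
      rw [Subsingleton.elim x 0, map_zero, LinearMap.zero_apply]
  by_cases hI : Indec B g
  · rcases indec_main hB hN hg hI with h | ⟨h3, _⟩
    · exact h
    · exact absurd h2 h3
  · unfold Indec at hI
    push Not at hI
    obtain ⟨P, hPI, hPN, hP0, hP1⟩ := hI
    have hc := isCompl_perp hB hPN
    have h1 := Submodule.finrank_add_eq_of_isCompl hc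
    have h2 : Module.finrank F P < n := by
      rw [← hn]
      exact Submodule.finrank_lt hP1
    have h3 : 0 < Module.finrank F P := by
      rw [Nat.pos_iff_ne_zero]
      intro h0
      exact hP0 (Submodule.finrank_eq_zero.1 h0)
    have hPI' := inv_perp hg hPI
    have hPN' := nd_perp hB hN hPN
    refine c1_top (sup_perp hB hPN) (C1On.sup hB (orth_perp P)
      (c1On_of_c1 hPI (ih _ h2 P (B.restrict P) (restrict_alt hB P) (restrict_nond hPN) rfl _ (gr_iso hg P hPI)))
      (c1On_of_c1 hPI' (ih _ (by omega) (perp B P) (B.restrict (perp B P)) (restrict_alt hB _)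
        (restrict_nond hPN') rfl _ (gr_iso hg _ hPI'))))

/-- the matrix of a Singer cycle over the prime field, in characteristic `p` -/
theorem exists_mat (p : ℕ) [Fact p.Prime] (m : ℕ) (hm : m ≠ 0) (h5 : 5 ≤ p ^ m) :
    ∃ (M M' : Matrix (Fin m) (Fin m) (ZMod p)) (f : (ZMod p)[X]), M * M' = 1 ∧ M ^ (p ^ m - 1) = 1 ∧
      aeval M f = 0 ∧ IsUnit (aeval M' f) ∧ IsUnit (M - 1) := by
  obtain ⟨K, _, _, _, hK, ξ, hξ, h1, h2⟩ := exists_singer (ZMod p) m hm (Or.inl (by
    rw [Nat.card_zmod]; exact h5))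
  let b : Module.Basis (Fin m) (ZMod p) K := Module.finBasisOfFinrankEq (ZMod p) K hK
  let φ : K →ₐ[ZMod p] Matrix (Fin m) (Fin m) (ZMod p) := Algebra.leftMulMatrix b
  have hfin : Finite K := Module.finite_of_finite (ZMod p)
  have hF : Fintype K := Fintype.ofFinite K
  have hcard : Fintype.card K = p ^ m := by
    rw [← Nat.card_eq_fintype_card, Module.natCard_eq_pow_finrank (K := ZMod p), Nat.card_zmod, hK]
  have hunit : ∀ a : K, a ≠ 0 → IsUnit (φ a) := fun a ha => (IsUnit.mk0 a ha).map φ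
  refine ⟨φ ξ, φ ξ⁻¹, minpoly (ZMod p) ξ, ?_, ?_, ?_, ?_, ?_⟩
  · rw [← map_mul, mul_inv_cancel₀ hξ, map_one]
  · rw [← map_pow, ← hcard, FiniteField.pow_card_sub_one_eq_one ξ hξ, map_one]
  · rw [aeval_algHom_apply, minpoly.aeval, map_zero]
  · rw [aeval_algHom_apply]
    exact hunit _ h1
  · rw [← map_one φ, ← map_sub]
    apply hunit
    intro h0
    rw [sub_eq_zero] at h0
    apply h1
    rw [h0, inv_one, ← h0, minpoly.aeval]

/-- `x ∈ GL(P)` of order dividing `p ^ m - 1` -/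
theorem exists_x {F : Type*} [Field F] (p : ℕ) [Fact p.Prime] [CharP F p] {P : Type*} [AddCommGroup P]
    [Module F P] [FiniteDimensional F P] {m : ℕ} (hP : Module.finrank F P = m) (hm : m ≠ 0) (h5 : 5 ≤ p ^ m) :
    ∃ (x : P ≃ₗ[F] P) (f : F[X]), (∀ v, aeval (x : Module.End F P) f v = 0) ∧
      (∀ v, aeval ((x⁻¹ : P ≃ₗ[F] P) : Module.End F P) f v = 0 → v = 0) ∧ (∀ v, x v = v → v = 0) ∧
      x ^ (p ^ m - 1) = 1 := by
  obtain ⟨M, M', f, hMM, hMk, hf, hfu, hM1⟩ := exists_mat p m hm h5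
  let ι : ZMod p →+* F := ZMod.castHom dvd_rfl F
  let μ : Matrix (Fin m) (Fin m) (ZMod p) →+* Matrix (Fin m) (Fin m) F := ι.mapMatrix
  let b : Module.Basis (Fin m) F P := Module.finBasisOfFinrankEq F P hP
  let τ : Matrix (Fin m) (Fin m) F ≃ₐ[F] Module.End F P := Matrix.toLinAlgEquiv b
  let ψ : Matrix (Fin m) (Fin m) (ZMod p) →+* Module.End F P := (τ : Matrix (Fin m) (Fin m) F →+* Module.End F P).comp μ
  have hMM' : M' * M = 1 := mul_eq_one_comm.1 hMM
  let x : P ≃ₗ[F] P := LinearEquiv.ofLinearMap (ψ M) (ψ M')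
    (by rw [← Module.End.mul_eq_comp, ← map_mul, hMM, map_one]; rfl)
    (by rw [← Module.End.mul_eq_comp, ← map_mul, hMM', map_one]; rfl)
  have hx : (x : Module.End F P) = ψ M := rfl
  have hxi : ((x⁻¹ : P ≃ₗ[F] P) : Module.End F P) = ψ M' := rfl
  have hev : ∀ N : Matrix (Fin m) (Fin m) (ZMod p), aeval (ψ N) (f.map ι) = ψ (aeval N f) := by
    intro N
    rw [aeval_def, aeval_def, eval₂_map, hom_eval₂]
    congr 1
    exact RingHom.ext_zmod _ _
  have hinj : ∀ N : Matrix (Fin m) (Fin m) (ZMod p), IsUnit N → ∀ v, ψ N v = 0 → v = 0 := by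
    intro N hN v hv
    obtain ⟨u, hu⟩ := hN.map ψ
    have : (u⁻¹ : (Module.End F P)ˣ).val (u.val v) = v := by
      rw [← Module.End.mul_apply, Units.inv_mul, Module.End.one_apply]
    rw [← this, hu, hv, map_zero]
  refine ⟨x, f.map ι, fun v => ?_, fun v hv => ?_, fun v hv => ?_, ?_⟩
  · rw [hx, hev, hf, map_zero, LinearMap.zero_apply]
  · rw [hxi, hev] at hv
    exact hinj _ hfu v hv
  · apply hinj _ hM1 v
    rw [map_sub, map_one, LinearMap.sub_apply, ← hx]
    exact sub_eq_zero.2 hv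
  · have hpow : ∀ j : ℕ, ((x ^ j : P ≃ₗ[F] P) : Module.End F P) = ψ (M ^ j) := by
      intro j
      induction j with
      | zero => rw [pow_zero, pow_zero, map_one]; rfl
      | succ j ih =>
        rw [pow_succ, map_pow, pow_succ, ← map_pow, ← ih, ← hx]
        rfl
    ext v
    have h1 := LinearMap.congr_fun (hpow (p ^ m - 1)) v
    rw [hMk, map_one] at h1
    exact h1

theorem cop_two {m : ℕ} (hm : Odd m) : (2 ^ m - 1).Coprime 6 := by
  obtain ⟨j, rfl⟩ := hm
  have h4 : 4 ^ j % 3 = 1 := by rw [Nat.pow_mod]; norm_num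
  have h1 : 2 ^ (2 * j + 1) = 2 * 4 ^ j := by rw [pow_succ, pow_mul]; norm_num [mul_comm]
  have hpos : 1 ≤ 4 ^ j := Nat.one_le_pow _ _ (by norm_num)
  rw [h1, show (6 : ℕ) = 2 * 3 by rfl]
  apply Nat.Coprime.mul_right
  · rw [Nat.coprime_comm, Nat.Prime.coprime_iff_not_dvd Nat.prime_two]
    omega
  · rw [Nat.coprime_comm, Nat.Prime.coprime_iff_not_dvd Nat.prime_three]
    omega

section Corner

variable {F V : Type*} [Field F] [Finite F] [CharP F 2] [AddCommGroup V] [Module F V] [FiniteDimensional F V]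

/-- the square root of `v ↦ B v (n v)` -/
theorem exists_ell {B : LinearMap.BilinForm F V} (hB : Alt B) {P Q : Submodule F V} {n : Module.End F V}
    (hn : n ∈ Skew B Q) : ∃ ℓ : P →ₗ[F] F, ∀ v : P, ℓ v * ℓ v = B v (n v) := by
  have : Fintype F := Fintype.ofFinite F
  have : Fact (Nat.Prime 2) := ⟨Nat.prime_two⟩
  have hq : ∀ v w : V, B (v + w) (n (v + w)) = B v (n v) + B w (n w) := by
    intro v w
    have h1 := hn.2.2 v w
    have h2 : B (n v) w = - B w (n v) := hB.neg _ _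
    simp only [map_add, LinearMap.add_apply]
    have h3 : B v (n w) = B w (n v) := by rw [h2] at h1; linear_combination h1
    rw [h3]
    have h4 : B w (n v) + B w (n v) = 0 := CharTwo.add_self_eq_zero _
    linear_combination h4
  let s : F ≃+* F := (frobeniusEquiv F 2).symm
  have hs : ∀ a : F, s a * s a = a := by
    intro a
    have h1 := (frobeniusEquiv F 2).apply_symm_apply a
    rw [frobeniusEquiv_apply, frobenius_def] at h1
    rw [← pow_two]
    exact h1
  refine ⟨{ toFun := fun v => s (B v (n v)), map_add' := fun v w => ?_, map_smul' := fun c v => ?_ }, fun v => ?_⟩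
  · rw [Submodule.coe_add, hq, map_add]
  · have h0 : B ((c • v : P) : V) (n ((c • v : P) : V)) = (c * c) * B v (n v) := by
      rw [Submodule.coe_smul, map_smul B, map_smul n, LinearMap.smul_apply, map_smul (B (v : V)), smul_eq_mul,
        smul_eq_mul, ← mul_assoc]
    rw [h0, RingHom.id_apply, smul_eq_mul, map_mul]
    congr 1
    have h1 := hs (c * c)
    have h2 : (s (c * c) - c) * (s (c * c) - c) = 0 := by
      have h3 : (2 : F) = 0 := CharTwo.two_eq_zero
      linear_combination h1 - s (c * c) * c * h3 + c * c * h3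
    exact sub_eq_zero.1 (mul_self_eq_zero.1 h2)
  · exact hs _

theorem exists_pq {B : LinearMap.BilinForm F V} (hB : Alt B) (hN : Nond B) {P Q : Submodule F V}
    (hP : Orth B P P) (hPQ : P ⊔ Q = ⊤) (h3 : 3 ≤ Module.finrank F P)
    {n m : Module.End F V} (hn : n ∈ Skew B Q) (hm : m ∈ Skew B P) :
    ∃ p ∈ P, ∃ q ∈ Q, B p q = 1 ∧ B p (n p) = 0 ∧ B q (m q) = 0 := by
  obtain ⟨ℓ, hℓ⟩ := exists_ell (P := P) hB hn
  obtain ⟨κ, hκ⟩ := exists_ell (P := Q) hB hm
  have hker : 2 ≤ Module.finrank F (LinearMap.ker ℓ) := by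
    have h1 := LinearMap.finrank_range_add_finrank_ker ℓ
    have h2 : Module.finrank F (LinearMap.range ℓ) ≤ 1 := by
      have := Submodule.finrank_le (LinearMap.range ℓ)
      rwa [Module.finrank_self] at this
    omega
  by_contra hcon
  push Not at hcon
  -- `B p q = 0` for all `p`, `q` in the kernels
  have key : ∀ p : P, ℓ p = 0 → ∀ q : Q, κ q = 0 → B (p : V) (q : V) = 0 := by
    intro p hp q hq
    by_contra h0
    refine hcon p p.2 ((B (p : V) (q : V))⁻¹ • (q : V)) (Q.smul_mem _ q.2) ?_ ?_ ?_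
    · rw [map_smul, smul_eq_mul, inv_mul_cancel₀ h0]
    · rw [← hℓ, hp, zero_mul]
    · rw [map_smul, map_smul, LinearMap.smul_apply, map_smul, ← hκ, hq]
      simp
  -- so `B p q = B p q₀ * κ q / κ q₀`
  obtain ⟨q₀, hq₀⟩ | hk0 : (∃ q₀ : Q, κ q₀ ≠ 0) ∨ ∀ q : Q, κ q = 0 := by
    by_cases h : ∃ q₀ : Q, κ q₀ ≠ 0
    · exact Or.inl h
    · push Not at h; exact Or.inr h
  · have hzero : ∀ p : P, ℓ p = 0 → B (p : V) (q₀ : V) = 0 → p = 0 := by
      intro p hp h0
      have h1 : ∀ q : Q, B (p : V) (q : V) = 0 := by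
        intro q
        have h2 := key p hp (q - (κ q / κ q₀) • q₀) (by
          rw [map_sub, map_smul, smul_eq_mul, div_mul_cancel₀ _ hq₀, sub_self])
        rw [Submodule.coe_sub, Submodule.coe_smul, map_sub, map_smul, h0, smul_zero, sub_zero] at h2
        exact h2
      exact Subtype.ext (eq_zero_of_orth hN hPQ (hP p p.2) (fun w hw => h1 ⟨w, hw⟩))
    -- the kernel of `ℓ` embeds in `F`
    let θ : LinearMap.ker ℓ →ₗ[F] F := (B.flip (q₀ : V)) ∘ₗ P.subtype ∘ₗ (LinearMap.ker ℓ).subtype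
    have hθ : Function.Injective θ := by
      rw [← LinearMap.ker_eq_bot, LinearMap.ker_eq_bot']
      rintro ⟨p, hp⟩ h0
      exact Subtype.ext (hzero p hp h0)
    have h4 := LinearMap.finrank_le_finrank_of_injective hθ
    rw [Module.finrank_self] at h4
    omega
  · have h1 : Module.finrank F (LinearMap.ker ℓ) = 0 := by
      rw [Submodule.finrank_eq_zero, Submodule.eq_bot_iff]
      intro p hp
      exact Subtype.ext (eq_zero_of_orth hN hPQ (hP p p.2) (fun w hw => key p hp ⟨w, hw⟩ (hk0 _)))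
    omega

/-- **Characteristic two, rank at least three.** -/
theorem prB_two {B : LinearMap.BilinForm F V} (hB : Alt B) (hN : Nond B) {r : ℕ}
    (hV : Module.finrank F V = 2 * r) (hr : 3 ≤ r) {g : V ≃ₗ[F] V} (hg : Iso B g) : PrB B 6 g := by
  have : Fact (Nat.Prime 2) := ⟨Nat.prime_two⟩
  obtain ⟨P, Q, hP, hQ, hPQ, hPg⟩ := c1_two (CharTwo.two_eq_zero) (Module.finrank F V) V B hB hN rfl g hg
  have h2 := finrank_two hB hN hP hQ hPQ
  have hfP : Module.finrank F P = r := by omega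
  have h5 : ∀ j : ℕ, 3 ≤ j → 5 ≤ 2 ^ j := fun j hj =>
    calc 5 ≤ 2 ^ 3 := by norm_num
      _ ≤ 2 ^ j := Nat.pow_le_pow_right (by norm_num) hj
  rcases Nat.even_or_odd r with hev | hodd
  swap
  · obtain ⟨x, f, hf, hfi, _, hxk⟩ := exists_x 2 hfP (by omega) (h5 r hr)
    exact prB_c1 hB hN hg hP hQ hPQ hPg f hf hfi (cop_two hodd) hxk
  · obtain ⟨n, m, hn, hm, e⟩ := c1_factor hB hN hP hQ hPQ hg hPg
    obtain ⟨p, hp, q, hq, hpq, hpn, hqm⟩ := exists_pq hB hN hP hPQ (by omega) hn hm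
    let P₁ : Submodule F V := P ⊓ LinearMap.ker (B.flip q)
    let Q₁ : Submodule F V := Q ⊓ LinearMap.ker (B p)
    have hP₁ : ∀ {v}, v ∈ P₁ ↔ v ∈ P ∧ B v q = 0 := fun {v} => Iff.rfl
    have hQ₁ : ∀ {v}, v ∈ Q₁ ↔ v ∈ Q ∧ B p v = 0 := fun {v} => Iff.rfl
    have hoP : Orth B P₁ P₁ := fun a ha b hb => hP a ha.1 b hb.1
    have hoQ : Orth B Q₁ Q₁ := fun a ha b hb => hQ a ha.1 b hb.1
    have hNd : Nd B (P₁ ⊔ Q₁) := by
      intro v hv h0
      obtain ⟨a, ha, b, hb, rfl⟩ := Submodule.mem_sup.1 hv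
      have ha' := hP₁.1 ha
      have hb' := hQ₁.1 hb
      have ha0 : a = 0 := by
        apply eq_zero_of_orth hN hPQ (hP a ha'.1)
        intro w hw
        have hw1 : w - B p w • q ∈ Q₁ := hQ₁.2 ⟨Q.sub_mem hw (Q.smul_mem _ hq), by
          rw [map_sub, map_smul, hpq, smul_eq_mul, mul_one, sub_self]⟩
        have h1 := h0 _ (Submodule.mem_sup_right hw1)
        rw [map_add, LinearMap.add_apply, hQ b hb'.1 _ (hQ₁.1 hw1).1, add_zero, map_sub, map_smul, ha'.2,
          smul_zero, sub_zero] at h1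
        exact h1
      have hb0 : b = 0 := by
        rw [ha0, zero_add] at h0
        apply eq_zero_of_orth hN hPQ _ (hQ b hb'.1)
        intro w hw
        have hw1 : w - B w q • p ∈ P₁ := hP₁.2 ⟨P.sub_mem hw (P.smul_mem _ hp), by
          rw [map_sub, map_smul, LinearMap.sub_apply, LinearMap.smul_apply, hpq, smul_eq_mul, mul_one, sub_self]⟩
        have h1 := h0 _ (Submodule.mem_sup_left hw1)
        rw [map_sub, map_smul, hB.zero hb'.2, smul_zero, sub_zero] at h1
        exact h1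
      rw [ha0, hb0, add_zero]
    have hfP₁ : Module.finrank F P₁ = r - 1 := by
      let θ : P →ₗ[F] F := (B.flip q) ∘ₗ P.subtype
      have h1 := LinearMap.finrank_range_add_finrank_ker θ
      have h3 : LinearMap.range θ = ⊤ := by
        rw [LinearMap.range_eq_top]
        intro c
        refine ⟨c • ⟨p, hp⟩, ?_⟩
        change B (c • p) q = c
        rw [map_smul, LinearMap.smul_apply, hpq, smul_eq_mul, mul_one]
      rw [h3, finrank_top, Module.finrank_self, hfP] at h1
      have h4 : Module.finrank F (LinearMap.ker θ) = Module.finrank F P₁ := by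
        have h5 : (LinearMap.ker θ).map P.subtype = P₁ := by
          ext v
          constructor
          · rintro ⟨w, hw, rfl⟩
            exact ⟨w.2, hw⟩
          · rintro ⟨hv, hv'⟩
            exact ⟨⟨v, hv⟩, hv', rfl⟩
        rw [← h5]
        exact (Submodule.equivMapOfInjective P.subtype P.injective_subtype _).finrank_eq
      omega
    have hodd : Odd (r - 1) := by
      obtain ⟨j, hj⟩ := hev
      exact ⟨j - 1, by omega⟩
    have hr3 : 3 ≤ r - 1 := by
      obtain ⟨j, hj⟩ := hev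
      omega
    obtain ⟨x, f, hf, hfi, hfix, hxk⟩ := exists_x 2 hfP₁ (by omega) (h5 _ hr3)
    rw [e]
    refine prB_corner hB hN hoP hoQ hNd f hf hfi (Or.inr hfix) (cop_two hodd) hxk ?_ ?_
    · refine ⟨skew_iso hQ hn, fun v hv => ?_, fun v hv => ?_⟩
      · rw [uni_apply, hn.2.1 v hv.1, add_zero]
      · rw [uni_apply, add_sub_cancel_left]
        refine hQ₁.2 ⟨hn.1 v, ?_⟩
        have h1 : n p ∈ Q₁ := hQ₁.2 ⟨hn.1 p, hpn⟩
        have h3 := hn.2.2 p v
        rw [hv _ h1, zero_add] at h3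
        exact h3
    · refine ⟨skew_iso hP hm, fun v hv => ?_, fun v hv => ?_⟩
      · rw [uni_apply, hm.2.1 v hv.1, add_zero]
      · rw [uni_apply, add_sub_cancel_left]
        refine hP₁.2 ⟨hm.1 v, ?_⟩
        have h1 : m q ∈ P₁ := hP₁.2 ⟨hm.1 q, hB.zero hqm⟩
        have h3 := hm.2.2 v q
        rw [hB.zero (hv _ h1), add_zero] at h3
        exact h3

end Corner

/-- `2 ^ e - 1` is not a power of three for `e ≥ 3` -/
theorem exists_factor {e : ℕ} (he : 3 ≤ e) : ∃ j k : ℕ, 2 ^ e - 1 = 3 ^ j * k ∧ k.Coprime 6 ∧ 3 ≤ k := by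
  have hpos : 8 ≤ 2 ^ e := by
    calc 8 = 2 ^ 3 := by norm_num
      _ ≤ 2 ^ e := Nat.pow_le_pow_right (by norm_num) he
  obtain ⟨j, k, hk, hjk⟩ := Nat.exists_eq_pow_mul_and_not_dvd (n := 2 ^ e - 1) (by omega) 3 (by norm_num)
  have h8 : 8 ∣ 2 ^ e := by
    rw [show (8 : ℕ) = 2 ^ 3 by norm_num]
    exact pow_dvd_pow 2 he
  have hmod : (3 ^ j * k) % 8 = 7 := by
    rw [← hjk]; omega
  have h3 : 3 ^ j % 8 = 1 ∨ 3 ^ j % 8 = 3 := by
    clear hjk hmod
    induction j with
    | zero => left; norm_num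
    | succ j ih =>
      rw [pow_succ, Nat.mul_mod]
      rcases ih with h | h <;> rw [h] <;> norm_num
  refine ⟨j, k, hjk, ?_, ?_⟩
  · rw [show (6 : ℕ) = 2 * 3 by rfl]
    apply Nat.Coprime.mul_right
    · rw [Nat.coprime_comm, Nat.Prime.coprime_iff_not_dvd Nat.prime_two]
      rintro ⟨c, rfl⟩
      rw [show 3 ^ j * (2 * c) = 2 * (3 ^ j * c) by ring] at hmod
      omega
    · rw [Nat.coprime_comm, Nat.Prime.coprime_iff_not_dvd Nat.prime_three]
      exact hk
  · by_contra hlt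
    have h4 : k = 0 ∨ k = 1 ∨ k = 2 := by omega
    rcases h4 with rfl | rfl | rfl
    · simp at hmod
    · rw [mul_one] at hmod; omega
    · omega

theorem exists_a {F : Type*} [Field F] [Fintype F] [CharP F 2] (h8 : 8 ≤ Fintype.card F) :
    ∃ (a : F) (k : ℕ), a ≠ 0 ∧ a * a ≠ 1 ∧ a ^ k = 1 ∧ k.Coprime 6 := by
  have : Fact (Nat.Prime 2) := ⟨Nat.prime_two⟩
  obtain ⟨e, he, hcard⟩ := FiniteField.card F 2
  have he3 : 3 ≤ (e : ℕ) := by
    by_contra hlt
    have h1 : (2 : ℕ) ^ (e : ℕ) ≤ 2 ^ 2 := Nat.pow_le_pow_right (by norm_num) (by omega)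
    omega
  obtain ⟨j, k, hjk, hk6, hk3⟩ := exists_factor he3
  classical
  obtain ⟨u, hu⟩ := IsCyclic.exists_generator (α := Fˣ)
  have hord : orderOf u = 3 ^ j * k := by
    rw [orderOf_eq_card_of_forall_mem_zpowers hu, Nat.card_eq_fintype_card, Fintype.card_units, hcard, hjk]
  have hk0 : 0 < 3 ^ j := by positivity
  have hord' : orderOf (u ^ 3 ^ j) = k := by
    rw [orderOf_pow' u hk0.ne', hord, Nat.gcd_eq_right (Dvd.intro _ rfl), Nat.mul_div_cancel_left _ hk0]
  refine ⟨((u ^ 3 ^ j : Fˣ) : F), k, Units.ne_zero _, fun h0 => ?_, ?_, hk6⟩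
  · have h1 : (u ^ 3 ^ j) ^ 2 = 1 := by
      rw [pow_two]
      exact Units.ext h0
    have h2 := Nat.le_of_dvd two_pos (orderOf_dvd_of_pow_eq_one h1)
    omega
  · rw [← Units.val_pow_eq_pow_val, ← hord', pow_orderOf_eq_one, Units.val_one]

/-- **`Sp_2m(2^e)`: products of two elements of order prime to `6`** -/
theorem six_sp_two {F : Type*} [Field F] [Fintype F] [CharP F 2] (m : ℕ)
    (h : 3 ≤ m ∨ 8 ≤ Fintype.card F) : H78.Pw.All 6 (Matrix.symplecticGroup (Fin m) F) := by
  intro g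
  apply pr_of_prB
  rcases h with h | h
  · have hV : Module.finrank F (Fin m ⊕ Fin m → F) = 2 * m := by
      rw [Module.finrank_fintype_fun_eq_card, Fintype.card_sum, Fintype.card_fin]
      ring
    exact prB_two Cfsg.Agent.S2445.form_alt Cfsg.Agent.S2445.form_nond hV h (Cfsg.Agent.S2445.act_iso g)
  · obtain ⟨a, k, ha, ha2, hk, hk6⟩ := exists_a h
    exact prB_pieces ha ha2 hk hk6 (Or.inl CharTwo.two_eq_zero) Cfsg.Agent.S2445.form_alt
      Cfsg.Agent.S2445.form_nond (Cfsg.Agent.S2445.act_iso g)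

/-- **`PSp_2m(2^e)`: products of two elements of order prime to `6`** -/
theorem six_psp_two {F : Type*} [Field F] [Fintype F] [CharP F 2] (m : ℕ)
    (h : 3 ≤ m ∨ 8 ≤ Fintype.card F) : H78.Pw.All 6 (PSp m F) :=
  H78.Pw.All.of_surjective (QuotientGroup.mk' _) (QuotientGroup.mk'_surjective _) (six_sp_two m h)

end Cfsg.Agent.H649.PwSp
end
end

-- part: H240/Sp44/Main
section
prune_inst 0x305071043402000000000596b3201c22ba00042000080800a8a0030206c0c4208dc0a820ba1014041a26000568310868110000800240000004000400011c008010800000a1080000800016000000000000000000000000000000000000000000000000000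
set_option linter.all false
open scoped Cfsg.Agent.FastGrp

-- part: H240/Sp44/Code
section
/-!
# S2465, `PSp₄(4)`: coded matrices over the field of four elements (helper240)
-/

set_option autoImplicit false

namespace Cfsg.Agent.H240.Sp44

/-- digit `t` (two bits) -/
def dg (k t : ℕ) : ℕ := Nat.land (Nat.shiftRight k (Nat.mul 2 t)) 3

/-- product of codes -/
def m4 (a b : ℕ) : ℕ := dg 2625168384 (Nat.add (Nat.mul 4 a) b)

/-- packing -/
def pk (c : ℕ → ℕ) (n : ℕ) : ℕ := Nat.rec 0 (fun t ih => Nat.add ih (Nat.shiftLeft (c t) (Nat.mul 2 t))) n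

/-- entry of a product -/
def en (a b i j : ℕ) : ℕ :=
  Nat.xor (Nat.xor (m4 (dg a (Nat.mul 4 i)) (dg b j)) (m4 (dg a (Nat.add (Nat.mul 4 i) 1)) (dg b (Nat.add 4 j))))
    (Nat.xor (m4 (dg a (Nat.add (Nat.mul 4 i) 2)) (dg b (Nat.add 8 j)))
      (m4 (dg a (Nat.add (Nat.mul 4 i) 3)) (dg b (Nat.add 12 j))))

/-- product of coded `4 × 4` matrices -/
def mu (a b : ℕ) : ℕ := pk (fun t => en a b (Nat.div t 4) (Nat.mod t 4)) 16

/-- transpose -/
def tr (a : ℕ) : ℕ := pk (fun t => dg a (Nat.add (Nat.mul 4 (Nat.mod t 4)) (Nat.div t 4))) 16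

/-- the identity -/
def ic : ℕ := 1074791425

/-- the form -/
def jc : ℕ := 67190800

/-- `x ^ 17 = 1` -/
def p17 (x : ℕ) : Bool :=
  Nat.beq (mu (mu (mu (mu (mu x x) (mu x x)) (mu (mu x x) (mu x x))) (mu (mu (mu x x) (mu x x)) (mu (mu x x) (mu x x)))) x) ic

/-- `x ^ 5 = 1` -/
def p5 (x : ℕ) : Bool := Nat.beq (mu (mu (mu x x) (mu x x)) x) ic

/-- elements of order 17 and 5 -/
def xs : ℕ → ℕ
  | 0 => 3574182062 | 1 => 3572820791 | 2 => 1745804895 | 3 => 1682146044 | 4 => 4150962442 | 5 => 1776218058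
  | 6 => 1134369346 | _ => 343776044

/-- their inverses -/
def zs : ℕ → ℕ
  | 0 => 908438756 | 1 => 2515586999 | 2 => 4222800984 | 3 => 881046840 | 4 => 2792263054 | 5 => 3957782409
  | 6 => 2209158721 | _ => 3082912103

/-- representatives -/
def lc : ℕ → ℕ
  | 0 => 1074791425 | 1 => 1074856961 | 2 => 1091830785 | _ => 1141965825

/-- `[[1, B], [0, 1]]` -/
def uc (a b c : ℕ) : ℕ :=
  Nat.add ic (Nat.add (Nat.shiftLeft a 4) (Nat.add (Nat.shiftLeft b 6) (Nat.add (Nat.shiftLeft b 12) (Nat.shiftLeft c 14))))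

/-- the witnesses -/
def tab : ℕ := 13348269058178001670093326562916949719590265191646657511503872843868015842665241025096730033711702317051105691505341648024385740757004903719599437257866169491648314163020034096658816349323161915788707525210147275384487768288544607810138402477670301975656680253952401702065815641717120848567894694912365441312

/-- all `k < n` satisfy `P` -/
def alb (n : ℕ) (P : ℕ → Bool) : Bool := Nat.rec true (fun k ih => bif P k then ih else false) n

theorem of_alb {n : ℕ} {P : ℕ → Bool} (h : alb n P = true) : ∀ k < n, P k = true := by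
  induction n with
  | zero => intro k hk; exact absurd hk (Nat.not_lt_zero k)
  | succ m ih =>
    have h1 : (bif P m then alb m P else false) = true := h
    intro k hk
    rcases hP : P m with _ | _
    · rw [hP, cond_false] at h1; cases h1
    · rw [hP, cond_true] at h1
      rcases Nat.lt_succ_iff_lt_or_eq.1 hk with h2 | h2
      · exact ih h1 k h2
      · rw [h2]; exact hP

/-- the test of a witness -/
def tw (v y : ℕ) : Bool := bif Nat.blt v 8 then p17 y else p5 y

/-- the check of one pair -/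
def chk1 (r k : ℕ) : Bool :=
  tw (Nat.land (Nat.shiftRight tab (Nat.mul 4 (Nat.add (Nat.mul 64 r) k))) 15)
    (mu (zs (Nat.land (Nat.shiftRight tab (Nat.mul 4 (Nat.add (Nat.mul 64 r) k))) 7))
      (mu (lc r) (uc (Nat.land k 3) (Nat.land (Nat.shiftRight k 2) 3) (Nat.land (Nat.shiftRight k 4) 3))))

theorem chk_all : (alb 4 fun r => alb 64 (chk1 r)) = true := by decide +kernel

/-- the check of the list -/
def chkx (i : ℕ) : Bool :=
  bif Nat.beq (mu (xs i) (zs i)) ic then
    (bif Nat.beq (mu (mu (xs i) jc) (tr (xs i))) jc then (bif Nat.blt i 6 then p17 (xs i) else p5 (xs i)) else false)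
  else false

theorem chkx_all : alb 8 chkx = true := by decide +kernel

end Cfsg.Agent.H240.Sp44
end

-- part: H240/Sp44/Dec
section
/-!
# S2465, `PSp₄(4)`: decoding (helper240)
-/

set_option autoImplicit false

namespace Cfsg.Agent.H240.Sp44

open Matrix

theorem dg_eq (k t : ℕ) : dg k t = k / 4 ^ t % 4 := by
  have h1 : dg k t = (k >>> (2 * t)) &&& 3 := rfl
  rw [h1, Nat.shiftRight_eq_div_pow, pow_mul]
  have h2 : (2 : ℕ) ^ 2 - 1 = 3 := rfl
  rw [← h2, Nat.and_two_pow_sub_one_eq_mod, show (2 : ℕ) ^ 2 = 4 by norm_num]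

theorem dg_lt (k t : ℕ) : dg k t < 4 := by
  rw [dg_eq]
  exact Nat.mod_lt _ (by norm_num)

theorem pk_succ (c : ℕ → ℕ) (n : ℕ) : pk c (n + 1) = pk c n + c n * 4 ^ n := by
  have h1 : pk c (n + 1) = pk c n + (c n <<< (2 * n)) := rfl
  rw [h1, Nat.shiftLeft_eq, pow_mul, show (2 : ℕ) ^ 2 = 4 by norm_num]

theorem pk_lt {c : ℕ → ℕ} (hc : ∀ t, c t < 4) (n : ℕ) : pk c n < 4 ^ n := by
  induction n with
  | zero => exact Nat.one_pos
  | succ n ih =>
    rw [pk_succ, pow_succ]
    have h1 : c n * 4 ^ n ≤ 3 * 4 ^ n := Nat.mul_le_mul_right _ (Nat.le_of_lt_succ (hc n))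
    omega

theorem dg_pk {c : ℕ → ℕ} (hc : ∀ t, c t < 4) (n t : ℕ) (ht : t < n) : dg (pk c n) t = c t := by
  induction n with
  | zero => exact absurd ht (Nat.not_lt_zero t)
  | succ n ih =>
    rw [dg_eq, pk_succ]
    rcases Nat.lt_succ_iff_lt_or_eq.1 ht with h1 | h1
    · have h2 := ih h1
      rw [dg_eq] at h2
      obtain ⟨m, hm⟩ : ∃ m, n = t + 1 + m := ⟨n - (t + 1), by omega⟩
      have h3 : c n * 4 ^ n = 4 ^ t * (4 * (c n * 4 ^ m)) := by
        rw [hm, pow_add, pow_add, pow_one]; ring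
      rw [h3, Nat.add_mul_div_left _ _ (by positivity), Nat.add_mul_mod_self_left]
      exact h2
    · subst h1
      rw [Nat.add_mul_div_right _ _ (by positivity), Nat.div_eq_of_lt (pk_lt hc t), zero_add]
      exact Nat.mod_eq_of_lt (hc t)

theorem m4_lt (a b : ℕ) : m4 a b < 4 := dg_lt _ _

theorem xor_lt {a b : ℕ} (ha : a < 4) (hb : b < 4) : Nat.xor a b < 4 := Nat.xor_lt_two_pow (n := 2) ha hb

theorem en_lt (a b i j : ℕ) : en a b i j < 4 :=
  xor_lt (xor_lt (m4_lt _ _) (m4_lt _ _)) (xor_lt (m4_lt _ _) (m4_lt _ _))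

section

variable {F : Type*} [Field F] (w : F)

/-- the value of a code -/
def de : ℕ → F
  | 0 => 0
  | 1 => 1
  | 2 => w
  | _ => w + 1

/-- index -/
def ix : Fin 2 ⊕ Fin 2 → ℕ
  | Sum.inl i => i
  | Sum.inr i => i + 2

theorem ix_lt (i : Fin 2 ⊕ Fin 2) : ix i < 4 := by
  rcases i with i | i
  · show (i : ℕ) < 4; omega
  · show (i : ℕ) + 2 < 4; omega

/-- the matrix of a code -/
def Dm (k : ℕ) : Matrix (Fin 2 ⊕ Fin 2) (Fin 2 ⊕ Fin 2) F := Matrix.of fun i j => de w (dg k (4 * ix i + ix j))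

theorem Dm_apply (k : ℕ) (i j : Fin 2 ⊕ Fin 2) : Dm w k i j = de w (dg k (4 * ix i + ix j)) := rfl

variable {w} (hw : w * w = w + 1) (h2 : (2 : F) = 0)

include h2 in
theorem de_xor {a b : ℕ} (ha : a < 4) (hb : b < 4) : de w (Nat.xor a b) = de w a + de w b := by
  interval_cases a <;> interval_cases b <;>
    [((show (0 : F) = 0 + 0; ring)); ((show (1 : F) = 0 + 1; ring)); ((show (w : F) = 0 + w; ring)); ((show (w + 1 : F) = 0 + (w + 1); ring));
     ((show (1 : F) = 1 + 0; ring)); ((show (0 : F) = 1 + 1; linear_combination -h2)); ((show (w + 1 : F) = 1 + w; ring));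
     ((show (w : F) = 1 + (w + 1); linear_combination -h2)); ((show (w : F) = w + 0; ring)); ((show (w + 1 : F) = w + 1; ring));
     ((show (0 : F) = w + w; linear_combination -w * h2)); ((show (1 : F) = w + (w + 1); linear_combination -w * h2));
     ((show (w + 1 : F) = (w + 1) + 0; ring)); ((show (w : F) = (w + 1) + 1; linear_combination -h2));
     ((show (1 : F) = (w + 1) + w; linear_combination -w * h2)); ((show (0 : F) = (w + 1) + (w + 1); linear_combination -(w + 1) * h2))]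

include hw h2 in
theorem de_m4 {a b : ℕ} (ha : a < 4) (hb : b < 4) : de w (m4 a b) = de w a * de w b := by
  interval_cases a <;> interval_cases b <;>
    [((show (0 : F) = 0 * _; ring)); ((show (0 : F) = 0 * _; ring)); ((show (0 : F) = 0 * _; ring)); ((show (0 : F) = 0 * _; ring));
     ((show (0 : F) = _ * 0; ring)); ((show (1 : F) = 1 * 1; ring)); ((show (w : F) = 1 * w; ring)); ((show (w + 1 : F) = 1 * (w + 1); ring));
     ((show (0 : F) = _ * 0; ring)); ((show (w : F) = w * 1; ring)); ((show (w + 1 : F) = w * w; linear_combination -hw));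
     ((show (1 : F) = w * (w + 1); linear_combination -hw - w * h2)); ((show (0 : F) = _ * 0; ring)); ((show (w + 1 : F) = (w + 1) * 1; ring));
     ((show (1 : F) = (w + 1) * w; linear_combination -hw - w * h2)); ((show (w : F) = (w + 1) * (w + 1); linear_combination -hw - (w + 1) * h2))]

include hw h2 in
theorem Dm_mul (a b : ℕ) : Dm w (mu a b) = Dm w a * Dm w b := by
  ext i j
  have hi := ix_lt i
  have hj := ix_lt j
  have h1 : dg (mu a b) (4 * ix i + ix j) = en a b (ix i) (ix j) := by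
    unfold mu
    rw [dg_pk (fun t => en_lt a b _ _) 16 _ (by omega)]
    congr 1
    · show (4 * ix i + ix j) / 4 = ix i
      omega
    · show (4 * ix i + ix j) % 4 = ix j
      omega
  rw [Dm_apply, h1, Matrix.mul_apply, Fintype.sum_sum_type, Fin.sum_univ_two, Fin.sum_univ_two]
  unfold en
  rw [de_xor h2 (xor_lt (m4_lt _ _) (m4_lt _ _)) (xor_lt (m4_lt _ _) (m4_lt _ _)),
    de_xor h2 (m4_lt _ _) (m4_lt _ _), de_xor h2 (m4_lt _ _) (m4_lt _ _), de_m4 hw h2 (dg_lt _ _) (dg_lt _ _),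
    de_m4 hw h2 (dg_lt _ _) (dg_lt _ _), de_m4 hw h2 (dg_lt _ _) (dg_lt _ _), de_m4 hw h2 (dg_lt _ _) (dg_lt _ _)]
  simp only [Dm_apply]
  have e0 : ix (Sum.inl 0) = 0 := rfl
  have e1 : ix (Sum.inl 1) = 1 := rfl
  have e2 : ix (Sum.inr 0) = 2 := rfl
  have e3 : ix (Sum.inr 1) = 3 := rfl
  rw [e0, e1, e2, e3]
  have f0 : 4 * 0 + ix j = ix j := by omega
  rw [f0]
  rfl

theorem Dm_tr (a : ℕ) : Dm w (tr a) = (Dm w a)ᵀ := by
  ext i j
  have hi := ix_lt i
  have hj := ix_lt j
  have h1 : dg (tr a) (4 * ix i + ix j) = dg a (4 * ((4 * ix i + ix j) % 4) + (4 * ix i + ix j) / 4) :=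
    dg_pk (c := fun t => dg a (Nat.add (Nat.mul 4 (Nat.mod t 4)) (Nat.div t 4))) (fun t => dg_lt _ _) 16 _ (by omega)
  have h3 : 4 * ((4 * ix i + ix j) % 4) + (4 * ix i + ix j) / 4 = 4 * ix j + ix i := by omega
  rw [Matrix.transpose_apply, Dm_apply, Dm_apply, h1, h3]

theorem Dm_ic : Dm w ic = 1 := by
  ext i j
  rcases i with i | i <;> rcases j with j | j <;> fin_cases i <;> fin_cases j <;>
    [(exact (show (1 : F) = 1 from rfl)); ((rw [Matrix.one_apply_ne (by decide)]; rfl)); ((rw [Matrix.one_apply_ne (by decide)]; rfl));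
     (exact (show (1 : F) = 1 from rfl)); ((rw [Matrix.one_apply_ne (by decide)]; rfl)); ((rw [Matrix.one_apply_ne (by decide)]; rfl));
     ((rw [Matrix.one_apply_ne (by decide)]; rfl)); ((rw [Matrix.one_apply_ne (by decide)]; rfl)); ((rw [Matrix.one_apply_ne (by decide)]; rfl));
     ((rw [Matrix.one_apply_ne (by decide)]; rfl)); ((rw [Matrix.one_apply_ne (by decide)]; rfl)); ((rw [Matrix.one_apply_ne (by decide)]; rfl));
     (exact (show (1 : F) = 1 from rfl)); ((rw [Matrix.one_apply_ne (by decide)]; rfl)); ((rw [Matrix.one_apply_ne (by decide)]; rfl));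
     (exact (show (1 : F) = 1 from rfl))]

include h2 in
theorem Dm_jc : Dm w jc = Matrix.J (Fin 2) F := by
  have h1 : (-1 : F) = 1 := by linear_combination -h2
  rw [Matrix.J]
  ext i j
  rcases i with i | i <;> rcases j with j | j <;> (revert i j; simp only [Matrix.one_apply, h1, _root_.Fin.forall_fin_succ, _root_.Matrix.fromBlocks_apply₁₁, _root_.Matrix.zero_apply, Fin.isValue, _root_.Fin.succ_zero_eq_one, _root_.IsEmpty.forall_iff, _root_.and_true, _root_.Matrix.fromBlocks_apply₁₂, _root_.Matrix.neg_apply, ↓reduceIte, _root_.zero_ne_one, _root_.neg_zero, _root_.Fin.succ_ne_zero, _root_.Matrix.fromBlocks_apply₂₁, _root_.Matrix.fromBlocks_apply₂₂]) <;> (repeat' with_reducible apply And.intro) <;> rfl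

include hw h2 in
theorem pow_of_p17 {x : ℕ} (h : p17 x = true) : Dm w x ^ 17 = 1 := by
  have h1 := Nat.eq_of_beq_eq_true h
  have h3 := congrArg (Dm w) h1
  rw [Dm_ic] at h3
  simp only [Dm_mul hw h2] at h3
  rw [← h3]
  simp only [pow_succ, pow_zero, one_mul, ← mul_assoc]

include hw h2 in
theorem pow_of_p5 {x : ℕ} (h : p5 x = true) : Dm w x ^ 5 = 1 := by
  have h1 := Nat.eq_of_beq_eq_true h
  have h3 := congrArg (Dm w) h1
  rw [Dm_ic] at h3
  simp only [Dm_mul hw h2] at h3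
  rw [← h3]
  simp only [pow_succ, pow_zero, one_mul, ← mul_assoc]

include hw h2 in
theorem pow_of_tw {v y : ℕ} (h : tw v y = true) : Dm w y ^ 17 = 1 ∨ Dm w y ^ 5 = 1 := by
  unfold tw at h
  rcases hv : Nat.blt v 8 with _ | _
  · rw [hv, cond_false] at h
    exact Or.inr (pow_of_p5 hw h2 h)
  · rw [hv, cond_true] at h
    exact Or.inl (pow_of_p17 hw h2 h)

include hw h2 in
theorem list_spec {i : ℕ} (hi : i < 8) : Dm w (xs i) * Dm w (zs i) = 1 ∧ Dm w (xs i) ∈ symplecticGroup (Fin 2) F ∧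
    (Dm w (xs i) ^ 17 = 1 ∨ Dm w (xs i) ^ 5 = 1) := by
  have h := of_alb chkx_all i hi
  unfold chkx at h
  rcases h1 : Nat.beq (mu (xs i) (zs i)) ic with _ | _
  · rw [h1, cond_false] at h; cases h
  rw [h1, cond_true] at h
  rcases h3 : Nat.beq (mu (mu (xs i) jc) (tr (xs i))) jc with _ | _
  · rw [h3, cond_false] at h; cases h
  rw [h3, cond_true] at h
  refine ⟨?_, ?_, ?_⟩
  · have := congrArg (Dm w) (Nat.eq_of_beq_eq_true h1)
    rwa [Dm_mul hw h2, Dm_ic] at this
  · have := congrArg (Dm w) (Nat.eq_of_beq_eq_true h3)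
    rw [Dm_mul hw h2, Dm_mul hw h2, Dm_tr, Dm_jc h2] at this
    exact SymplecticGroup.mem_iff.2 this
  · rcases h4 : Nat.blt i 6 with _ | _
    · rw [h4, cond_false] at h
      exact Or.inr (pow_of_p5 hw h2 h)
    · rw [h4, cond_true] at h
      exact Or.inl (pow_of_p17 hw h2 h)

include hw h2 in
/-- **the pairs** -/
theorem pair_spec {r k : ℕ} (hr : r < 4) (hk : k < 64) : ∃ X Y : Matrix (Fin 2 ⊕ Fin 2) (Fin 2 ⊕ Fin 2) F,
    Dm w (lc r) * Dm w (uc (Nat.land k 3) (Nat.land (Nat.shiftRight k 2) 3) (Nat.land (Nat.shiftRight k 4) 3)) = X * Y ∧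
      X ∈ symplecticGroup (Fin 2) F ∧ (X ^ 17 = 1 ∨ X ^ 5 = 1) ∧ (Y ^ 17 = 1 ∨ Y ^ 5 = 1) := by
  have h := of_alb (of_alb chk_all r hr) k hk
  unfold chk1 at h
  have h7 : Nat.land (Nat.shiftRight tab (Nat.mul 4 (Nat.add (Nat.mul 64 r) k))) 7 < 8 := by
    have e : Nat.land (Nat.shiftRight tab (Nat.mul 4 (Nat.add (Nat.mul 64 r) k))) 7 =
        (Nat.shiftRight tab (Nat.mul 4 (Nat.add (Nat.mul 64 r) k))) % 2 ^ 3 :=
      Nat.and_two_pow_sub_one_eq_mod _ 3
    rw [e]
    exact Nat.mod_lt _ (by norm_num)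
  obtain ⟨h3, h4, h5⟩ := list_spec hw h2 h7
  refine ⟨_, _, ?_, h4, h5, pow_of_tw hw h2 h⟩
  rw [Dm_mul hw h2, Dm_mul hw h2, ← Matrix.mul_assoc, h3, Matrix.one_mul]

end

end Cfsg.Agent.H240.Sp44
end

-- part: H240/Sp44/Norm
section
/-!
# S2465, `PSp₄(4)`: normal forms of the elements of `Sp₄(4)` up to conjugacy (helper240)
-/

set_option autoImplicit false

namespace Cfsg.Agent.H240.Sp44

open Matrix Cfsg.Agent.H144 Cfsg.Agent.H649.PwSp
open Cfsg.Agent.S2445 (form form_alt form_nond form_apply act act_apply act_iso)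

section frame

variable {F : Type*} [Field F]

theorem form_cols (H : Matrix (Fin 2 ⊕ Fin 2) (Fin 2 ⊕ Fin 2) F) (a b : Fin 2 ⊕ Fin 2) :
    (Hᵀ * J (Fin 2) F * H) a b = form F 2 (fun c => H c a) (fun c => H c b) := by
  rw [form_apply, Matrix.mul_assoc]
  rfl

theorem form_single (c : Fin 2 ⊕ Fin 2 → F) (k : Fin 2) : form F 2 c (Pi.single (Sum.inr k) 1) = - c (Sum.inl k) := by
  rw [form_apply, Matrix.mulVec_single_one]
  simp only [dotProduct, Fintype.sum_sum_type, Matrix.J, Matrix.col_apply, Matrix.fromBlocks_apply₁₂,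
    Matrix.fromBlocks_apply₂₂, Matrix.zero_apply, mul_zero, Finset.sum_const_zero, add_zero, Matrix.neg_apply,
    Matrix.one_apply]
  simp

/-- a symplectic basis adapted to `g` -/
theorem exists_frame [Finite F] (h2 : (2 : F) = 0) (g : symplecticGroup (Fin 2) F) :
    ∃ h : symplecticGroup (Fin 2) F, ∀ i k : Fin 2,
      ((h⁻¹ * g * h : symplecticGroup (Fin 2) F) : Matrix (Fin 2 ⊕ Fin 2) (Fin 2 ⊕ Fin 2) F) (Sum.inl k) (Sum.inl i) =
        (1 : Matrix (Fin 2) (Fin 2) F) k i := by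
  have hneg : ∀ x : F, -x = x := fun x => by linear_combination -x * h2
  have hB := form_alt (F := F) (m := 2)
  have hN := form_nond (F := F) (m := 2)
  have hV : Module.finrank F (Fin 2 ⊕ Fin 2 → F) = 4 := by
    rw [Module.finrank_fintype_fun_eq_card, Fintype.card_sum, Fintype.card_fin]
  obtain ⟨P, Q, hP, hQ, hPQ, hPg⟩ := c1_two h2 4 (Fin 2 ⊕ Fin 2 → F) (form F 2) hB hN hV (act g) (act_iso g)
  have hfP : Module.finrank F P = 2 := by
    have := finrank_two hB hN hP hQ hPQ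
    omega
  have hfQ : Module.finrank F Q = 2 := by
    have := finrank_two hB hN hQ hP (by rw [sup_comm]; exact hPQ)
    omega
  let e : Module.Basis (Fin 2) F P := Module.finBasisOfFinrankEq F P hfP
  let φ : Q →ₗ[F] (Fin 2 → F) := LinearMap.pi fun i => (form F 2 (e i : Fin 2 ⊕ Fin 2 → F)).comp Q.subtype
  have hφ : ∀ (q : Q) (i : Fin 2), φ q i = form F 2 (e i : Fin 2 ⊕ Fin 2 → F) q := fun _ _ => rfl
  have hinj : Function.Injective φ := by
    rw [← LinearMap.ker_eq_bot, LinearMap.ker_eq_bot']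
    intro q hq
    have h0 : ∀ p : P, form F 2 (p : Fin 2 ⊕ Fin 2 → F) q = 0 := by
      intro p
      rw [← e.sum_repr p]
      simp only [Submodule.coe_sum, Submodule.coe_smul, map_sum, map_smul, LinearMap.sum_apply, LinearMap.smul_apply]
      apply Finset.sum_eq_zero
      intro i _
      rw [← hφ, hq, Pi.zero_apply, smul_zero]
    have h1 : (q : Fin 2 ⊕ Fin 2 → F) = 0 := by
      apply eq_zero_of_orth hN hPQ
      · intro w hw
        exact hB.zero (h0 ⟨w, hw⟩)
      · intro w hw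
        exact hQ q q.2 w hw
    exact Subtype.ext h1
  have hsurj : Function.Surjective φ := by
    rw [← LinearMap.injective_iff_surjective_of_finrank_eq_finrank (by rw [hfQ, Module.finrank_fintype_fun_eq_card,
      Fintype.card_fin])]
    exact hinj
  choose f hf using fun j : Fin 2 => hsurj (Pi.single j 1)
  have hef : ∀ i j : Fin 2, form F 2 (e i : Fin 2 ⊕ Fin 2 → F) (f j : Fin 2 ⊕ Fin 2 → F) = (1 : Matrix (Fin 2) (Fin 2) F) i j := by
    intro i j
    rw [← hφ, hf, Matrix.one_apply, Pi.single_apply]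
  let H : Matrix (Fin 2 ⊕ Fin 2) (Fin 2 ⊕ Fin 2) F := Matrix.of fun a b =>
    Sum.elim (fun i => (e i : Fin 2 ⊕ Fin 2 → F) a) (fun j => (f j : Fin 2 ⊕ Fin 2 → F) a) b
  have hHl : ∀ i, (fun c => H c (Sum.inl i)) = (e i : Fin 2 ⊕ Fin 2 → F) := fun i => rfl
  have hHr : ∀ i, (fun c => H c (Sum.inr i)) = (f i : Fin 2 ⊕ Fin 2 → F) := fun i => rfl
  have hH : H ∈ symplecticGroup (Fin 2) F := by
    rw [SymplecticGroup.mem_iff']
    ext a b
    rw [form_cols]
    rcases a with i | i <;> rcases b with j | j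
    · rw [hHl, hHl, hP _ (e i).2 _ (e j).2]
      rfl
    · rw [hHl, hHr, hef, Matrix.J, Matrix.fromBlocks_apply₁₂, Matrix.neg_apply, hneg]
    · rw [hHl, hHr, hB.neg, hef, Matrix.J, Matrix.fromBlocks_apply₂₁, hneg, Matrix.one_apply, Matrix.one_apply]
      simp only [eq_comm]
    · rw [hHr, hHr, hQ _ (f i).2 _ (f j).2]
      rfl
  refine ⟨⟨H, hH⟩, fun i k => ?_⟩
  set h : symplecticGroup (Fin 2) F := ⟨H, hH⟩ with hh
  have hs : act h (Pi.single (Sum.inl i) 1) = (e i : Fin 2 ⊕ Fin 2 → F) := by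
    rw [act_apply, Matrix.mulVec_single_one]
    rfl
  have ht : act h (Pi.single (Sum.inr k) 1) = (f k : Fin 2 ⊕ Fin 2 → F) := by
    rw [act_apply, Matrix.mulVec_single_one]
    rfl
  have h3 : act h (act (h⁻¹ * g * h) (Pi.single (Sum.inl i) 1)) = act g (e i : Fin 2 ⊕ Fin 2 → F) := by
    rw [← hs]
    simp only [act_apply]
    rw [Matrix.mulVec_mulVec, Matrix.mulVec_mulVec, ← Submonoid.coe_mul, ← Submonoid.coe_mul]
    congr 2
    group
  have h4 : form F 2 (act (h⁻¹ * g * h) (Pi.single (Sum.inl i) 1)) (Pi.single (Sum.inr k) 1) =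
      (1 : Matrix (Fin 2) (Fin 2) F) i k := by
    rw [← act_iso h, h3, ht]
    have h5 : act g (e i : Fin 2 ⊕ Fin 2 → F) = (e i : Fin 2 ⊕ Fin 2 → F) +
        (act g (e i : Fin 2 ⊕ Fin 2 → F) - (e i : Fin 2 ⊕ Fin 2 → F)) := by abel
    rw [h5, map_add, LinearMap.add_apply, hef, hQ _ (hPg _ (e i).2) _ (f k).2, add_zero]
  rw [form_single, act_apply, Matrix.mulVec_single_one] at h4
  have h6 : -((h⁻¹ * g * h : symplecticGroup (Fin 2) F) : Matrix (Fin 2 ⊕ Fin 2) (Fin 2 ⊕ Fin 2) F) (Sum.inl k) (Sum.inl i) =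
      (1 : Matrix (Fin 2) (Fin 2) F) i k := h4
  rw [hneg] at h6
  rw [h6, Matrix.one_apply, Matrix.one_apply]
  simp only [eq_comm]

/-- the shape of a symplectic matrix with first block `1` -/
theorem shape {G : Matrix (Fin 2 ⊕ Fin 2) (Fin 2 ⊕ Fin 2) F} (hG : G ∈ symplecticGroup (Fin 2) F)
    (h2 : (2 : F) = 0) (h1 : ∀ i k : Fin 2, G (Sum.inl k) (Sum.inl i) = (1 : Matrix (Fin 2) (Fin 2) F) k i) :
    ∃ B N : Matrix (Fin 2) (Fin 2) F, Bᵀ = B ∧ Nᵀ = N ∧ G = fromBlocks 1 B N (1 + N * B) := by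
  obtain ⟨B, N, D, rfl⟩ : ∃ B N D : Matrix (Fin 2) (Fin 2) F, G = fromBlocks 1 B N D := by
    refine ⟨G.toBlocks₁₂, G.toBlocks₂₁, G.toBlocks₂₂, ?_⟩
    have : G.toBlocks₁₁ = 1 := by
      ext k i
      exact h1 i k
    rw [← this, fromBlocks_toBlocks]
  rw [SymplecticGroup.mem_iff', Matrix.J, fromBlocks_transpose, fromBlocks_multiply, fromBlocks_multiply,
    fromBlocks_inj] at hG
  obtain ⟨a1, a2, a3, a4⟩ := hG
  simp only [Matrix.transpose_one, Matrix.mul_zero, Matrix.mul_one, Matrix.one_mul, zero_add, Matrix.mul_neg,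
    add_zero, Matrix.neg_mul] at a1 a2 a3 a4
  have e1 : Nᵀ = N := by
    have : Nᵀ + -N = 0 := a1
    exact add_neg_eq_zero.1 this
  have e2 : D = 1 + N * B := by
    rw [e1] at a2
    have := congrArg (fun M => -M + N * B) a2
    simp only [neg_add_rev, neg_neg] at this
    rw [← this]
    abel
  have e3 : Bᵀ = B := by
    rw [e2, Matrix.transpose_add, Matrix.transpose_one, Matrix.transpose_mul, e1] at a4
    rw [Matrix.add_mul, Matrix.mul_add, Matrix.one_mul, Matrix.mul_one, ← Matrix.mul_assoc] at a4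
    have : B - Bᵀ = 0 := by
      rw [← a4]; abel
    exact (sub_eq_zero.1 this).symm
  exact ⟨B, N, e3, e1, by rw [e2]⟩

end frame

end Cfsg.Agent.H240.Sp44
end

-- part: H240/Sp44/Main
section
/-!
# S2465, `PSp₄(4)`: every element is a product of two elements of order prime to six (helper240)
-/

set_option autoImplicit false

namespace Cfsg.Agent.H240.Sp44

open Matrix

section congruence

variable {F : Type*} [Field F]

/-- the representatives -/
def Rr (F : Type*) [Field F] : ℕ → Matrix (Fin 2) (Fin 2) F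
  | 0 => !![0, 0; 0, 0]
  | 1 => !![1, 0; 0, 0]
  | 2 => !![0, 1; 1, 0]
  | _ => !![1, 0; 0, 1]

/-- congruent to a representative -/
def Red (N : Matrix (Fin 2) (Fin 2) F) : Prop :=
  ∃ A A' : Matrix (Fin 2) (Fin 2) F, A * A' = 1 ∧ A' * A = 1 ∧ ∃ r < 4, Aᵀ * N * A = Rr F r

theorem Red.congr {N C C' : Matrix (Fin 2) (Fin 2) F} (h : Red (Cᵀ * N * C)) (h1 : C * C' = 1) (h2 : C' * C = 1) :
    Red N := by
  obtain ⟨A, A', a1, a2, r, hr, e⟩ := h
  refine ⟨C * A, A' * C', ?_, ?_, r, hr, ?_⟩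
  · rw [Matrix.mul_assoc, ← Matrix.mul_assoc A, a1, Matrix.one_mul, h1]
  · rw [Matrix.mul_assoc, ← Matrix.mul_assoc C', h2, Matrix.one_mul, a2]
  · rw [← e, Matrix.transpose_mul]
    simp only [Matrix.mul_assoc]

theorem mk_congr {p q r s p' q' r' s' : F} (h1 : p = p') (h2 : q = q') (h3 : r = r') (h4 : s = s') :
    (!![p, q; r, s] : Matrix (Fin 2) (Fin 2) F) = !![p', q'; r', s'] := by
  rw [h1, h2, h3, h4]

theorem tr_two (p q r s : F) : (!![p, q; r, s] : Matrix (Fin 2) (Fin 2) F)ᵀ = !![p, r; q, s] := by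
  ext i j
  fin_cases i <;> fin_cases j <;> rfl

theorem red_one {a b c : F} (h2 : (2 : F) = 0) (h4 : ∀ x : F, x ^ 4 = x) (ha : a ≠ 0) : Red !![a, b; b, c] := by
  have hs : (a ^ 2) ≠ 0 := pow_ne_zero 2 ha
  have h3 : ∀ x : F, x ≠ 0 → x ^ 3 = 1 := fun x hx => by
    apply mul_left_cancel₀ hx
    rw [mul_one, ← pow_succ']
    exact h4 x
  -- first step
  have e1 : (!![(a ^ 2)⁻¹, b / a; 0, 1] : Matrix (Fin 2) (Fin 2) F)ᵀ * !![a, b; b, c] * !![(a ^ 2)⁻¹, b / a; 0, 1] =
      !![1, 0; 0, b ^ 2 / a + c] := by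
    rw [tr_two, Matrix.mul_fin_two, Matrix.mul_fin_two]
    refine mk_congr ?_ ?_ ?_ ?_
    · field_simp
      linear_combination -h3 a ha
    · field_simp
      linear_combination b * h2
    · field_simp
      linear_combination b * h2
    · field_simp
      linear_combination b ^ 2 * h2
  have e2 : (!![(a ^ 2)⁻¹, b / a; 0, 1] : Matrix (Fin 2) (Fin 2) F) * !![a ^ 2, -(b * a); 0, 1] = 1 := by
    ext i j
    (revert i j; simp only [Matrix.mul_apply, Fin.sum_univ_two, _root_.Fin.forall_fin_succ, _root_.Matrix.of_apply, _root_.Matrix.cons_val', _root_.Matrix.cons_val_fin_one, Fin.isValue, _root_.Matrix.cons_val_zero, _root_.Matrix.cons_val_one, _root_.MulZeroClass.mul_zero, _root_.add_zero, _root_.Matrix.cons_val_succ, _root_.mul_neg, _root_.mul_one, _root_.IsEmpty.forall_iff, _root_.and_true, _root_.Matrix.one_apply_eq, Nat.reduceAdd, _root_.Fin.succ_zero_eq_one, _root_.ne_eq, _root_.zero_ne_one, _root_.not_false_eq_true, _root_.Matrix.one_apply_ne, _root_.MulZeroClass.zero_mul,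 _root_.Fin.succ_ne_zero, _root_.neg_zero, _root_.zero_add, _root_.true_and, _root_.and_self]) <;> (repeat' with_reducible apply And.intro) <;> field_simp <;> ring
  have e3 : (!![a ^ 2, -(b * a); 0, 1] : Matrix (Fin 2) (Fin 2) F) * !![(a ^ 2)⁻¹, b / a; 0, 1] = 1 := by
    ext i j
    (revert i j; simp only [Matrix.mul_apply, Fin.sum_univ_two, _root_.Fin.forall_fin_succ, _root_.Matrix.of_apply, _root_.Matrix.cons_val', _root_.Matrix.cons_val_fin_one, Fin.isValue, _root_.Matrix.cons_val_zero, _root_.Matrix.cons_val_one, _root_.MulZeroClass.mul_zero, _root_.add_zero, _root_.Matrix.cons_val_succ, _root_.mul_one, _root_.IsEmpty.forall_iff, _root_.and_true, _root_.Matrix.one_apply_eq, Nat.reduceAdd, _root_.Fin.succ_zero_eq_one, _root_.ne_eq, _root_.zero_ne_one, _root_.not_false_eq_true, _root_.Matrix.one_apply_ne, _root_.MulZeroClass.zero_mul, _root_.Fin.succ_ne_zero, _root_.zero_add, _root_.true_and, _root_.and_self]) <;> (repeat' with_reducible apply And.intro)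 <;> field_simp <;> ring
  refine Red.congr ?_ e2 e3
  rw [e1]
  obtain ⟨d, hd⟩ : ∃ d, d = b ^ 2 / a + c := ⟨_, rfl⟩
  rw [← hd]
  by_cases hd0 : d = 0
  · refine ⟨1, 1, by simp, by simp, 1, by norm_num, ?_⟩
    rw [hd0]
    simp [Rr]
  · have ht : d ^ 2 ≠ 0 := pow_ne_zero 2 hd0
    refine ⟨!![1, 0; 0, (d ^ 2)⁻¹], !![1, 0; 0, d ^ 2], ?_, ?_, 3, by norm_num, ?_⟩
    · ext i j
      (revert i j; simp only [Matrix.mul_apply, Fin.sum_univ_two, ht, _root_.Fin.forall_fin_succ, _root_.Matrix.of_apply, _root_.Matrix.cons_val', _root_.Matrix.cons_val_fin_one, Fin.isValue, _root_.Matrix.cons_val_zero, _root_.Matrix.cons_val_one, _root_.mul_one, _root_.MulZeroClass.mul_zero, _root_.add_zero, _root_.Matrix.cons_val_succ, _root_.zero_add, _root_.IsEmpty.forall_iff, _root_.and_true, _root_.Matrix.one_apply_eq, _root_.MulZeroClass.zero_mul, Nat.reduceAdd, _root_.Fin.succ_zero_eq_one, _root_.ne_eq, _root_.zero_ne_one, _root_.not_false_eq_true, _root_.Matrix.one_apply_ne,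 _root_.and_self, _root_.Fin.succ_ne_zero, _root_.inv_mul_cancel₀, _root_.true_and])
    · ext i j
      (revert i j; simp only [Matrix.mul_apply, Fin.sum_univ_two, ht, _root_.Fin.forall_fin_succ, _root_.Matrix.of_apply, _root_.Matrix.cons_val', _root_.Matrix.cons_val_fin_one, Fin.isValue, _root_.Matrix.cons_val_zero, _root_.Matrix.cons_val_one, _root_.mul_one, _root_.MulZeroClass.mul_zero, _root_.add_zero, _root_.Matrix.cons_val_succ, _root_.zero_add, _root_.IsEmpty.forall_iff, _root_.and_true, _root_.Matrix.one_apply_eq, _root_.MulZeroClass.zero_mul, Nat.reduceAdd, _root_.Fin.succ_zero_eq_one, _root_.ne_eq, _root_.zero_ne_one, _root_.not_false_eq_true, _root_.Matrix.one_apply_ne, _root_.and_self, _root_.Fin.succ_ne_zero, _root_.mul_inv_cancel₀, _root_.true_and])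
    · rw [tr_two, Matrix.mul_fin_two, Matrix.mul_fin_two]
      refine mk_congr ?_ ?_ ?_ ?_
      · ring
      · ring
      · ring
      · field_simp
        linear_combination -h3 d hd0

theorem red {a b c : F} (h2 : (2 : F) = 0) (h4 : ∀ x : F, x ^ 4 = x) : Red !![a, b; b, c] := by
  by_cases ha : a = 0
  swap
  · exact red_one h2 h4 ha
  by_cases hc : c = 0
  swap
  · refine Red.congr (C := !![0, 1; 1, 0]) (C' := !![0, 1; 1, 0]) ?_ ?_ ?_
    · have e : (!![0, 1; 1, 0] : Matrix (Fin 2) (Fin 2) F)ᵀ * !![a, b; b, c] * !![0, 1; 1, 0] = !![c, b; b, a] := by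
        ext i j
        (revert i j; simp only [Matrix.mul_apply, Fin.sum_univ_two, _root_.Fin.forall_fin_succ, _root_.Matrix.transpose_apply, _root_.Matrix.of_apply, _root_.Matrix.cons_val', _root_.Matrix.cons_val_fin_one, Fin.isValue, _root_.Matrix.cons_val_zero, _root_.Matrix.cons_val_one, _root_.MulZeroClass.mul_zero, _root_.mul_one, _root_.zero_add, _root_.Matrix.cons_val_succ, _root_.add_zero, _root_.forall_const, _root_.MulZeroClass.zero_mul, _root_.one_mul, _root_.and_self, _root_.implies_true])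
      rw [e]
      exact red_one h2 h4 hc
    · ext i j
      (revert i j; simp only [Matrix.mul_apply, Fin.sum_univ_two, _root_.Fin.forall_fin_succ, _root_.Matrix.of_apply, _root_.Matrix.cons_val', _root_.Matrix.cons_val_fin_one, Fin.isValue, _root_.Matrix.cons_val_zero, _root_.Matrix.cons_val_one, _root_.MulZeroClass.mul_zero, _root_.mul_one, _root_.zero_add, _root_.Matrix.cons_val_succ, _root_.add_zero, _root_.IsEmpty.forall_iff, _root_.and_true, _root_.Matrix.one_apply_eq, Nat.reduceAdd, _root_.Fin.succ_zero_eq_one, _root_.ne_eq, _root_.zero_ne_one, _root_.not_false_eq_true, _root_.Matrix.one_apply_ne, _root_.and_self, _root_.Fin.succ_ne_zero, _root_.true_and])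
    · ext i j
      (revert i j; simp only [Matrix.mul_apply, Fin.sum_univ_two, _root_.Fin.forall_fin_succ, _root_.Matrix.of_apply, _root_.Matrix.cons_val', _root_.Matrix.cons_val_fin_one, Fin.isValue, _root_.Matrix.cons_val_zero, _root_.Matrix.cons_val_one, _root_.MulZeroClass.mul_zero, _root_.mul_one, _root_.zero_add, _root_.Matrix.cons_val_succ, _root_.add_zero, _root_.IsEmpty.forall_iff, _root_.and_true, _root_.Matrix.one_apply_eq, Nat.reduceAdd, _root_.Fin.succ_zero_eq_one, _root_.ne_eq, _root_.zero_ne_one, _root_.not_false_eq_true, _root_.Matrix.one_apply_ne, _root_.and_self, _root_.Fin.succ_ne_zero, _root_.true_and])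
  subst ha hc
  by_cases hb : b = 0
  · subst hb
    refine ⟨1, 1, by simp, by simp, 0, by norm_num, ?_⟩
    simp [Rr]
  · refine ⟨!![b⁻¹, 0; 0, 1], !![b, 0; 0, 1], ?_, ?_, 2, by norm_num, ?_⟩
    · ext i j
      (revert i j; simp only [Matrix.mul_apply, Fin.sum_univ_two, hb, _root_.Fin.forall_fin_succ, _root_.Matrix.of_apply, _root_.Matrix.cons_val', _root_.Matrix.cons_val_fin_one, Fin.isValue, _root_.Matrix.cons_val_zero, _root_.Matrix.cons_val_one, _root_.MulZeroClass.mul_zero, _root_.add_zero, _root_.Matrix.cons_val_succ, _root_.mul_one, _root_.zero_add, _root_.IsEmpty.forall_iff, _root_.and_true, _root_.ne_eq, _root_.not_false_eq_true, _root_.inv_mul_cancel₀, _root_.Matrix.one_apply_eq, Nat.reduceAdd, _root_.Fin.succ_zero_eq_one, _root_.zero_ne_one, _root_.Matrix.one_apply_ne, _root_.and_self, _root_.MulZeroClass.zero_mul, _root_.Fin.succ_ne_zero, _root_.true_and])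
    · ext i j
      (revert i j; simp only [Matrix.mul_apply, Fin.sum_univ_two, hb, _root_.Fin.forall_fin_succ, _root_.Matrix.of_apply, _root_.Matrix.cons_val', _root_.Matrix.cons_val_fin_one, Fin.isValue, _root_.Matrix.cons_val_zero, _root_.Matrix.cons_val_one, _root_.MulZeroClass.mul_zero, _root_.add_zero, _root_.Matrix.cons_val_succ, _root_.mul_one, _root_.zero_add, _root_.IsEmpty.forall_iff, _root_.and_true, _root_.ne_eq, _root_.not_false_eq_true, _root_.mul_inv_cancel₀, _root_.Matrix.one_apply_eq, Nat.reduceAdd, _root_.Fin.succ_zero_eq_one, _root_.zero_ne_one, _root_.Matrix.one_apply_ne, _root_.and_self, _root_.MulZeroClass.zero_mul, _root_.Fin.succ_ne_zero, _root_.true_and])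
    · ext i j
      (revert i j; simp only [Matrix.mul_apply, Fin.sum_univ_two, Rr, hb, _root_.Fin.forall_fin_succ, _root_.Matrix.transpose_apply, _root_.Matrix.of_apply, _root_.Matrix.cons_val', _root_.Matrix.cons_val_fin_one, Fin.isValue, _root_.Matrix.cons_val_zero, _root_.Matrix.cons_val_one, _root_.MulZeroClass.mul_zero, _root_.zero_add, _root_.add_zero, _root_.ne_eq, _root_.not_false_eq_true, _root_.mul_inv_cancel_right₀, _root_.Matrix.cons_val_succ, _root_.mul_one, _root_.forall_const, _root_.inv_mul_cancel₀, _root_.and_self, _root_.MulZeroClass.zero_mul, _root_.implies_true])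

theorem sym_eq {N : Matrix (Fin 2) (Fin 2) F} (h : Nᵀ = N) : N = !![N 0 0, N 0 1; N 0 1, N 1 1] := by
  have h1 : N 1 0 = N 0 1 := congrFun (congrFun h 0) 1
  ext i j
  fin_cases i <;> fin_cases j
  · rfl
  · rfl
  · exact h1
  · rfl

/-- the block diagonal matrices -/
theorem diag_mem {A A' : Matrix (Fin 2) (Fin 2) F} (h : A' * A = 1) :
    fromBlocks A 0 0 A'ᵀ ∈ symplecticGroup (Fin 2) F := by
  rw [SymplecticGroup.mem_iff', Matrix.J, fromBlocks_transpose, fromBlocks_multiply, fromBlocks_multiply, fromBlocks_inj]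
  have h1 : Aᵀ * A'ᵀ = 1 := by rw [← Matrix.transpose_mul, h, Matrix.transpose_one]
  simp [h, h1]

/-- **normal form** -/
theorem exists_normal [Finite F] (h2 : (2 : F) = 0) (h4 : ∀ x : F, x ^ 4 = x) (g : symplecticGroup (Fin 2) F) :
    ∃ h : symplecticGroup (Fin 2) F, ∃ B : Matrix (Fin 2) (Fin 2) F, ∃ r < 4, Bᵀ = B ∧
      ((h⁻¹ * g * h : symplecticGroup (Fin 2) F) : Matrix (Fin 2 ⊕ Fin 2) (Fin 2 ⊕ Fin 2) F) =
        fromBlocks 1 B (Rr F r) (1 + Rr F r * B) := by
  obtain ⟨h, hh⟩ := exists_frame h2 g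
  obtain ⟨B, N, hB, hN, e⟩ := shape (h⁻¹ * g * h).2 h2 hh
  obtain ⟨A, A', a1, a2, r, hr, er⟩ : Red N := by
    rw [sym_eq hN]
    exact red h2 h4
  let t : symplecticGroup (Fin 2) F := ⟨fromBlocks A 0 0 A'ᵀ, diag_mem a2⟩
  let t' : symplecticGroup (Fin 2) F := ⟨fromBlocks A' 0 0 Aᵀ, diag_mem a1⟩
  have ht : t⁻¹ = t' := by
    rw [inv_eq_iff_mul_eq_one]
    apply Subtype.ext
    show fromBlocks A 0 0 A'ᵀ * fromBlocks A' 0 0 Aᵀ = 1
    rw [fromBlocks_multiply]
    have h1 : A'ᵀ * Aᵀ = 1 := by rw [← Matrix.transpose_mul, a1, Matrix.transpose_one]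
    simp [a1, h1, fromBlocks_one]
  refine ⟨h * t, A' * B * A'ᵀ, r, hr, ?_, ?_⟩
  · rw [Matrix.transpose_mul, Matrix.transpose_mul, Matrix.transpose_transpose, hB, Matrix.mul_assoc]
  have h5 : (h * t)⁻¹ * g * (h * t) = t' * (h⁻¹ * g * h) * t := by
    rw [← ht]; group
  rw [h5, Submonoid.coe_mul, Submonoid.coe_mul, e]
  show fromBlocks A' 0 0 Aᵀ * fromBlocks 1 B N (1 + N * B) * fromBlocks A 0 0 A'ᵀ = _
  rw [fromBlocks_multiply, fromBlocks_multiply, fromBlocks_inj]
  have h1 : Aᵀ * A'ᵀ = 1 := by rw [← Matrix.transpose_mul, a2, Matrix.transpose_one]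
  refine ⟨?_, ?_, ?_, ?_⟩
  · simp [a2]
  · simp
  · simp only [Matrix.zero_mul, zero_add, Matrix.mul_zero, add_zero]
    exact er
  · simp only [Matrix.zero_mul, zero_add, Matrix.mul_zero]
    rw [← er, Matrix.mul_add, Matrix.add_mul, Matrix.mul_one, h1]
    congr 1
    have h6 : Aᵀ * N * A * (A' * B * A'ᵀ) = Aᵀ * N * (A * A') * B * A'ᵀ := by simp only [Matrix.mul_assoc]
    rw [h6, a1, Matrix.mul_one]
    simp only [Matrix.mul_assoc]

end congruence

section four

variable {F : Type*} [Field F]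

theorem dg_zero (k : ℕ) : Nat.land k 3 = k % 4 := Nat.and_two_pow_sub_one_eq_mod k 2

theorem uc_eq (a b c : ℕ) : uc a b c = 1074791425 + (a * 16 + (b * 64 + (b * 4096 + c * 16384))) := by
  have h : uc a b c = 1074791425 + ((a <<< 4) + ((b <<< 6) + ((b <<< 12) + (c <<< 14)))) := rfl
  rw [h]
  simp only [Nat.shiftLeft_eq]

theorem Dm_uc (w : F) {a b c : ℕ} (ha : a < 4) (hb : b < 4) (hc : c < 4) :
    Dm w (uc a b c) = fromBlocks 1 !![de w a, de w b; de w b, de w c] 0 1 := by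
  have hu : uc a b c = pk (fun t => if t = 2 then a else if t = 3 then b else if t = 6 then b else
      if t = 7 then c else if t % 5 = 0 then 1 else 0) 16 := by
    have h0 : ∀ c : ℕ → ℕ, pk c 0 = 0 := fun _ => rfl
    rw [uc_eq]
    simp only [pk_succ, h0]
    norm_num only [_root_.ite_true, _root_.ite_false, _root_.mul_one, _root_.zero_add, _root_.MulZeroClass.zero_mul, _root_.add_zero, _root_.one_mul, _root_.ite_self]
    ring
  have hd : ∀ t < 16, dg (uc a b c) t = if t = 2 then a else if t = 3 then b else if t = 6 then b else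
      if t = 7 then c else if t % 5 = 0 then 1 else 0 := by
    intro t ht
    rw [hu]
    refine dg_pk (c := fun t => if t = 2 then a else if t = 3 then b else if t = 6 then b else
      if t = 7 then c else if t % 5 = 0 then 1 else 0) (fun t => ?_) 16 t ht
    split_ifs <;> omega
  ext i j
  rw [Dm_apply, hd _ (by have := ix_lt i; have := ix_lt j; omega)]
  rcases i with i | i <;> rcases j with j | j <;> (revert i j; simp only [ix, de, _root_.Fin.forall_fin_succ, _root_.Matrix.fromBlocks_apply₁₁, Fin.isValue, _root_.Fin.coe_ofNat_eq_mod, _root_.Nat.zero_mod, _root_.add_zero, _root_.Fin.val_succ, _root_.Fin.val_eq_zero, _root_.zero_add, Nat.reduceEqDiff, _root_.mul_eq_one, _root_.OfNat.ofNat_ne_one, _root_.false_and, ↓reduceIte, _root_.IsEmpty.forall_iff, _root_.and_true, _root_.MulZeroClass.mul_zero, _root_.OfNat.zero_ne_ofNat, _root_.Matrix.one_apply_eq, _root_.Nat.one_mod, _root_.one_ne_zero, Nat.reduceAdd, _root_.Fin.succ_zero_eq_one, _root_.ne_eq,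 _root_.zero_ne_one, _root_.not_false_eq_true, _root_.Matrix.one_apply_ne, _root_.and_self, _root_.mul_one, _root_.Nat.succ_ne_self, _root_.Nat.mod_succ, _root_.OfNat.ofNat_ne_zero, _root_.Fin.succ_ne_zero, _root_.Nat.mod_self, _root_.true_and, _root_.Matrix.fromBlocks_apply₁₂, _root_.Matrix.of_apply, _root_.Matrix.cons_val', _root_.Matrix.cons_val_fin_one, _root_.Nat.add_eq_right, _root_.mul_eq_zero, _root_.Fin.val_eq_zero_iff, _root_.false_or, _root_.mul_eq_left₀, _root_.Matrix.cons_val_zero, _root_.Matrix.cons_val_succ, _root_.forall_const, _root_.implies_true, _root_.Matrix.fromBlocks_apply₂₁, _root_.Matrix.zero_apply, Nat.reduceMul, Nat.reduceMod, _root_.Matrix.fromBlocks_apply₂₂, _root_.Nat.add_eq_zero_iff, _root_.and_false, _root_.or_self])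

theorem Dm_lc (w : F) {r : ℕ} (hr : r < 4) : Dm w (lc r) = fromBlocks 1 0 (Rr F r) 1 := by
  ext i j
  interval_cases r <;> rcases i with i | i <;> rcases j with j | j <;> fin_cases i <;> fin_cases j <;>
    [(exact (show (1 : F) = 1 from rfl)); (exact (show (0 : F) = 0 from rfl)); (exact (show (0 : F) = 0 from rfl)); (exact (show (1 : F) = 1 from rfl));
     (exact (show (0 : F) = 0 from rfl)); (exact (show (0 : F) = 0 from rfl)); (exact (show (0 : F) = 0 from rfl)); (exact (show (0 : F) = 0 from rfl));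
     (exact (show (0 : F) = 0 from rfl)); (exact (show (0 : F) = 0 from rfl)); (exact (show (0 : F) = 0 from rfl)); (exact (show (0 : F) = 0 from rfl));
     (exact (show (1 : F) = 1 from rfl)); (exact (show (0 : F) = 0 from rfl)); (exact (show (0 : F) = 0 from rfl)); (exact (show (1 : F) = 1 from rfl));
     (exact (show (1 : F) = 1 from rfl)); (exact (show (0 : F) = 0 from rfl)); (exact (show (0 : F) = 0 from rfl)); (exact (show (1 : F) = 1 from rfl));
     (exact (show (0 : F) = 0 from rfl)); (exact (show (0 : F) = 0 from rfl)); (exact (show (0 : F) = 0 from rfl)); (exact (show (0 : F) = 0 from rfl));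
     (exact (show (1 : F) = 1 from rfl)); (exact (show (0 : F) = 0 from rfl)); (exact (show (0 : F) = 0 from rfl)); (exact (show (0 : F) = 0 from rfl));
     (exact (show (1 : F) = 1 from rfl)); (exact (show (0 : F) = 0 from rfl)); (exact (show (0 : F) = 0 from rfl)); (exact (show (1 : F) = 1 from rfl));
     (exact (show (1 : F) = 1 from rfl)); (exact (show (0 : F) = 0 from rfl)); (exact (show (0 : F) = 0 from rfl)); (exact (show (1 : F) = 1 from rfl));
     (exact (show (0 : F) = 0 from rfl)); (exact (show (0 : F) = 0 from rfl)); (exact (show (0 : F) = 0 from rfl)); (exact (show (0 : F) = 0 from rfl));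
     (exact (show (0 : F) = 0 from rfl)); (exact (show (1 : F) = 1 from rfl)); (exact (show (1 : F) = 1 from rfl)); (exact (show (0 : F) = 0 from rfl));
     (exact (show (1 : F) = 1 from rfl)); (exact (show (0 : F) = 0 from rfl)); (exact (show (0 : F) = 0 from rfl)); (exact (show (1 : F) = 1 from rfl));
     (exact (show (1 : F) = 1 from rfl)); (exact (show (0 : F) = 0 from rfl)); (exact (show (0 : F) = 0 from rfl)); (exact (show (1 : F) = 1 from rfl));
     (exact (show (0 : F) = 0 from rfl)); (exact (show (0 : F) = 0 from rfl)); (exact (show (0 : F) = 0 from rfl)); (exact (show (0 : F) = 0 from rfl));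
     (exact (show (1 : F) = 1 from rfl)); (exact (show (0 : F) = 0 from rfl)); (exact (show (0 : F) = 0 from rfl)); (exact (show (1 : F) = 1 from rfl));
     (exact (show (1 : F) = 1 from rfl)); (exact (show (0 : F) = 0 from rfl)); (exact (show (0 : F) = 0 from rfl)); (exact (show (1 : F) = 1 from rfl))]

end four

section final

variable {F : Type*} [Field F] [Fintype F]

theorem two_eq_zero (hF : Fintype.card F = 4) : (2 : F) = 0 := by
  have h := FiniteField.cast_card_eq_zero F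
  rw [hF] at h
  have h1 : (2 : F) * 2 = 0 := by
    have : ((4 : ℕ) : F) = 2 * 2 := by push_cast; norm_num
    rw [← this]; exact h
  exact mul_self_eq_zero.1 h1

theorem exists_w (hF : Fintype.card F = 4) : ∃ w : F, w * w = w + 1 ∧ ∀ x : F, ∃ c < 4, x = de w c := by
  classical
  have h2 := two_eq_zero hF
  have h4 : ∀ x : F, x ^ 4 = x := fun x => by
    have := FiniteField.pow_card x
    rwa [hF] at this
  obtain ⟨w, hw0, hw1⟩ : ∃ w : F, w ≠ 0 ∧ w ≠ 1 := by
    by_contra hcon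
    push Not at hcon
    have h5 : (Finset.univ : Finset F) ⊆ {0, 1} := by
      intro x _
      by_cases hx : x = 0
      · simp only [hx, _root_.Finset.mem_insert, _root_.Finset.mem_singleton, _root_.zero_ne_one, _root_.or_false]
      · simp only [hcon x hx, _root_.Finset.mem_insert, _root_.one_ne_zero, _root_.Finset.mem_singleton, _root_.or_true]
    have h6 := Finset.card_le_card h5
    rw [Finset.card_univ, hF] at h6
    have h7 : ({0, 1} : Finset F).card ≤ 2 := Finset.card_le_two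
    omega
  have hw : w * w = w + 1 := by
    have h5 : w * (w - 1) * (w * w + w + 1) = 0 := by
      have := h4 w
      linear_combination this
    have h6 : w * w + w + 1 = 0 := by
      rcases mul_eq_zero.1 h5 with h | h
      · rcases mul_eq_zero.1 h with h | h
        · exact absurd h hw0
        · exact absurd (sub_eq_zero.1 h) hw1
      · exact h
    linear_combination h6 - (w + 1) * h2
  refine ⟨w, hw, fun x => ?_⟩
  have h5 : x * (x - 1) * ((x - w) * (x - (w + 1))) = 0 := by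
    have := h4 x
    linear_combination this + (-x ^ 3 * w - x ^ 3 + x ^ 2 * w + x ^ 2 * (w + 1) - x * w) * h2 + (x ^ 2 - x) * hw
  rcases mul_eq_zero.1 h5 with h | h
  · rcases mul_eq_zero.1 h with h | h
    · exact ⟨0, by norm_num, h⟩
    · exact ⟨1, by norm_num, sub_eq_zero.1 h⟩
  · rcases mul_eq_zero.1 h with h | h
    · exact ⟨2, by norm_num, sub_eq_zero.1 h⟩
    · exact ⟨3, by norm_num, sub_eq_zero.1 h⟩

theorem cop_of {G : Type*} [Group G] {x : G} (h : x ^ 17 = 1 ∨ x ^ 5 = 1) : (orderOf x).Coprime 6 := by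
  rcases h with h | h
  · exact Nat.Coprime.of_dvd_left (orderOf_dvd_of_pow_eq_one h) (by norm_num)
  · exact Nat.Coprime.of_dvd_left (orderOf_dvd_of_pow_eq_one h) (by norm_num)

/-- **`Sp₄(4)`** -/
theorem six_sp (hF : Fintype.card F = 4) : H78.Pw.All 6 (symplecticGroup (Fin 2) F) := by
  have h2 := two_eq_zero hF
  have h4 : ∀ x : F, x ^ 4 = x := fun x => by
    have := FiniteField.pow_card x
    rwa [hF] at this
  obtain ⟨w, hw, hsurj⟩ := exists_w hF
  intro g
  obtain ⟨h, B, r, hr, hB, e⟩ := exists_normal h2 h4 g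
  obtain ⟨a, ha, ea⟩ := hsurj (B 0 0)
  obtain ⟨b, hb, eb⟩ := hsurj (B 0 1)
  obtain ⟨c, hc, ec⟩ := hsurj (B 1 1)
  have hk : a + 4 * b + 16 * c < 64 := by omega
  obtain ⟨X, Y, e1, hX, hX1, hY1⟩ := pair_spec hw h2 hr hk
  have k0 : Nat.land (a + 4 * b + 16 * c) 3 = a := by rw [dg_zero]; omega
  have k1 : Nat.land (Nat.shiftRight (a + 4 * b + 16 * c) 2) 3 = b := by
    have : Nat.land (Nat.shiftRight (a + 4 * b + 16 * c) 2) 3 = dg (a + 4 * b + 16 * c) 1 := rfl
    rw [this, dg_eq]; omega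
  have k2 : Nat.land (Nat.shiftRight (a + 4 * b + 16 * c) 4) 3 = c := by
    have : Nat.land (Nat.shiftRight (a + 4 * b + 16 * c) 4) 3 = dg (a + 4 * b + 16 * c) 2 := rfl
    rw [this, dg_eq]; omega
  rw [k0, k1, k2, Dm_lc w hr, Dm_uc w ha hb hc, ← ea, ← eb, ← ec, ← sym_eq hB, fromBlocks_multiply] at e1
  simp only [Matrix.one_mul, Matrix.mul_one, Matrix.mul_zero, Matrix.zero_mul, add_zero, zero_add] at e1
  rw [add_comm (Rr F r * B) 1, ← e] at e1
  let x : symplecticGroup (Fin 2) F := ⟨X, hX⟩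
  have hy : ((x⁻¹ * (h⁻¹ * g * h) : symplecticGroup (Fin 2) F) : Matrix (Fin 2 ⊕ Fin 2) (Fin 2 ⊕ Fin 2) F) = Y := by
    rw [Submonoid.coe_mul, e1, ← Matrix.mul_assoc]
    have : ((x⁻¹ : symplecticGroup (Fin 2) F) : Matrix (Fin 2 ⊕ Fin 2) (Fin 2 ⊕ Fin 2) F) * X = 1 := by
      have h5 : x⁻¹ * x = 1 := inv_mul_cancel x
      exact congrArg Subtype.val h5
    rw [this, Matrix.one_mul]
  have hpr : H78.Pw.Pr 6 (h⁻¹ * g * h) := by
    refine ⟨x, x⁻¹ * (h⁻¹ * g * h), by group, cop_of ?_, cop_of ?_⟩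
    · rcases hX1 with h5 | h5
      · exact Or.inl (Subtype.ext h5)
      · exact Or.inr (Subtype.ext h5)
    · rcases hY1 with h5 | h5
      · left
        apply Subtype.ext
        rw [SubmonoidClass.coe_pow, hy, h5]
        rfl
      · right
        apply Subtype.ext
        rw [SubmonoidClass.coe_pow, hy, h5]
        rfl
  have := hpr.conj h
  have h6 : h * (h⁻¹ * g * h) * h⁻¹ = g := by group
  rwa [h6] at this

/-- **`PSp₄(4)`: every element is a product of two elements of order prime to `6`** -/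
theorem six_psp_two_four (hF : Fintype.card F = 4) : H78.Pw.All 6 (Cfsg.PSp 2 F) :=
  H78.Pw.All.of_surjective (QuotientGroup.mk' _) (QuotientGroup.mk'_surjective _) (six_sp hF)

end final

end Cfsg.Agent.H240.Sp44
end

private theorem dce_0ea274d1da65 : _root_.True := by
  try have : _root_.True := by simp only [_root_.Cfsg.Agent.H240.Sp44.ix.eq_2]
  try have : _root_.True := by simp only [_root_.Cfsg.Agent.H240.Sp44.de.eq_4]
  try have : _root_.True := by simp only [_root_.Cfsg.Agent.H240.Sp44.Rr.eq_1]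
  try have : _root_.True := by simp only [_root_.Cfsg.Agent.H240.Sp44.ix.eq_1]
  try have : _root_.True := by simp only [_root_.Cfsg.Agent.H240.Sp44.Rr.eq_3]
  try have : _root_.True := by simp only [_root_.Cfsg.Agent.H240.Sp44.Rr.eq_2]
  try have : _root_.True := by simp only [_root_.Cfsg.Agent.H240.Sp44.de.eq_3]
  try have : _root_.True := by simp only [_root_.Cfsg.Agent.H240.Sp44.Rr.eq_4]
  try have : _root_.True := by simp only [_root_.Cfsg.Agent.H240.Sp44.de.eq_2]
  try have : _root_.True := by simp only [_root_.Cfsg.Agent.H240.Sp44.de.eq_1]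
  exact _root_.True.intro
end

-- part: H934/MF/TwoS
section
set_option linter.all false

/-!
# Products of two irreducible classes over the field with two elements: degrees 4, 5, 6
-/

set_option autoImplicit false
set_option maxRecDepth 100000

namespace Cfsg.Agent.H934.MF

/-- lower coefficients of an irreducible polynomial of degree 5 -/
def lFive : List Bool := [true, false, true, false, false]

theorem irrFive : Irreducible (mono (zl lFive)) := by
  have h : irrCheck (R := ZMod 2) 2 (zl lFive) [1, 0, 1, 0, 1, 1, 1, 0, 1, 1, 0, 0, 0, 1, 1, 1, 1, 1, 0, 0, 1, 1, 0, 1, 0, 0, 1] [1]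
    [0, 0, 1, 1, 1] 31 1 = true := by
    decide +kernel
  exact irr_of_check (ZMod.card 2) h

/-- certificates -/
def tFive : List ℕ := [
  0x191a0c1c0b0000001f1b110906000000120401061c000000091210041a000000131c181b05000000041a0b1b160000000701050f1c0000000d1314081f00000001160a0719000000111d150a1a000000171e050a1a0000001609140d030000001c011b161800000001110d161e0000001e03151b190000000a19030b160000000c03111a090000000e150c040b000000090f070d1a0000000c150d1c070000000c1d1a061800000017110518160000000901191e1300000018071d08140000001a0d060e180000000615161c070000001d1f160e1c0000001d0703111b000000171008131600000004121b1908000000131b121f03000000180a151411,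
  0x1a0b081e050000000f19140b1300000011190a16170000000b1e1c13030000001405150c12000000121c010c140000001e0318190b000000041a0e0d060000001d1a0f0c0d0000001c0f14110300000005161019120000001f0d050419000000191d1e081f00000002181e170500000016070a14030000001609120b13,
  0x20403111c000000091e1604100000001c0f010a150000001e050b04170000001f0b1e16120000001d031b0e1a000000081f0f0b150000001c060c0b190000001f0e121e09000000131f0a1c0e0000000118121f04000000171e1f101b000000040a07111a000000171009141f0000000c0f1c08120000000212140d15,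
  0x190d1b12050000001f1816140f0000001d1a050b1c00000014151b1c110000001703160b050000000a180d1c1400000019121f070f0000000319050d16,
  0xe140a030b0000001f1c1311140000001f1b1d15090000001b1d0c0718000000121f0319020000000711010e0b0000000812050f1c0000000e1e160b0f0000000d06091510000000130108031400000018070f13150000000c1c030b160000000c1c0706130000000d181f1b1d0000000d191a1216000000061b191503,
  0x112050a1e0000000a170b141000000011071e1412000000071b1a190b0000000c0301051c00000016110a0604000000161206010a0000001d141c1802,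
  0x1b01110e12000000150c16050d000000051e1c0d04000000051701110c00000018041e0f190000000717080d1c000000131f0f0d17000000090c111a06,
  0x10b12071c0000001c0b1d0f100000001d0710091b0000001b04160719,
  0x1a181f04130000000f051f1107000000081607180d000000121f051e100000001e1d1906150000001b050e1f090000001d110818070000000618130e04000000031c160c040000000a010c1c03000000071a020a060000000a050211060000000b0c050818000000030a1c0c02000000160d0e0a1a0000000306151917,
  0xf031c14090000001c180906070000000b1d1c1f1b00000011150a160c0000000e1e06050a0000001811011413000000130d111a1d000000091a141f0d,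
  0x1a130b1d19000000191615111c00000004121a0f090000001b1c0c0d130000001a1f170e0400000013010c160f0000000502011e090000001b14050408,
  0x191a0f1c1b0000001e1c071109000000081406030c0000001911101517,
  0x50e101903000000041911100f00000008090d1603000000171015180c0000001e051f07130000001f190a081c00000016120e1f0f00000003170b0518,
  0x80c07121b0000000d1017181300000014121607190000001c07140c1a,
  0x18110519060000001a0a1605170000001e0b1804140000000307021916,
  0x0]

theorem chkFive : chkB 5 lFive lFive (exOne 5) 32 tFive 16 = true := Fast.chkB_of_F (by decide +kernel)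

theorem allFive : AllB 5 lFive lFive (exOne 5) := fun b h1 h2 c hc h3 h4 =>
  chkB_spec tFive _ chkFive b h1 h2 c hc h3 h4

/-- every nonidentity element of `GL_5(2)` is a product of two elements with the characteristic polynomial `mono (zl lFive)` -/
theorem prodFive (A : Matrix (Fin 5) (Fin 5) (ZMod 2)) (hA : A.det ≠ 0) (hA1 : A ≠ 1) :
    ∃ X Y : Matrix (Fin 5) (Fin 5) (ZMod 2), A = X * Y ∧ X.charpoly = mono (zl lFive) ∧
      Y.charpoly = mono (zl lFive) :=
  exists_prod (n := 5) (by norm_num) rfl rfl irrFive irrFive allFive A hA hA1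

end Cfsg.Agent.H934.MF
end

-- part: H122/Pw/Six8
section
set_option linter.all false
open scoped Cfsg.Agent.FastGrp

namespace Cfsg.Agent.H90F

private noncomputable def frc {α : Type} (x : ℕ) (f : ℕ → α) : α := Nat.rec (f 0) (fun k _ => f (Nat.succ k)) x

private theorem frc_eq {α : Type} (x : ℕ) (f : ℕ → α) : frc x f = f x := by cases x <;> rfl

private noncomputable def nth {α : Type} (d : α) (l : List α) : ℕ → α :=
  List.rec (fun _ => d) (fun a _ ih n => Nat.rec a (fun k _ => ih k) n) l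

private theorem nth_eq {α : Type} (d : α) (l : List α) (n : ℕ) : nth d l n = l.getD n d := by
  induction l generalizing n with
  | nil => rfl
  | cons a l ih => cases n with
    | zero => rfl
    | succ k => exact ih k

private theorem nth_arr {α : Type} (d : α) (a : Array α) (n : ℕ) : a.getD n d = nth d a.toList n := by
  rw [nth_eq, List.getD_eq_getElem?_getD, Array.getD_eq_getD_getElem?, Array.getElem?_toList]

private noncomputable def row (D : Cfsg.Lie.ChevalleyDatum) (r : ℕ) : List (ℕ × Array (ℕ × ℤ)) := (nth #[] D.chain.toList r).toList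

private noncomputable def fnd (s : ℕ) (l : List (ℕ × Array (ℕ × ℤ))) : List (ℕ × ℤ) :=
  List.rec [] (fun e _ ih => Bool.rec ih e.2.toList (Nat.beq e.1 s)) l

private theorem ce_eq0 (D : Cfsg.Lie.ChevalleyDatum) (r s : ℕ) : D.chainEntry r s = fnd s (row D r) := by
  unfold Cfsg.Lie.ChevalleyDatum.chainEntry row
  rw [nth_arr]
  generalize (nth #[] D.chain.toList r).toList = l
  induction l with
  | nil => rfl
  | cons e l ih =>
    show _ = (Bool.rec (fnd s l) e.2.toList (Nat.beq e.1 s) : List (ℕ × ℤ))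
    by_cases h : e.1 = s
    · rw [List.find?_cons_of_pos (by simpa using h), Nat.beq_eq.mpr h]
    · rw [List.find?_cons_of_neg (by simpa using h), ih, Bool.eq_false_iff.2 fun h1 => h (Nat.eq_of_beq_eq_true h1)]

private noncomputable def fce (D : Cfsg.Lie.ChevalleyDatum) (r s : ℕ) : List (ℕ × ℤ) := frc r fun r => frc s fun s => fnd s (row D r)

private theorem ce_eq (D : Cfsg.Lie.ChevalleyDatum) : D.chainEntry = fce D := by
  funext r s
  rw [fce, frc_eq, frc_eq, ce_eq0]

private noncomputable def fcr (D : Cfsg.Lie.ChevalleyDatum) (r s i : ℕ) : Option ℕ := ((fce D r s)[i - 1]?).map Prod.fst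

private theorem cr_eq (D : Cfsg.Lie.ChevalleyDatum) : D.chainRoot = fcr D := by
  funext r s i
  rw [fcr, ← ce_eq]; rfl

private noncomputable def fcm (D : Cfsg.Lie.ChevalleyDatum) (r s i : ℕ) : ℤ := (((fce D r s)[i - 1]?).map Prod.snd).getD 0

private theorem cm_eq (D : Cfsg.Lie.ChevalleyDatum) : D.chainM = fcm D := by
  funext r s i
  rw [fcm, ← ce_eq]; rfl

private noncomputable def gct (cr : ℕ → ℕ → ℕ → Option ℕ) (cm : ℕ → ℕ → ℕ → ℤ) (r s : ℕ) : List (ℕ × ℤ × ℕ × ℕ) :=
  ([(cr r s 1, cm r s 1, 1, 1), (cr r s 2, cm r s 2, 2, 1), (cr s r 2, cm s r 2, 1, 2), (cr r s 3, cm r s 3, 3, 1),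
      (cr s r 3, - cm s r 3, 1, 3),
      ((cr r s 3).bind fun k => cr k s 1, ((cr r s 1).map fun k => cm k r 2 / 3).getD 0, 3, 2),
      ((cr s r 3).bind fun k => cr k r 1, ((cr r s 1).map fun k => -2 * cm k s 2 / 3).getD 0, 2, 3)] :
    List (Option ℕ × ℤ × ℕ × ℕ)).filterMap fun c => c.1.map fun k => (k, c.2)

private theorem gct_eq (D : Cfsg.Lie.ChevalleyDatum) (r s : ℕ) : D.commTerms r s = gct (fcr D) (fcm D) r s := by
  rw [← cr_eq, ← cm_eq]; rfl

private noncomputable def msk (l : List (ℕ × Array (ℕ × ℤ))) : ℕ := List.rec 0 (fun e _ ih => Nat.lor ih (Nat.shiftLeft 1 e.1)) l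

private theorem fnd_nil {s : ℕ} {l : List (ℕ × Array (ℕ × ℤ))} (h : (msk l).testBit s = false) : fnd s l = [] := by
  induction l with
  | nil => rfl
  | cons e l ih =>
    have h1 : (msk l ||| 1 <<< e.1).testBit s = false := h
    rw [Nat.testBit_or, Bool.or_eq_false_iff, Nat.one_shiftLeft, Nat.testBit_two_pow] at h1
    show (Bool.rec (fnd s l) e.2.toList (Nat.beq e.1 s) : List (ℕ × ℤ)) = []
    rw [Bool.eq_false_iff.2 fun h2 => of_decide_eq_false h1.2 (Nat.eq_of_beq_eq_true h2)]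
    exact ih h1.1

private noncomputable def fc2 (D : Cfsg.Lie.ChevalleyDatum) (r s : ℕ) : List (ℕ × ℤ) → List (ℕ × ℤ) → List (ℕ × ℤ × ℕ × ℕ)
  | [x], [_] => [(x.1, x.2, 1, 1)]
  | _, _ => gct (fcr D) (fcm D) r s

private noncomputable def fct (D : Cfsg.Lie.ChevalleyDatum) (r s : ℕ) : List (ℕ × ℤ × ℕ × ℕ) :=
  frc r fun r => frc s fun s =>
    Bool.rec (fc2 D r s (fnd s (row D r)) (fnd r (row D s))) []
      (Nat.beq (Nat.land (Nat.lor (Nat.shiftRight (msk (row D r)) s) (Nat.shiftRight (msk (row D s)) r)) 1) 0)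

private theorem ct_eq (D : Cfsg.Lie.ChevalleyDatum) : D.commTerms = fct D := by
  funext r s
  rw [fct, frc_eq, frc_eq]
  cases h : Nat.beq (Nat.land (Nat.lor (Nat.shiftRight (msk (row D r)) s) (Nat.shiftRight (msk (row D s)) r)) 1) 0
  · show _ = fc2 D r s _ _
    rw [← ce_eq0, ← ce_eq0]
    unfold fc2
    split
    · rename_i h1 h2
      unfold Cfsg.Lie.ChevalleyDatum.commTerms Cfsg.Lie.ChevalleyDatum.chainRoot Cfsg.Lie.ChevalleyDatum.chainM
      rw [h1, h2]; rfl
    · exact gct_eq D r s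
  · have h1 : ((msk (row D r) >>> s ||| msk (row D s) >>> r)).testBit 0 = false := by
      have h2 : (msk (row D r) >>> s ||| msk (row D s) >>> r) &&& 1 = 0 := Nat.eq_of_beq_eq_true h
      rw [Nat.and_one_is_mod] at h2
      rw [Nat.testBit_zero, h2]; rfl
    rw [Nat.testBit_or, Bool.or_eq_false_iff, Nat.testBit_shiftRight, Nat.testBit_shiftRight, Nat.add_zero, Nat.add_zero] at h1
    show _ = []
    unfold Cfsg.Lie.ChevalleyDatum.commTerms Cfsg.Lie.ChevalleyDatum.chainRoot Cfsg.Lie.ChevalleyDatum.chainM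
    rw [ce_eq0 D r s, ce_eq0 D s r, fnd_nil h1.1, fnd_nil h1.2]; rfl

private theorem ct_fun : Cfsg.Lie.ChevalleyDatum.commTerms = fct := funext ct_eq

private noncomputable def fng (D : Cfsg.Lie.ChevalleyDatum) (r : ℕ) : ℕ := frc r (nth 0 D.negIdx.toList)

private theorem ng_eq (D : Cfsg.Lie.ChevalleyDatum) : D.neg = fng D := by
  funext r
  rw [fng, frc_eq]
  exact nth_arr _ _ _

private theorem ng_fun : Cfsg.Lie.ChevalleyDatum.neg = fng := funext ng_eq

private noncomputable def fca (D : Cfsg.Lie.ChevalleyDatum) (i s : ℕ) : ℤ :=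
  frc i fun i => frc s (nth 0 (nth #[] D.cartanSR.toList i).toList)

private theorem ca_eq (D : Cfsg.Lie.ChevalleyDatum) : D.cartan = fca D := by
  funext i s
  rw [fca, frc_eq, frc_eq, ← nth_arr, ← nth_arr]
  rfl

private theorem ca_fun : Cfsg.Lie.ChevalleyDatum.cartan = fca := funext ca_eq

end Cfsg.Agent.H90F
attribute [local instance] Cfsg.Agent.TitsThree.RTFast.decRTb Cfsg.Agent.TitsThree.RTFast.decRTc

-- part: H122/Pw/Eig
section
/-!
# Products of eigenvalues (helper122, S2465, `E_8(3)`, `E_8(4)`, `E_8(9)`)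
-/

set_option autoImplicit false
set_option linter.unusedSectionVars false

namespace Cfsg.Agent.H122.Pw

open Cfsg.Agent.H194.Pw

universe u

variable {K : Type u} {K' : Type u} [Field K] [Finite K] [Field K'] {i : K →+* K'} {n : ℕ} {g : Polynomial K} {z : K'}

theorem add_mul (S : Spec i n g z) (a : ℕ) : z ^ Nat.card K ^ (a + n) = z ^ Nat.card K ^ a := by
  rw [add_comm, pow_add, pow_mul, S.fix]

theorem mod (S : Spec i n g z) (a : ℕ) : z ^ Nat.card K ^ a = z ^ Nat.card K ^ (a % n) := by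
  have h : ∀ k b : ℕ, z ^ Nat.card K ^ (b + n * k) = z ^ Nat.card K ^ b := by
    intro k
    induction k with
    | zero => intro b; rfl
    | succ k ih => intro b; rw [Nat.mul_succ, ← add_assoc, add_mul S, ih]
  conv_lhs => rw [← Nat.mod_add_div a n]
  rw [h]

theorem eq_iff (S : Spec i n g z) (hn : 0 < n) {a b : ℕ} (h : z ^ Nat.card K ^ a = z ^ Nat.card K ^ b) :
    a % n = b % n := by
  rw [mod S a, mod S b] at h
  have h1 := @S.inj ⟨a % n, Nat.mod_lt _ hn⟩ ⟨b % n, Nat.mod_lt _ hn⟩ h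
  exact congrArg Fin.val h1

theorem z0 (S : Spec i n g z) (hn : 0 < n) : z ≠ 0 := S.ne_zero hn Nat.card_pos

/-- an eigenvalue is not in the ground field -/
theorem ne_q (S : Spec i n g z) (hn : 2 ≤ n) (a : ℕ) : (z ^ Nat.card K ^ a) ^ Nat.card K ≠ z ^ Nat.card K ^ a := by
  intro h
  rw [← pow_mul, ← pow_succ] at h
  have h1 := eq_iff S (by omega) h
  have h2 : (a + 1) % n = a % n := h1
  have h3 := Nat.mod_add_div a n
  have h4 := Nat.mod_add_div (a + 1) n
  have h5 : n ∣ 1 := by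
    have h6 : (a + 1) ≡ a [MOD n] := h2
    exact (Nat.modEq_iff_dvd' (by omega)).1 h6.symm |> fun h => by simpa using h
  have := Nat.dvd_one.1 h5
  omega

theorem ne_one (S : Spec i n g z) (hn : 2 ≤ n) (a : ℕ) : z ^ Nat.card K ^ a ≠ 1 := by
  intro h
  apply ne_q S hn a
  rw [h, one_pow]

theorem pow_card (S : Spec i n g z) (hn : 0 < n) (a : ℕ) : (z ^ Nat.card K ^ a) ^ (Nat.card K ^ n - 1) = 1 := by
  have h0 : z ^ Nat.card K ^ a ≠ 0 := pow_ne_zero _ (z0 S hn)
  have hq : 1 ≤ Nat.card K ^ n := Nat.one_le_pow _ _ Nat.card_pos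
  have h1 : (z ^ Nat.card K ^ a) ^ Nat.card K ^ n = z ^ Nat.card K ^ a := by
    rw [← pow_mul, ← pow_add, add_mul S]
  have h2 : (z ^ Nat.card K ^ a) ^ (Nat.card K ^ n - 1) * z ^ Nat.card K ^ a = 1 * z ^ Nat.card K ^ a := by
    rw [← pow_succ, Nat.sub_add_cancel hq, h1, one_mul]
  exact mul_right_cancel₀ h0 h2

theorem pow_norm (S : Spec i n g z) (a : ℕ) : (z ^ Nat.card K ^ a) ^ (∑ a ∈ Finset.range n, Nat.card K ^ a) = 1 := by
  rw [← pow_mul, mul_comm, pow_mul, S.norm, one_pow]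

/-- degree three: not in the field with `q²` elements -/
theorem three_ne (S : Spec i 3 g z) (a : ℕ) : (z ^ Nat.card K ^ a) ^ (Nat.card K ^ 2 - 1) ≠ 1 := by
  intro h
  have h0 : z ^ Nat.card K ^ a ≠ 0 := pow_ne_zero _ (z0 S (by norm_num))
  have hq : 1 ≤ Nat.card K ^ 2 := Nat.one_le_pow _ _ Nat.card_pos
  have h1 : (z ^ Nat.card K ^ a) ^ Nat.card K ^ 2 = z ^ Nat.card K ^ a := by
    have h2 : (z ^ Nat.card K ^ a) ^ (Nat.card K ^ 2 - 1) * z ^ Nat.card K ^ a = 1 * z ^ Nat.card K ^ a := by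
      rw [h]
    rwa [← pow_succ, Nat.sub_add_cancel hq, one_mul] at h2
  rw [← pow_mul, ← pow_add] at h1
  have := eq_iff S (by norm_num) h1
  omega

/-! ### Products -/

theorem prod_one {F : Type*} [Field F] {n : ℕ} {lam : Fin n → F} (h0 : ∀ k, lam k ≠ 0) (h1 : ∏ k, lam k = 1) {a : Fin n}
    {w : Fin n → ℤ} {c : ℤ} (hw : ∀ k, w k = (if k = a then 1 else 0) - c) : ∏ k, lam k ^ w k = lam a := by
  have h2 : ∀ k, lam k ^ w k = lam k ^ (if k = a then (1 : ℤ) else 0) * lam k ^ (-c) := fun k => by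
    rw [hw, sub_eq_add_neg, zpow_add₀ (h0 k)]
  rw [Finset.prod_congr rfl fun k _ => h2 k, Finset.prod_mul_distrib, Finset.prod_zpow, h1, one_zpow, mul_one,
    Finset.prod_eq_single a]
  · rw [if_pos rfl, zpow_one]
  · intro b _ hb
    rw [if_neg hb, zpow_zero]
  · intro h
    exact absurd (Finset.mem_univ a) h

theorem prod_inv_one {F : Type*} [Field F] {n : ℕ} {lam : Fin n → F} (h0 : ∀ k, lam k ≠ 0) (h1 : ∏ k, lam k = 1)
    {a : Fin n} {w : Fin n → ℤ} {c : ℤ} (hw : ∀ k, w k = -(if k = a then 1 else 0) + c) :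
    ∏ k, lam k ^ w k = (lam a)⁻¹ := by
  have h2 : ∏ k, lam k ^ (-w k) = lam a := prod_one (c := c) h0 h1 fun k => by rw [hw]; ring
  rw [← h2, ← Finset.prod_inv_distrib]
  refine Finset.prod_congr rfl fun k _ => ?_
  rw [zpow_neg, inv_inv]

theorem prod_lam (S : Spec i n g z) : ∏ k : Fin n, z ^ Nat.card K ^ (k : ℕ) = 1 := by
  rw [Finset.prod_pow_eq_pow_sum, Fin.sum_univ_eq_sum_range (fun a => Nat.card K ^ a) n]
  exact S.norm

theorem prod_pow_one {F : Type*} [Field F] {n : ℕ} {lam : Fin n → F} {N : ℕ} (h : ∀ k, lam k ^ N = 1) (w : Fin n → ℤ) :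
    (∏ k, lam k ^ w k) ^ N = 1 := by
  rw [← Finset.prod_pow]
  refine Finset.prod_eq_one fun k _ => ?_
  rw [← zpow_natCast, ← zpow_mul, mul_comm, zpow_mul, zpow_natCast, h, one_zpow]

/-- **The block of type `A₄`.** -/
theorem five_ne (S : Spec i 5 g z) {N : ℕ} (hN : (∑ a ∈ Finset.range 5, Nat.card K ^ a).Coprime N) {w : Fin 5 → ℤ}
    {a b : Fin 5} (hab : a ≤ b) (hw : (∀ k, w k = ind a b k - ind a b 4) ∨ ∀ k, w k = -ind a b k + ind a b 4)
    {y : K'} (hy : y ^ N = 1) : (∏ k : Fin 5, (z ^ Nat.card K ^ (k : ℕ)) ^ w k) * y ≠ 1 := by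
  intro h
  have hl0 : ∀ k : Fin 5, z ^ Nat.card K ^ (k : ℕ) ≠ 0 := fun k => pow_ne_zero _ (z0 S (by norm_num))
  obtain ⟨v, hv⟩ : ∃ v : K', v = if a = b then z ^ Nat.card K ^ (a : ℕ) else
    z ^ Nat.card K ^ (a : ℕ) * z ^ Nat.card K ^ (b : ℕ) := ⟨_, rfl⟩
  have hv2 : v ^ (Nat.card K ^ 2 - 1) ≠ 1 := by
    rw [hv]
    split_ifs with hab'
    · exact S.one_ne _
    · exact S.two_ne (lt_of_le_of_ne hab fun h' => hab' (Fin.ext h')) b.2
  have hs : v ^ (∑ a ∈ Finset.range 5, Nat.card K ^ a) = 1 := by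
    rw [hv]
    split_ifs
    · exact pow_norm S _
    · rw [mul_pow, pow_norm S, pow_norm S, one_mul]
  have hvN : v ^ N = 1 := by
    rcases hw with hw | hw
    · have h1 : ∏ k : Fin 5, (z ^ Nat.card K ^ (k : ℕ)) ^ w k = v := by
        rw [hv]
        exact prod_wt (c := ind a b 4) hl0 (prod_lam S) hw
      rw [h1] at h
      have h2 := congrArg (fun t => t ^ N) h
      simp only [mul_pow, hy, mul_one, one_pow] at h2
      exact h2
    · have h1 : ∏ k : Fin 5, (z ^ Nat.card K ^ (k : ℕ)) ^ (-w k) = v := by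
        rw [hv]
        exact prod_wt (c := ind a b 4) hl0 (prod_lam S) fun k => by rw [hw]; ring
      have h3 : ∏ k : Fin 5, (z ^ Nat.card K ^ (k : ℕ)) ^ w k = v⁻¹ := by
        rw [← h1, ← Finset.prod_inv_distrib]
        refine Finset.prod_congr rfl fun k _ => ?_
        rw [zpow_neg, inv_inv]
      rw [h3] at h
      have h2 := congrArg (fun t => t ^ N) h
      simp only [mul_pow, hy, mul_one, one_pow, inv_pow] at h2
      exact inv_eq_one.1 h2
  have h1 : orderOf v = 1 := by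
    have h2 := Nat.dvd_gcd (orderOf_dvd_of_pow_eq_one hs) (orderOf_dvd_of_pow_eq_one hvN)
    rw [hN] at h2
    exact Nat.dvd_one.1 h2
  apply hv2
  rw [orderOf_eq_one_iff.1 h1, one_pow]

end Cfsg.Agent.H122.Pw
end

-- part: H122/Pw/TabE8
section
/-!
# Tables for the Levi subgroups of type `A₄ A₃` and `A₄ A₂ A₁` of `E₈` (helper122, S2465)
-/

set_option autoImplicit false
set_option linter.unusedSectionVars false

namespace Cfsg.Agent.H122.Pw

open Cfsg.Lie Cfsg.Agent.TitsThree.KExcRT Cfsg.Agent.Nodes.RGDChev Cfsg.Agent.KFacts.RgdChevCoord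
open Cfsg.Agent.H482.Ore.Fix (wt)
open Cfsg.Agent.H150.E6T (Cm)
open Cfsg.Agent.H194.Pw (ind)
open Cfsg.Agent.ChevalleyStructure.RootVec Cfsg.Agent.ChevalleyStructure.CoxeterGeomTypes

/-! ### The blocks -/

/-- nodes `1, 3, 4, 2` -/
def ra : Fin 5 → Fin 5 → ℕ :=
  ![![0, 162, 163, 164, 169], ![77, 0, 135, 136, 147], ![76, 104, 0, 130, 142], ![75, 103, 109, 0, 141], ![70, 92, 97, 98, 0]]
def sa : Fin 5 → Fin 5 → ℤ :=
  ![![1, 1, -1, 1, -1], ![1, 1, 1, -1, 1], ![-1, 1, 1, 1, 1], ![1, -1, 1, 1, 1], ![-1, 1, 1, 1, 1]]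
def ja : Fin 4 → Fin 8 := ![0, 2, 3, 1]

/-- nodes `6, 7, 8` -/
def rb : Fin 4 → Fin 4 → ℕ := ![![0, 123, 124, 125], ![116, 0, 121, 122], ![115, 118, 0, 120], ![114, 117, 119, 0]]
def sb : Fin 4 → Fin 4 → ℤ := ![![1, 1, -1, 1], ![1, 1, 1, -1], ![-1, 1, 1, 1], ![1, -1, 1, 1]]
def jb : Fin 3 → Fin 8 := ![5, 6, 7]

/-- nodes `5, 6, 7, 8` -/
def rc : Fin 5 → Fin 5 → ℕ :=
  ![![0, 126, 127, 128, 129], ![113, 0, 123, 124, 125], ![112, 116, 0, 121, 122], ![111, 115, 118, 0, 120], ![110, 114, 117, 119, 0]]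
def sc : Fin 5 → Fin 5 → ℤ :=
  ![![1, 1, -1, 1, -1], ![1, 1, 1, -1, 1], ![-1, 1, 1, 1, -1], ![1, -1, 1, 1, 1], ![-1, 1, -1, 1, 1]]
def jc : Fin 4 → Fin 8 := ![4, 5, 6, 7]

/-- nodes `1, 3` -/
def rd : Fin 3 → Fin 3 → ℕ := ![![0, 162, 163], ![77, 0, 135], ![76, 104, 0]]
def sd : Fin 3 → Fin 3 → ℤ := ![![1, 1, -1], ![1, 1, 1], ![-1, 1, 1]]
def jd : Fin 2 → Fin 8 := ![0, 2]

/-- node `2` -/
def re : Fin 2 → Fin 2 → ℕ := ![![0, 141], ![98, 0]]
def se : Fin 2 → Fin 2 → ℤ := ![![1, 1], ![1, 1]]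
def je : Fin 1 → Fin 8 := ![1]

theorem rta : RTa chevE8 ra ∧ RTb chevE8 ra sa ∧ RTc chevE8 ra ∧ RTd sa ∧ (∀ i j, sa j i = sa i j) ∧
    ∀ i j, i ≠ j → ra j i = chevE8.neg (ra i j) := by decide +kernel

theorem rtb : RTa chevE8 rb ∧ RTb chevE8 rb sb ∧ RTc chevE8 rb ∧ RTd sb ∧ (∀ i j, sb j i = sb i j) ∧
    ∀ i j, i ≠ j → rb j i = chevE8.neg (rb i j) := by decide +kernel

theorem rtc : RTa chevE8 rc ∧ RTb chevE8 rc sc ∧ RTc chevE8 rc ∧ RTd sc ∧ (∀ i j, sc j i = sc i j) ∧
    ∀ i j, i ≠ j → rc j i = chevE8.neg (rc i j) := by decide +kernel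

theorem rtd : RTa chevE8 rd ∧ RTb chevE8 rd sd ∧ RTc chevE8 rd ∧ RTd sd ∧ (∀ i j, sd j i = sd i j) ∧
    ∀ i j, i ≠ j → rd j i = chevE8.neg (rd i j) := by decide +kernel

theorem rte : RTa chevE8 re ∧ RTd se ∧ (∀ i j, se j i = se i j) ∧ ∀ i j, i ≠ j → re j i = chevE8.neg (re i j) := by
  decide +kernel

theorem sima : (∀ a : Fin 4, ra a.castSucc a.succ = chevE8.simple (ja a)) ∧
    ∀ a : Fin 4, ra a.succ a.castSucc = chevE8.neg (chevE8.simple (ja a)) := by decide +kernel

theorem simb : (∀ a : Fin 3, rb a.castSucc a.succ = chevE8.simple (jb a)) ∧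
    ∀ a : Fin 3, rb a.succ a.castSucc = chevE8.neg (chevE8.simple (jb a)) := by decide +kernel

theorem simc : (∀ a : Fin 4, rc a.castSucc a.succ = chevE8.simple (jc a)) ∧
    ∀ a : Fin 4, rc a.succ a.castSucc = chevE8.neg (chevE8.simple (jc a)) := by decide +kernel

theorem simd : (∀ a : Fin 2, rd a.castSucc a.succ = chevE8.simple (jd a)) ∧
    ∀ a : Fin 2, rd a.succ a.castSucc = chevE8.neg (chevE8.simple (jd a)) := by decide +kernel

theorem sime : (∀ a : Fin 1, re a.castSucc a.succ = chevE8.simple (je a)) ∧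
    ∀ a : Fin 1, re a.succ a.castSucc = chevE8.neg (chevE8.simple (je a)) := by decide +kernel

/-! ### The Levi subgroups -/

/-- `A₄ A₃` -/
def JP : List (Fin 8) := [0, 1, 2, 3, 5, 6, 7]

/-- `A₄ A₂ A₁` -/
def JQ : List (Fin 8) := [0, 1, 2, 4, 5, 6, 7]

theorem raP : ∀ a b : Fin 5, a ≠ b → ∀ k : Fin 8, k ∉ JP → vec chevE8 8 (ra a b) k = 0 := by decide +kernel
theorem rbP : ∀ a b : Fin 4, a ≠ b → ∀ k : Fin 8, k ∉ JP → vec chevE8 8 (rb a b) k = 0 := by decide +kernel
theorem rcQ : ∀ a b : Fin 5, a ≠ b → ∀ k : Fin 8, k ∉ JQ → vec chevE8 8 (rc a b) k = 0 := by decide +kernel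
theorem rdQ : ∀ a b : Fin 3, a ≠ b → ∀ k : Fin 8, k ∉ JQ → vec chevE8 8 (rd a b) k = 0 := by decide +kernel
theorem reQ : ∀ a b : Fin 2, a ≠ b → ∀ k : Fin 8, k ∉ JQ → vec chevE8 8 (re a b) k = 0 := by decide +kernel

theorem cmab : ∀ a b : Fin 5, a ≠ b → ∀ c d : Fin 4, c ≠ d → Cm chevE8 (ra a b) (rb c d) := by (delta Cfsg.Agent.H150.E6T.Cm; rewrite [H90F.ct_fun, H90F.ng_fun]; decide +kernel)
theorem cmcd : ∀ a b : Fin 5, a ≠ b → ∀ c d : Fin 3, c ≠ d → Cm chevE8 (rc a b) (rd c d) := by (delta Cfsg.Agent.H150.E6T.Cm; rewrite [H90F.ct_fun, H90F.ng_fun]; decide +kernel)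
theorem cmce : ∀ a b : Fin 5, a ≠ b → ∀ c d : Fin 2, c ≠ d → Cm chevE8 (rc a b) (re c d) := by (delta Cfsg.Agent.H150.E6T.Cm; rewrite [H90F.ct_fun, H90F.ng_fun]; decide +kernel)
theorem cmde : ∀ a b : Fin 3, a ≠ b → ∀ c d : Fin 2, c ≠ d → Cm chevE8 (rd a b) (re c d) := by decide +kernel

/-- the roots of a block -/
def Qb {m : ℕ} (r : Fin m → Fin m → ℕ) (q : ℕ) : Prop := ∃ a b : Fin m, a ≠ b ∧ r a b = q ∧
      (a < b → ∃ k, 0 < vec chevE8 8 q k) ∧ (b < a → ∃ k, vec chevE8 8 q k < 0)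

instance decQb {m : ℕ} (r : Fin m → Fin m → ℕ) (q : ℕ) : Decidable (Qb r q) := by
  unfold Qb
  refine @Fintype.decidableExistsFintype _ _ (fun a => ?_) _
  refine @Fintype.decidableExistsFintype _ _ (fun b => ?_) _
  infer_instance

theorem subP : ∀ q < chevE8.nroots, (∀ k : Fin 8, k ∉ JP → vec chevE8 8 q k = 0) → Qb ra q ∨ Qb rb q := by
  intro q hq
  revert q
  refine @of_decide_eq_true _ ?_ ?_
  · refine @Nat.decidableBallLT _ _ fun q _ => ?_
    infer_instance
  · decide +kernel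

theorem subQ : ∀ q < chevE8.nroots, (∀ k : Fin 8, k ∉ JQ → vec chevE8 8 q k = 0) → (Qb rc q ∨ Qb rd q) ∨ Qb re q := by
  intro q hq
  revert q
  refine @of_decide_eq_true _ ?_ ?_
  · refine @Nat.decidableBallLT _ _ fun q _ => ?_
    infer_instance
  · decide +kernel

/-- the weight of a root on a block of type `A₄` -/
def Wf (j : Fin 4 → Fin 8) (q : ℕ) : Prop := ∃ a b : Fin 5, a ≤ b ∧ ((∀ k, wt chevE8 j q k = ind a b k - ind a b 4) ∨
      ∀ k, wt chevE8 j q k = -ind a b k + ind a b 4)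

instance decWf (j : Fin 4 → Fin 8) (q : ℕ) : Decidable (Wf j q) := by
  unfold Wf
  refine @Fintype.decidableExistsFintype _ _ (fun a => ?_) _
  refine @Fintype.decidableExistsFintype _ _ (fun b => ?_) _
  infer_instance

/-- the weight of a root on a block: one eigenvalue or its inverse -/
def Wo {n : ℕ} (j : Fin (n + 1) → Fin 8) (q : ℕ) : Prop :=
  ∃ a : Fin (n + 2), (∀ k, wt chevE8 j q k = (if k = a then 1 else 0) - (if Fin.last (n + 1) = a then 1 else 0)) ∨
      ∀ k, wt chevE8 j q k = -(if k = a then 1 else 0) + (if Fin.last (n + 1) = a then 1 else 0)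

instance decWo {n : ℕ} (j : Fin (n + 1) → Fin 8) (q : ℕ) : Decidable (Wo j q) := by
  unfold Wo
  refine @Fintype.decidableExistsFintype _ _ (fun a => ?_) _
  infer_instance

theorem outP : ∀ q < chevE8.nroots, (∃ k : Fin 8, k ∉ JP ∧ vec chevE8 8 q k ≠ 0) →
    Wf ja q ∨ ((∀ k, wt chevE8 ja q k = 0) ∧ Wo jb q) := by
  intro q hq
  revert q
  refine @of_decide_eq_true _ ?_ ?_
  · refine @Nat.decidableBallLT _ _ fun q _ => ?_
    infer_instance
  · (delta Cfsg.Agent.H122.Pw.decWo Cfsg.Agent.H122.Pw.Wo Cfsg.Agent.H122.Pw.Wf Cfsg.Agent.H482.Ore.Fix.wt Cfsg.Agent.H122.Pw.decWf; rewrite [H90F.ca_fun]; decide +kernel)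

theorem outQ : ∀ q < chevE8.nroots, (∃ k : Fin 8, k ∉ JQ ∧ vec chevE8 8 q k ≠ 0) →
    Wf jc q ∨ ((∀ k, wt chevE8 jc q k = 0) ∧ Wo jd q ∧ Wo je q) := by
  intro q hq
  revert q
  refine @of_decide_eq_true _ ?_ ?_
  · refine @Nat.decidableBallLT _ _ fun q _ => ?_
    infer_instance
  · (delta Cfsg.Agent.H122.Pw.decWo Cfsg.Agent.H122.Pw.Wo Cfsg.Agent.H122.Pw.Wf Cfsg.Agent.H482.Ore.Fix.wt Cfsg.Agent.H122.Pw.decWf; rewrite [H90F.ca_fun]; decide +kernel)

end Cfsg.Agent.H122.Pw
end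

-- part: H122/Pw/EEight
section
/-!
# `E₈(q)`: the Levi subgroups of type `A₄ A₃` and `A₄ A₂ A₁` (helper122, S2465)

* `pairsP`, `pairsQ` : every element of `E₈(q)` is `a b` with `a ^ N = b ^ N = 1`, from products of two elements with irreducible
  characteristic polynomials in `SL₅(q)`, `SL₄(q)` resp. `SL₅(q)`, `SL₃(q)`, `SL₂(q)`.
-/

set_option autoImplicit false
set_option linter.unusedSectionVars false

namespace Cfsg.Agent.H122.Pw

open CoxeterSystem Cfsg.Agent.ChevalleyStructure.CoxeterGeom Cfsg.Agent.Tits.Roots Cfsg.Agent.Tits.Core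
  Cfsg.Agent.Nodes.Reps Cfsg.Agent.Nodes.BNOf Cfsg.Agent.Nodes.RGDLib Cfsg.Agent.Nodes.Bruhat
  Cfsg.Agent.Nodes.OppDec Cfsg.Agent.Nodes.LeviDec Cfsg.Agent.Nodes.KindChev Cfsg.Agent.Nodes.ChevCls
  Cfsg.Agent.OddHalf.NI.ModelChev Cfsg.Agent.Nodes.StabComb
  Cfsg.Agent.H162.GaussDec Cfsg.Agent.H162.GaussLevi Cfsg.Agent.H162.GaussSL Cfsg.Agent.H162.GaussReg
  Cfsg.Agent.H162.GaussPQ
  Cfsg.Agent.H928.Ore.Frame
open Cfsg.Lie Cfsg.Agent.ChevalleyStructure Cfsg.Agent.ChevalleyStructure.Elts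
  Cfsg.Agent.ChevalleyStructure.RootVec Cfsg.Agent.ChevalleyStructure.NPerm
  Cfsg.Agent.ChevalleyStructure.CoxeterGeomTypes Cfsg.Agent.Nodes.RGDChev Cfsg.Agent.KFacts.RgdChevCoord
open Cfsg.Agent.FixBN.FieldRGD (uu vv dd ww)
open Cfsg.Agent.TitsThree.KExcRT Cfsg.Agent.AGraded
open Cfsg.Agent.H482.Ore.Fix (Bk SimpB wt Dz)
open Cfsg.Agent.H78.Pw Cfsg.Agent.H85.Pw Cfsg.Agent.H194.Pw
open Cfsg.Agent.H150.E6T (Cm commute_hom commute_two tv01 tv10 xc_commute)
open scoped MatrixGroups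

universe u

theorem hp8 : IsType chevE8 8 CoxeterMatrix.E₈ := Cfsg.Agent.Nodes.KindE.isType8

abbrev cs8 : CoxeterSystem CoxeterMatrix.E₈ CoxeterMatrix.E₈.Group := CoxeterMatrix.E₈.toCoxeterSystem

/-! ### The homomorphisms -/

section Hom

theorem exists_pa (K : Type u) [Field K] : ∃ φ : Matrix.SpecialLinearGroup (Fin 5) K →* ↥(chevE8.group K),
    ∀ a b (hab : a ≠ b) c, φ (Matrix.SpecialLinearGroup.transvection hab c) =
      xc hp8 (vec chevE8 8 (ra a b)) ((sa a b : K) * c) :=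
  exists_hom_S hp8 rta.1 rta.2.1 rta.2.2.1 rta.2.2.2.1 rta.2.2.2.2.1 rta.2.2.2.2.2

theorem exists_pb (K : Type u) [Field K] : ∃ φ : Matrix.SpecialLinearGroup (Fin 4) K →* ↥(chevE8.group K),
    ∀ a b (hab : a ≠ b) c, φ (Matrix.SpecialLinearGroup.transvection hab c) =
      xc hp8 (vec chevE8 8 (rb a b)) ((sb a b : K) * c) :=
  exists_hom_S hp8 rtb.1 rtb.2.1 rtb.2.2.1 rtb.2.2.2.1 rtb.2.2.2.2.1 rtb.2.2.2.2.2

theorem exists_pc (K : Type u) [Field K] : ∃ φ : Matrix.SpecialLinearGroup (Fin 5) K →* ↥(chevE8.group K),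
    ∀ a b (hab : a ≠ b) c, φ (Matrix.SpecialLinearGroup.transvection hab c) =
      xc hp8 (vec chevE8 8 (rc a b)) ((sc a b : K) * c) :=
  exists_hom_S hp8 rtc.1 rtc.2.1 rtc.2.2.1 rtc.2.2.2.1 rtc.2.2.2.2.1 rtc.2.2.2.2.2

theorem exists_pd (K : Type u) [Field K] : ∃ φ : Matrix.SpecialLinearGroup (Fin 3) K →* ↥(chevE8.group K),
    ∀ a b (hab : a ≠ b) c, φ (Matrix.SpecialLinearGroup.transvection hab c) =
      xc hp8 (vec chevE8 8 (rd a b)) ((sd a b : K) * c) :=
  exists_hom_S hp8 rtd.1 rtd.2.1 rtd.2.2.1 rtd.2.2.2.1 rtd.2.2.2.2.1 rtd.2.2.2.2.2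

theorem vece : (sr 1 : Fin 8 → ℤ) = vec chevE8 8 141 ∧ (-sr 1 : Fin 8 → ℤ) = vec chevE8 8 98 := by
  have h1 : (sr 1 : Fin 8 → ℤ) = vec chevE8 8 141 := by
    rw [← vec_simple hp8 1]
    exact congrArg _ (by decide +kernel)
  refine ⟨h1, ?_⟩
  rw [h1, ← vec_neg hp8 (by decide +kernel)]
  exact congrArg _ (by decide +kernel)

theorem exists_pe (K : Type u) [Field K] : ∃ φ : Matrix.SpecialLinearGroup (Fin 2) K →* ↥(chevE8.group K),
    ∀ a b (hab : a ≠ b) c, φ (Matrix.SpecialLinearGroup.transvection hab c) =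
      xc hp8 (vec chevE8 8 (re a b)) ((se a b : K) * c) := by
  refine ⟨sl hp8 (K := K) 1, fun a b hab c => ?_⟩
  have e1 : ((1 : ℤ) : K) * c = c := by rw [Int.cast_one, one_mul]
  fin_cases a <;> fin_cases b
  · exact absurd rfl hab
  · have h1 : sl hp8 (K := K) 1 (uu c) = xc hp8 (vec chevE8 8 141) c := by
      rw [← vece.1]
      exact sl_uu hp8 1 c
    exact ((congrArg (sl hp8 (K := K) 1) (tv01 c)).trans h1).trans (congrArg (xc hp8 (vec chevE8 8 141)) e1.symm)
  · have h1 : sl hp8 (K := K) 1 (vv c) = xc hp8 (vec chevE8 8 98) c := by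
      rw [← vece.2]
      exact sl_vv hp8 1 c
    exact ((congrArg (sl hp8 (K := K) 1) (tv10 c)).trans h1).trans (congrArg (xc hp8 (vec chevE8 8 98)) e1.symm)
  · exact absurd rfl hab

variable (K : Type u) [Field K]

noncomputable def pa : Matrix.SpecialLinearGroup (Fin 5) K →* ↥(chevE8.group K) := (exists_pa K).choose
noncomputable def pb : Matrix.SpecialLinearGroup (Fin 4) K →* ↥(chevE8.group K) := (exists_pb K).choose
noncomputable def pc : Matrix.SpecialLinearGroup (Fin 5) K →* ↥(chevE8.group K) := (exists_pc K).choose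
noncomputable def pd : Matrix.SpecialLinearGroup (Fin 3) K →* ↥(chevE8.group K) := (exists_pd K).choose
noncomputable def pe : Matrix.SpecialLinearGroup (Fin 2) K →* ↥(chevE8.group K) := (exists_pe K).choose

theorem pa_tv (a b : Fin 5) (hab : a ≠ b) (c : K) : pa K (Matrix.SpecialLinearGroup.transvection hab c) =
    xc hp8 (vec chevE8 8 (ra a b)) ((sa a b : K) * c) := (exists_pa K).choose_spec a b hab c
theorem pb_tv (a b : Fin 4) (hab : a ≠ b) (c : K) : pb K (Matrix.SpecialLinearGroup.transvection hab c) =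
    xc hp8 (vec chevE8 8 (rb a b)) ((sb a b : K) * c) := (exists_pb K).choose_spec a b hab c
theorem pc_tv (a b : Fin 5) (hab : a ≠ b) (c : K) : pc K (Matrix.SpecialLinearGroup.transvection hab c) =
    xc hp8 (vec chevE8 8 (rc a b)) ((sc a b : K) * c) := (exists_pc K).choose_spec a b hab c
theorem pd_tv (a b : Fin 3) (hab : a ≠ b) (c : K) : pd K (Matrix.SpecialLinearGroup.transvection hab c) =
    xc hp8 (vec chevE8 8 (rd a b)) ((sd a b : K) * c) := (exists_pd K).choose_spec a b hab c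
theorem pe_tv (a b : Fin 2) (hab : a ≠ b) (c : K) : pe K (Matrix.SpecialLinearGroup.transvection hab c) =
    xc hp8 (vec chevE8 8 (re a b)) ((se a b : K) * c) := (exists_pe K).choose_spec a b hab c

variable {K}

theorem cm_comm {r s : ℕ} (h : Cm chevE8 r s) (a b : K) :
    Commute (xc hp8 (vec chevE8 8 r) a) (xc hp8 (vec chevE8 8 s) b) :=
  xc_commute hp8 h.1 h.2.1 h.2.2.1 h.2.2.2.1 h.2.2.2.2 a b

theorem comm_gen {m n : ℕ} {r : Fin m → Fin m → ℕ} {r' : Fin n → Fin n → ℕ} {s : Fin m → Fin m → ℤ}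
    {s' : Fin n → Fin n → ℤ} {φ : Matrix.SpecialLinearGroup (Fin m) K →* ↥(chevE8.group K)}
    {φ' : Matrix.SpecialLinearGroup (Fin n) K →* ↥(chevE8.group K)}
    (h : ∀ a b (hab : a ≠ b) c, φ (Matrix.SpecialLinearGroup.transvection hab c) =
      xc hp8 (vec chevE8 8 (r a b)) ((s a b : K) * c))
    (h' : ∀ a b (hab : a ≠ b) c, φ' (Matrix.SpecialLinearGroup.transvection hab c) =
      xc hp8 (vec chevE8 8 (r' a b)) ((s' a b : K) * c))
    (hc : ∀ a b, a ≠ b → ∀ c d, c ≠ d → Cm chevE8 (r a b) (r' c d)) (A : Matrix.SpecialLinearGroup (Fin m) K)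
    (B : Matrix.SpecialLinearGroup (Fin n) K) : Commute (φ A) (φ' B) := by
  refine commute_hom _ _ (fun a b hab c => (commute_hom _ _ (fun a' b' hab' d => ?_) B).symm) A
  rw [h, h']
  exact (cm_comm (hc a b hab a' b' hab') _ _).symm

theorem cab (A : Matrix.SpecialLinearGroup (Fin 5) K) (B : Matrix.SpecialLinearGroup (Fin 4) K) :
    Commute (pa K A) (pb K B) := comm_gen (pa_tv K) (pb_tv K) cmab A B

theorem ccd (A : Matrix.SpecialLinearGroup (Fin 5) K) (B : Matrix.SpecialLinearGroup (Fin 3) K) :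
    Commute (pc K A) (pd K B) := comm_gen (pc_tv K) (pd_tv K) cmcd A B

theorem cce (A : Matrix.SpecialLinearGroup (Fin 5) K) (B : Matrix.SpecialLinearGroup (Fin 2) K) :
    Commute (pc K A) (pe K B) := comm_gen (pc_tv K) (pe_tv K) cmce A B

theorem cde (A : Matrix.SpecialLinearGroup (Fin 3) K) (B : Matrix.SpecialLinearGroup (Fin 2) K) :
    Commute (pd K A) (pe K B) := comm_gen (pd_tv K) (pe_tv K) cmde A B

variable (K)

/-- the Levi subgroup of type `A₄ A₃` -/
noncomputable def PhP : Matrix.SpecialLinearGroup (Fin 5) K × Matrix.SpecialLinearGroup (Fin 4) K →* ↥(chevE8.group K) :=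
  (pa K).noncommCoprod (pb K) cab

noncomputable def PhR : Matrix.SpecialLinearGroup (Fin 5) K × Matrix.SpecialLinearGroup (Fin 3) K →* ↥(chevE8.group K) :=
  (pc K).noncommCoprod (pd K) ccd

/-- the Levi subgroup of type `A₄ A₂ A₁` -/
noncomputable def PhQ : (Matrix.SpecialLinearGroup (Fin 5) K × Matrix.SpecialLinearGroup (Fin 3) K) ×
    Matrix.SpecialLinearGroup (Fin 2) K →* ↥(chevE8.group K) :=
  (PhR K).noncommCoprod (pe K) fun p B => (cce p.1 B).mul_left (cde p.2 B)

theorem pcP : Pc hp8 K {k | k ∈ JP} (PhP K) ((LT 5 K).prod (LT 4 K)) ((UT 5 K).prod (UT 4 K))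
    (fun q => Qb ra q ∨ Qb rb q) :=
  (Pc.block (pa_tv K) rta.1 raP rta.2.2.2.1).prod (Pc.block (pb_tv K) rtb.1 rbP rtb.2.2.2.1) cab

theorem pcQ : Pc hp8 K {k | k ∈ JQ} (PhQ K) (((LT 5 K).prod (LT 3 K)).prod (LT 2 K))
    (((UT 5 K).prod (UT 3 K)).prod (UT 2 K)) (fun q => (Qb rc q ∨ Qb rd q) ∨ Qb re q) :=
  ((Pc.block (pc_tv K) rtc.1 rcQ rtc.2.2.2.1).prod (Pc.block (pd_tv K) rtd.1 rdQ rtd.2.2.2.1) ccd).prod
    (Pc.block (pe_tv K) rte.1 reQ rte.2.1) fun p B => (cce p.1 B).mul_left (cde p.2 B)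

end Hom

/-! ### Fixed points -/

section nf

variable {K : Type u} [Field K] [Finite K]

theorem prod_nat {K' : Type u} [Field K'] {i : K →+* K'} {n : ℕ} {g : Polynomial K} {z : K'} (S : Spec i n g z)
    (hn : 0 < n) (w : Fin n → ℤ) : (∏ k : Fin n, (z ^ Nat.card K ^ (k : ℕ)) ^ w k) ^ (Nat.card K ^ n - 1) = 1 :=
  prod_pow_one (fun k => pow_card S hn k) w

/-- **No fixed points, `A₄ A₃`.** -/
theorem nfP (hcop : (∑ a ∈ Finset.range 5, Nat.card K ^ a).Coprime (Nat.card K ^ 4 - 1))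
    {A : Matrix.SpecialLinearGroup (Fin 5) K} {B : Matrix.SpecialLinearGroup (Fin 4) K}
    (hA : Irreducible (A : Matrix (Fin 5) (Fin 5) K).charpoly) (hB : Irreducible (B : Matrix (Fin 4) (Fin 4) K).charpoly) :
    NF (VJ cs8 hp8.isCartan (XX chevE8 8 K) {k | k ∈ JP}) (PhP K (A, B)) ∧
      NF (VNJ cs8 hp8.isCartan (XX chevE8 8 K) {k | k ∈ JP}) (PhP K (A, B)) := by
  obtain ⟨K', _, _, i, z, v, -, S, S', -⟩ := exists_common A B B hA hB hB
  obtain ⟨ch, hch⟩ := CharP.exists K'
  have : Fact ch.Prime := ⟨(CharP.char_is_prime_or_zero K' ch).resolve_right (CharP.char_ne_zero_of_finite K' ch)⟩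
  have BA : Bk hp8 i {k | k ∈ JP} 3 ra ja (pa K) (pa K') (fun a b => ((sa a b : ℤ) : K)) :=
    { simp := ⟨sima.1, sima.2⟩
      rlt := rta.1
      rJ := raP
      hφ := pa_tv K
      hφ' := fun a b hab c => by rw [pa_tv, map_intCast]
      ss := fun a => by rw [rta.2.2.2.2.1 a.castSucc a.succ, ← Int.cast_mul, rta.2.2.2.1, Int.cast_one] }
  have BB : Bk hp8 i {k | k ∈ JP} 2 rb jb (pb K) (pb K') (fun a b => ((sb a b : ℤ) : K)) :=
    { simp := ⟨simb.1, simb.2⟩
      rlt := rtb.1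
      rJ := rbP
      hφ := pb_tv K
      hφ' := fun a b hab c => by rw [pb_tv, map_intCast]
      ss := fun a => by rw [rtb.2.2.2.2.1 a.castSucc a.succ, ← Int.cast_mul, rtb.2.2.2.1, Int.cast_one] }
  obtain ⟨g, hg⟩ := Cfsg.Agent.H934.MF.diag_map i (A : Matrix (Fin 5) (Fin 5) K) S.inj S.split
  obtain ⟨g', hg'⟩ := Cfsg.Agent.H934.MF.diag_map i (B : Matrix (Fin 4) (Fin 4) K) S'.inj S'.split
  refine ((BA.dz hp8 hg).mul hp8 (BB.dz hp8 hg') (BA.comm_range₂ hp8 BB fun a b hab c d hcd x y =>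
    (cm_comm (cmab a b hab c d hcd) x y).eq)).nf hp8 ch fun q hq hk => ?_
  rcases outP q hq hk with ⟨a, b, hab, hw⟩ | ⟨h0, a, hw⟩
  · exact five_ne S hcop hab hw (prod_nat S' (by norm_num) _)
  · have h1 : ∏ k : Fin 5, (z ^ Nat.card K ^ (k : ℕ)) ^ wt chevE8 ja q k = 1 :=
      Finset.prod_eq_one fun k _ => by rw [h0, zpow_zero]
    have hl0 : ∀ k : Fin 4, v ^ Nat.card K ^ (k : ℕ) ≠ 0 := fun k => pow_ne_zero _ (z0 S' (by norm_num))
    intro h
    have h' : (∏ k : Fin 5, (z ^ Nat.card K ^ (k : ℕ)) ^ wt chevE8 ja q k) *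
        ∏ k : Fin 4, (v ^ Nat.card K ^ (k : ℕ)) ^ wt chevE8 jb q k = 1 := h
    rw [h1, one_mul] at h'
    rcases hw with hw | hw
    · rw [prod_one hl0 (prod_lam S') hw] at h'
      exact ne_one S' (by norm_num) _ h'
    · rw [prod_inv_one hl0 (prod_lam S') hw] at h'
      exact ne_one S' (by norm_num) _ (inv_eq_one.1 h')

/-- **No fixed points, `A₄ A₂ A₁`.** -/
theorem nfQ (hcop : (∑ a ∈ Finset.range 5, Nat.card K ^ a).Coprime ((Nat.card K ^ 3 - 1) * (Nat.card K ^ 2 - 1)))
    {A : Matrix.SpecialLinearGroup (Fin 5) K} {B : Matrix.SpecialLinearGroup (Fin 3) K}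
    {C : Matrix.SpecialLinearGroup (Fin 2) K}
    (hA : Irreducible (A : Matrix (Fin 5) (Fin 5) K).charpoly) (hB : Irreducible (B : Matrix (Fin 3) (Fin 3) K).charpoly)
    (hC : Irreducible (C : Matrix (Fin 2) (Fin 2) K).charpoly) :
    NF (VJ cs8 hp8.isCartan (XX chevE8 8 K) {k | k ∈ JQ}) (PhQ K ((A, B), C)) ∧
      NF (VNJ cs8 hp8.isCartan (XX chevE8 8 K) {k | k ∈ JQ}) (PhQ K ((A, B), C)) := by
  obtain ⟨K', _, _, i, z, v, w, S, S', S''⟩ := exists_common A B C hA hB hC
  obtain ⟨ch, hch⟩ := CharP.exists K'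
  have : Fact ch.Prime := ⟨(CharP.char_is_prime_or_zero K' ch).resolve_right (CharP.char_ne_zero_of_finite K' ch)⟩
  have BA : Bk hp8 i {k | k ∈ JQ} 3 rc jc (pc K) (pc K') (fun a b => ((sc a b : ℤ) : K)) :=
    { simp := ⟨simc.1, simc.2⟩
      rlt := rtc.1
      rJ := rcQ
      hφ := pc_tv K
      hφ' := fun a b hab c => by rw [pc_tv, map_intCast]
      ss := fun a => by rw [rtc.2.2.2.2.1 a.castSucc a.succ, ← Int.cast_mul, rtc.2.2.2.1, Int.cast_one] }
  have BB : Bk hp8 i {k | k ∈ JQ} 1 rd jd (pd K) (pd K') (fun a b => ((sd a b : ℤ) : K)) :=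
    { simp := ⟨simd.1, simd.2⟩
      rlt := rtd.1
      rJ := rdQ
      hφ := pd_tv K
      hφ' := fun a b hab c => by rw [pd_tv, map_intCast]
      ss := fun a => by rw [rtd.2.2.2.2.1 a.castSucc a.succ, ← Int.cast_mul, rtd.2.2.2.1, Int.cast_one] }
  have BC : Bk hp8 i {k | k ∈ JQ} 0 re je (pe K) (pe K') (fun a b => ((se a b : ℤ) : K)) :=
    { simp := ⟨sime.1, sime.2⟩
      rlt := rte.1
      rJ := reQ
      hφ := pe_tv K
      hφ' := fun a b hab c => by rw [pe_tv, map_intCast]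
      ss := fun a => by rw [rte.2.2.1 a.castSucc a.succ, ← Int.cast_mul, rte.2.1, Int.cast_one] }
  obtain ⟨g, hg⟩ := Cfsg.Agent.H934.MF.diag_map i (A : Matrix (Fin 5) (Fin 5) K) S.inj S.split
  obtain ⟨g', hg'⟩ := Cfsg.Agent.H934.MF.diag_map i (B : Matrix (Fin 3) (Fin 3) K) S'.inj S'.split
  obtain ⟨g'', hg''⟩ := Cfsg.Agent.H934.MF.diag_map i (C : Matrix (Fin 2) (Fin 2) K) S''.inj S''.split
  refine (((BA.dz hp8 hg).mul hp8 (BB.dz hp8 hg') (BA.comm_range₂ hp8 BB fun a b hab c d hcd x y =>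
    (cm_comm (cmcd a b hab c d hcd) x y).eq)).mul hp8 (BC.dz hp8 hg'')
    (Cfsg.Agent.H482.Ore.Fix.comm_sup (BA.comm_range₂ hp8 BC fun a b hab c d hcd x y =>
      (cm_comm (cmce a b hab c d hcd) x y).eq) (BB.comm_range₂ hp8 BC fun a b hab c d hcd x y =>
      (cm_comm (cmde a b hab c d hcd) x y).eq))).nf hp8 ch fun q hq hk => ?_
  have hB1 := prod_nat S' (by norm_num) (wt chevE8 jd q)
  have hC1 := prod_nat S'' (by norm_num) (wt chevE8 je q)
  rcases outQ q hq hk with ⟨a, b, hab, hw⟩ | ⟨h0, ⟨a, hw⟩, -⟩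
  · rw [mul_assoc]
    refine five_ne S hcop hab hw ?_
    rw [mul_pow, pow_mul, hB1, one_pow, one_mul, mul_comm (Nat.card K ^ 3 - 1), pow_mul, hC1, one_pow]
  · have h1 : ∏ k : Fin 5, (z ^ Nat.card K ^ (k : ℕ)) ^ wt chevE8 jc q k = 1 :=
      Finset.prod_eq_one fun k _ => by rw [h0, zpow_zero]
    have hl0 : ∀ k : Fin 3, v ^ Nat.card K ^ (k : ℕ) ≠ 0 := fun k => pow_ne_zero _ (z0 S' (by norm_num))
    intro h
    have h' : (∏ k : Fin 5, (z ^ Nat.card K ^ (k : ℕ)) ^ wt chevE8 jc q k) *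
        (∏ k : Fin 3, (v ^ Nat.card K ^ (k : ℕ)) ^ wt chevE8 jd q k) *
        ∏ k : Fin 2, (w ^ Nat.card K ^ (k : ℕ)) ^ wt chevE8 je q k = 1 := h
    rw [h1, one_mul] at h'
    have h2 := congrArg (fun t => t ^ (Nat.card K ^ 2 - 1)) h'
    simp only [mul_pow, hC1, mul_one, one_pow] at h2
    rcases hw with hw | hw
    · rw [prod_one hl0 (prod_lam S') hw] at h2
      exact three_ne S' _ h2
    · rw [prod_inv_one hl0 (prod_lam S') hw, inv_pow] at h2
      exact three_ne S' _ (inv_eq_one.1 h2)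

end nf

/-! ### The pairs -/

/-- every product of a lower and an upper unitriangular matrix in `SL_m(K)` is a product of two elements with irreducible
characteristic polynomials and `x ^ k = 1` -/
def PI (m : ℕ) (K : Type*) [Field K] (k : ℕ) : Prop :=
  ∀ L ∈ LT m K, ∀ U ∈ UT m K, ∃ X Y : Matrix.SpecialLinearGroup (Fin m) K, L * U = X * Y ∧
    (Irreducible (X : Matrix (Fin m) (Fin m) K).charpoly ∧ X ^ k = 1) ∧
    (Irreducible (Y : Matrix (Fin m) (Fin m) K).charpoly ∧ Y ^ k = 1)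

theorem PI.of_irr {m : ℕ} {K : Type u} [Field K] [Finite K] (h : ∀ L ∈ LT m K, ∀ U ∈ UT m K,
    ∃ X Y : Matrix.SpecialLinearGroup (Fin m) K, L * U = X * Y ∧
    Irreducible (X : Matrix (Fin m) (Fin m) K).charpoly ∧ Irreducible (Y : Matrix (Fin m) (Fin m) K).charpoly) :
    PI m K (∑ a ∈ Finset.range m, Nat.card K ^ a) := by
  intro L hL U hU
  obtain ⟨X, Y, e, hX, hY⟩ := h L hL U hU
  exact ⟨X, Y, e, ⟨hX, irr_pow hX⟩, hY, irr_pow hY⟩

variable {K : Type u} [Field K] [Finite K]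

/-- **`A₄ A₂ A₁`.** -/
theorem pairsQ (hcop : (∑ a ∈ Finset.range 5, Nat.card K ^ a).Coprime ((Nat.card K ^ 3 - 1) * (Nat.card K ^ 2 - 1)))
    {k5 k3 k2 : ℕ} (h5 : PI 5 K k5) (h3 : PI 3 K k3) (h2 : PI 2 K k2) (g : ↥(chevE8.group K)) :
    ∃ a b : ↥(chevE8.group K), g = a * b ∧ a ^ (k5 * (k3 * k2)) = 1 ∧ b ^ (k5 * (k3 * k2)) = 1 := by
  refine (pcQ K).pairs (Good := fun x => (Irreducible (x.1.1 : Matrix (Fin 5) (Fin 5) K).charpoly ∧ x.1.1 ^ k5 = 1) ∧
      (Irreducible (x.1.2 : Matrix (Fin 3) (Fin 3) K).charpoly ∧ x.1.2 ^ k3 = 1) ∧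
      (Irreducible (x.2 : Matrix (Fin 2) (Fin 2) K).charpoly ∧ x.2 ^ k2 = 1)) subQ (by norm_num)
    (Cfsg.Agent.S1054.result chevE8 (by simp)) Cfsg.Agent.Nodes.ChevChart.irr8 ?_ ?_ ?_ g
  · rintro ⟨⟨L, L'⟩, L''⟩ ⟨⟨hL, hL'⟩, hL''⟩ ⟨⟨U, U'⟩, U''⟩ ⟨⟨hU, hU'⟩, hU''⟩
    obtain ⟨X, Y, e, hX, hY⟩ := h5 L hL U hU
    obtain ⟨X', Y', e', hX', hY'⟩ := h3 L' hL' U' hU'
    obtain ⟨X'', Y'', e'', hX'', hY''⟩ := h2 L'' hL'' U'' hU''
    exact ⟨((X, X'), X''), ((Y, Y'), Y''), Prod.ext (Prod.ext e e') e'', ⟨hX, hX', hX''⟩, hY, hY', hY''⟩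
  · rintro ⟨⟨X, Y⟩, Z⟩ ⟨⟨hX, -⟩, ⟨hY, -⟩, hZ, -⟩
    exact nfQ hcop hX hY hZ
  · rintro ⟨⟨X, Y⟩, Z⟩ ⟨⟨-, hX⟩, ⟨-, hY⟩, -, hZ⟩
    refine Prod.ext (Prod.ext ?_ ?_) ?_
    · change X ^ (k5 * (k3 * k2)) = 1
      rw [pow_mul, hX, one_pow]
    · change Y ^ (k5 * (k3 * k2)) = 1
      rw [mul_comm, mul_assoc, pow_mul, hY, one_pow]
    · change Z ^ (k5 * (k3 * k2)) = 1
      rw [mul_comm, mul_comm k3, mul_assoc, pow_mul, hZ, one_pow]

end Cfsg.Agent.H122.Pw
end

-- part: H122/Pw/Six8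
section
/-!
# `E₈(3)`, `E₈(4)`, `E₈(9)`: products of two elements of order prime to `6` (helper122, S2465)
-/

set_option autoImplicit false
set_option linter.unusedSectionVars false

namespace Cfsg.Agent.H122.Pw

open Cfsg.Lie Cfsg.Agent.H78.Pw Cfsg.Agent.H85.Pw Cfsg.Agent.H194.Pw Cfsg.Agent.H162.GaussSL

universe u

variable {K : Type u} [Field K] [Finite K]

/-- elements of prime order `ℓ`, prime to `q - 1` and to the characteristic -/
theorem irr_two {ℓ : ℕ} (hℓ : ℓ.Prime) (h1 : ℓ.Coprime (Nat.card K - 1)) (h2 : (ℓ : K) ≠ 0)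
    {X : Matrix.SpecialLinearGroup (Fin 2) K} (hX : orderOf X = ℓ) :
    Irreducible (X : Matrix (Fin 2) (Fin 2) K).charpoly := by
  classical
  have hm := Matrix.charpoly_monic (X : Matrix (Fin 2) (Fin 2) K)
  have hd : (X : Matrix (Fin 2) (Fin 2) K).charpoly.natDegree = 2 := by
    rw [Matrix.charpoly_natDegree_eq_dim, Fintype.card_fin]
  have hpow : (X : Matrix (Fin 2) (Fin 2) K) ^ ℓ = 1 := by
    have h3 := pow_orderOf_eq_one X
    rw [hX] at h3
    rw [← Matrix.SpecialLinearGroup.coe_pow, h3]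
    rfl
  rw [hm.irreducible_iff_roots_eq_zero_of_degree_le_three (by omega) (by omega)]
  rw [Multiset.eq_zero_iff_forall_notMem]
  intro c hc
  have hc := (Polynomial.mem_roots hm.ne_zero).1 hc
  obtain ⟨v, hv0, hv⟩ : ∃ v : Fin 2 → K, v ≠ 0 ∧ (X : Matrix (Fin 2) (Fin 2) K).mulVec v = c • v := by
    have h3 : (Matrix.scalar (Fin 2) c - (X : Matrix (Fin 2) (Fin 2) K)).det = 0 := by
      rw [← Matrix.eval_charpoly]
      exact hc
    obtain ⟨v, hv0, hv⟩ := Matrix.exists_mulVec_eq_zero_iff.2 h3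
    refine ⟨v, hv0, ?_⟩
    rw [Matrix.sub_mulVec, sub_eq_zero] at hv
    rw [← hv, Matrix.scalar_apply]
    ext i
    simp [Matrix.mulVec_diagonal]
  have hcl : c ^ ℓ = 1 := by
    have h3 : ∀ m : ℕ, ((X : Matrix (Fin 2) (Fin 2) K) ^ m).mulVec v = c ^ m • v := by
      intro m
      induction m with
      | zero => rw [pow_zero, pow_zero, Matrix.one_mulVec, one_smul]
      | succ m ih => rw [pow_succ, ← Matrix.mulVec_mulVec, hv, Matrix.mulVec_smul, ih, smul_smul, pow_succ, mul_comm]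
    have h4 := h3 ℓ
    rw [hpow, Matrix.one_mulVec] at h4
    have h5 : (c ^ ℓ - 1) • v = 0 := by rw [sub_smul, one_smul, ← h4, sub_self]
    exact sub_eq_zero.1 ((smul_eq_zero.1 h5).resolve_right hv0)
  have hc0 : c ≠ 0 := by
    rintro rfl
    rw [zero_pow hℓ.ne_zero] at hcl
    exact zero_ne_one hcl
  have hc1 : c = 1 := by
    have := Fintype.ofFinite K
    have h3 := FiniteField.pow_card_sub_one_eq_one c hc0
    rw [← Nat.card_eq_fintype_card] at h3
    have h4 := Nat.dvd_gcd (orderOf_dvd_of_pow_eq_one hcl) (orderOf_dvd_of_pow_eq_one h3)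
    rw [h1] at h4
    exact orderOf_eq_one_iff.1 (Nat.dvd_one.1 h4)
  -- `(X - 1)² = 0`
  have hdet : (X : Matrix (Fin 2) (Fin 2) K).det = 1 := X.2
  have htr : (X : Matrix (Fin 2) (Fin 2) K).trace = 2 := by
    have h3 : (X : Matrix (Fin 2) (Fin 2) K).charpoly.eval 1 = 0 := by
      subst hc1
      exact hc
    rw [Matrix.charpoly_fin_two, hdet] at h3
    simp only [Polynomial.eval_add, Polynomial.eval_sub, Polynomial.eval_pow, Polynomial.eval_X, Polynomial.eval_mul,
      Polynomial.eval_C] at h3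
    linear_combination -h3
  obtain ⟨N, hN⟩ : ∃ N, N = (X : Matrix (Fin 2) (Fin 2) K) - 1 := ⟨_, rfl⟩
  have hNN : N * N = 0 := by
    have h3 := Matrix.aeval_self_charpoly (X : Matrix (Fin 2) (Fin 2) K)
    rw [Matrix.charpoly_fin_two, hdet, htr] at h3
    simp only [map_add, map_sub, map_pow, map_mul, Polynomial.aeval_X, map_one, map_ofNat] at h3
    rw [hN]
    have h4 : ((X : Matrix (Fin 2) (Fin 2) K) - 1) * ((X : Matrix (Fin 2) (Fin 2) K) - 1) =
        (X : Matrix (Fin 2) (Fin 2) K) ^ 2 - 2 * (X : Matrix (Fin 2) (Fin 2) K) + 1 := by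
      noncomm_ring
    rw [h4]
    exact h3
  have hXN : (X : Matrix (Fin 2) (Fin 2) K) = 1 + N := by rw [hN]; abel
  have hpowN : ∀ m : ℕ, (X : Matrix (Fin 2) (Fin 2) K) ^ m = 1 + (m : K) • N := by
    intro m
    induction m with
    | zero => simp
    | succ m ih =>
      rw [pow_succ, ih, hXN, mul_add, mul_one, _root_.add_mul, one_mul, smul_mul_assoc, hNN, smul_zero, add_zero]
      rw [Nat.cast_succ, add_smul, one_smul]
      abel
  have h3 := hpowN ℓ
  rw [hpow] at h3
  have h4 : (ℓ : K) • N = 0 := by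
    have := h3.symm
    rwa [add_eq_left] at this
  have h5 : N = 0 := (smul_eq_zero.1 h4).resolve_left h2
  have h6 : X = 1 := by
    apply Subtype.ext
    change (X : Matrix (Fin 2) (Fin 2) K) = 1
    rw [hXN, h5, add_zero]
  rw [h6, orderOf_one] at hX
  exact hℓ.one_lt.ne hX

/-- the block of type `A₁` -/
theorem pi_two {ℓ : ℕ} (hℓ : ℓ.Prime) (h5 : 5 ≤ ℓ) (hd : ℓ ∣ Nat.card K ^ 2 - 1) (h1 : ℓ.Coprime (Nat.card K - 1))
    (h2 : (ℓ : K) ≠ 0) : PI 2 K ℓ := by
  intro L hL U hU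
  obtain ⟨x, y, e, hx, hy⟩ := Cfsg.Agent.H267.Ore.PTwo.p_two_prime hℓ h5 hd
    (Cfsg.Agent.H267.Ore.PTwo.nonscalar_LU hL hU)
  exact ⟨x, y, e, ⟨irr_two hℓ h1 h2 hx, by rw [← hx, pow_orderOf_eq_one]⟩,
    irr_two hℓ h1 h2 hy, by rw [← hy, pow_orderOf_eq_one]⟩

/-- **`E₈(4)`** -/
theorem six_E8_four (hK : Nat.card K = 4) (h5 : PI 5 K 341) (h3 : PI 3 K 7) : All 6 ↥(chevE8.group K) := by
  have h2 : PI 2 K 5 := pi_two (by norm_num) le_rfl (by rw [hK]; norm_num) (by rw [hK]; norm_num) (by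
    intro h
    have := Fintype.ofFinite K
    have h7 : (4 : K) = 0 := by
      have h8 : ((Fintype.card K : ℕ) : K) = 0 := FiniteField.cast_card_eq_zero K
      rw [← Nat.card_eq_fintype_card, hK] at h8
      exact_mod_cast h8
    have h9 : (1 : K) = 0 := by
      have h10 : (1 : K) = ((5 : ℕ) : K) - 4 := by norm_num
      rw [h10, h, h7, sub_zero]
    exact one_ne_zero h9)
  exact all_of_pairs (N := 341 * (7 * 5)) (by norm_num) (pairsQ (by rw [hK]; decide) h5 h3 h2)

/-- **`E₈(9)`** -/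
theorem six_E8_nine (hK : Nat.card K = 9) (h5 : PI 5 K 7381) (h3 : PI 3 K 91) : All 6 ↥(chevE8.group K) := by
  have h2 : PI 2 K 5 := pi_two (by norm_num) le_rfl (by rw [hK]; norm_num) (by rw [hK]; norm_num) (by
    intro h
    have := Fintype.ofFinite K
    have h7 : (9 : K) = 0 := by
      have h8 : ((Fintype.card K : ℕ) : K) = 0 := FiniteField.cast_card_eq_zero K
      rw [← Nat.card_eq_fintype_card, hK] at h8
      exact_mod_cast h8
    have h9 : (1 : K) = 0 := by
      have h10 : (1 : K) = 2 * ((5 : ℕ) : K) - 9 := by norm_num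
      rw [h10, h, h7, sub_zero, mul_zero]
    exact one_ne_zero h9)
  exact all_of_pairs (N := 7381 * (91 * 5)) (by norm_num) (pairsQ (by rw [hK]; decide) h5 h3 h2)

end Cfsg.Agent.H122.Pw
end
end

-- part: H126/PwO/Gen
section
set_option linter.all false
open scoped Cfsg.Agent.FastGrp

/-!
# S2465, orthogonal groups: a general Schur complement (helper126)
-/

set_option autoImplicit false
set_option linter.unusedSectionVars false

namespace Cfsg.Agent.H126.PwO

open QuadraticMap Matrix Polynomial Cfsg.Agent.LieClassical.OrthCore Cfsg.Agent.LieClassical.OrthTrans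
  Cfsg.Agent.LieClassical.OrthFinite Cfsg.Agent.H140.OreO

variable {F V : Type*} [Field F] [AddCommGroup V] [Module F V] {m : ℕ} {Q : QuadraticForm F V}

/-- `g₁` is the Schur complement of `g` -/
def IsSchur {w w' : Fin m → V} (hf : Frame Q w w') (g : V ≃ₗ[F] V)
    (g₁ : perp Q w w' ≃ₗ[F] perp Q w w') : Prop :=
  ∀ v v' c d, autE hf.toModel g (c, v, 0) = (0, v', d) → g₁ v = v'

theorem isSchur_one {w w' : Fin m → V} (hf : Frame Q w w') {g : V ≃ₗ[F] V} (hS : SchurOne Q g w w')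
    {g₁ : perp Q w w' ≃ₗ[F] perp Q w w'} (h : IsSchur hf g g₁) : g₁ = 1 := by
  apply LinearEquiv.ext
  intro v
  obtain ⟨c, d, hcd⟩ := schur_model hf hS v
  exact h v v c d hcd

/-- **A product from a frame.** -/
theorem prO_gen [Finite F] [FiniteDimensional F V] {N : ℕ} (hN : 5 ≤ Module.finrank F V)
    {w w' : Fin m → V} (hQ : Nondeg Q)
    (hf : Frame Q w w') {g : V ≃ₗ[F] V} (hg : g ∈ O Q) {X Y : GL (Fin m) F}
    (hXY : corner Q g w w' = ((X * Y : GL (Fin m) F) : Matrix (Fin m) (Fin m) F))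
    (hX : (X : Matrix (Fin m) (Fin m) F).det = 1) (hY : (Y : Matrix (Fin m) (Fin m) F).det = 1)
    {s t k : ℕ} (hs : s.Coprime N) (ht : t.Coprime N) (hXs : X ^ s = 1) (hYt : Y ^ t = 1) (hk : Odd k)
    (hkN : k.Coprime N)
    (h : ∀ g₁ ∈ O (res Q w w'), IsSchur hf g g₁ → ∃ x ∈ O (res Q w w'), ∃ y ∈ O (res Q w w'),
      g₁ = x * y ∧ Cop X x ∧ Cop Y y ∧ x ^ k = 1 ∧ y ^ k = 1) : PrO N Q g := by
  have he : ∀ v, MQ m (res Q w w') (hf.toModel v) = Q v := hf.MQ_toModel
  have hQ1 := hf.nondeg_res hQ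
  have hG : Good (MQ m (res Q w w')) := by
    apply good_of_finite (nondeg_MQ hQ1)
    rw [← hf.toModel.finrank_eq]; omega
  refine PrO.of_autE he ?_
  obtain ⟨u₁, hu₁, g₁, hg₁, u₂, hu₂, e⟩ := decomp ((autE_mem_O he).2 hg) (X * Y) (fun a => by
    rw [corner_model, hXY])
  obtain ⟨x, hx, y, hy, hxy, cX, cY, hxk, hyk⟩ := h g₁ hg₁ (fun v v' c d hcd => schur_one_of hu₁ hu₂ e hcd)
  have hO : ∀ (Z : GL (Fin m) F) (z : perp Q w w' ≃ₗ[F] perp Q w w'), (Z : Matrix (Fin m) (Fin m) F).det = 1 →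
      z ∈ O (res Q w w') → z ^ k = 1 → lev Z z ∈ Om (MQ m (res Q w w')) := by
    intro Z z hZ hz hzk
    have h2 : lev Z z = lev Z 1 * lev 1 z := by rw [← lev_mul, mul_one, one_mul]
    rw [h2]
    refine (Om _).mul_mem (lev_det_one_mem hG hZ) (mem_Om_of_pow hG (lev_mem hz) hk ?_)
    rw [lev_pow, one_pow, hzk, lev_one]
  refine prO_model hu₁ hu₂ e (x := x) (y := y) hxy hx hy cX cY (hO X x hX hx hxk) (hO Y y hY hy hyk)
    (s := s * k) (t := t * k) (Nat.Coprime.mul_left hs hkN) (Nat.Coprime.mul_left ht hkN) ?_ ?_ ?_ ?_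
  · rw [pow_mul, hXs, one_pow]
  · rw [mul_comm, pow_mul, hxk, one_pow]
  · rw [pow_mul, hYt, one_pow]
  · rw [mul_comm, pow_mul, hyk, one_pow]

/-! ### Tools for `Un` -/

theorem un_subsingleton [Subsingleton V] (φ : Module.End F V) (c : F[X]) : Un φ c := by
  have : aeval φ c = 1 := LinearMap.ext fun v => Subsingleton.elim _ _
  rw [Un, this]
  exact isUnit_one

/-- the fifth cyclotomic polynomial kills `x` -/
def Fv (x : V ≃ₗ[F] V) : Prop := ∀ v, x (x (x (x v))) + x (x (x v)) + x (x v) + x v + v = 0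

theorem Fv.pow {x : V ≃ₗ[F] V} (h : Fv x) : x ^ 5 = 1 := by
  apply LinearEquiv.ext
  intro v
  have h1 := h v
  have h2 := h (x v)
  have h3 : (x ^ 5) v = x (x (x (x (x v)))) := rfl
  rw [h3]
  have h4 : x (x (x (x (x v)))) + (x (x (x (x v))) + x (x (x v)) + x (x v) + x v) =
      v + (x (x (x (x v))) + x (x (x v)) + x (x v) + x v) := by
    have e1 : x (x (x (x (x v)))) + (x (x (x (x v))) + x (x (x v)) + x (x v) + x v) = 0 := by
      rw [← h2]; abel
    have e2 : v + (x (x (x (x v))) + x (x (x v)) + x (x v) + x v) = 0 := by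
      rw [← h1]; abel
    rw [e1, e2]
  exact add_right_cancel h4

theorem Fv.inv {x : V ≃ₗ[F] V} (h : Fv x) : Fv x⁻¹ := by
  intro v
  obtain ⟨w, rfl⟩ : ∃ w, v = x (x (x (x w))) := ⟨x⁻¹ (x⁻¹ (x⁻¹ (x⁻¹ v))), by
    have e : ∀ u, x (x⁻¹ u) = u := fun u => LinearEquiv.apply_symm_apply x u
    rw [e, e, e, e]⟩
  have e : ∀ u, x⁻¹ (x u) = u := fun u => LinearEquiv.symm_apply_apply x u
  rw [e, e, e, e, ← h w]
  abel

theorem Fv.un {x : V ≃ₗ[F] V} (h : Fv x) {P : F[X]} (hP : IsCoprime P (X ^ 5 - 1 : F[X])) :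
    Un (x : Module.End F V) P := by
  refine un_of_coprime (P := X ^ 5 - 1) ?_ hP
  have h1 := h.pow
  rw [map_sub, map_pow, aeval_X, map_one, sub_eq_zero]
  apply LinearMap.ext
  intro v
  have h2 := LinearEquiv.congr_fun h1 v
  exact h2

theorem Fv.un_one {x : V ≃ₗ[F] V} (h : Fv x) (h5 : (5 : F) ≠ 0) : Un (x : Module.End F V) (X - 1) := by
  refine un_of_coprime (P := X ^ 4 + X ^ 3 + X ^ 2 + X + 1) ?_ ?_
  · apply LinearMap.ext
    intro v
    simp only [map_add, map_pow, aeval_X, map_one, LinearMap.add_apply, LinearMap.zero_apply, Module.End.one_apply]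
    exact h v
  · have h4 : IsCoprime (X - C 1 : F[X]) (X ^ 4 + X ^ 3 + X ^ 2 + X + 1) := by
      rw [(irreducible_X_sub_C (1 : F)).coprime_iff_not_dvd, dvd_iff_isRoot, IsRoot.def]
      simp only [eval_add, eval_pow, eval_X, eval_one, one_pow]
      intro h6
      apply h5
      linear_combination h6
    rwa [C_1] at h4

theorem un_mul {φ : Module.End F V} {a b : F[X]} (ha : Un φ a) (hb : Un φ b) : Un φ (a * b) := by
  rw [Un, map_mul]
  exact ha.mul hb

theorem coprime_reverse_five {f : F[X]} (hf : Irreducible f) (hd : 2 ≤ f.natDegree) (h : ¬ f ∣ X ^ 5 - 1) :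
    IsCoprime f (X ^ 5 - 1 : F[X]) ∧ IsCoprime f.reverse (X ^ 5 - 1 : F[X]) := by
  refine ⟨hf.coprime_iff_not_dvd.2 h, ?_⟩
  have h0 : f.coeff 0 ≠ 0 := coeff_zero_ne hf hd
  rw [(irreducible_rev hf h0).coprime_iff_not_dvd]
  rintro ⟨g, hg⟩
  apply h
  have h1 := congrArg reverse hg
  rw [reverse_mul_of_domain] at h1
  have h2 : (X ^ 5 - 1 : F[X]).reverse = 1 - X ^ 5 := by
    have hd5 : (X ^ 5 - 1 : F[X]).natDegree = 5 := by
      rw [← C_1]; exact natDegree_X_pow_sub_C
    have h3 : reflect 5 (X ^ 5 : F[X]) = 1 := by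
      have := reflect_C_mul_X_pow (R := F) 5 5 (c := 1)
      rw [C_1, one_mul, one_mul] at this
      rw [this, revAt_le le_rfl, Nat.sub_self, pow_zero]
    have h4 : reflect 5 (1 : F[X]) = X ^ 5 := by
      rw [← C_1, reflect_C, C_1, one_mul]
    rw [reverse, hd5, reflect_sub, h3, h4]
  rw [h2, rev_rev h0] at h1
  refine ⟨-g.reverse, ?_⟩
  rw [mul_neg, ← h1]
  ring

end Cfsg.Agent.H126.PwO
end

-- part: H150/F43/DichA
section
prune_inst 0x54074440802020000180586b1203c26dc0001b000280801c8000a440200ef622d81e921048011061a2a2a0120010820001000d0404000000e0004000001002080aa5006a3000104260019800084000000000000000000000000000000000004000000000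
set_option linter.all false
open scoped Cfsg.Agent.FastGrp

/-!
# `F₄(3)` (S2465): the dichotomy for the involution of type `C₃ A₁` (helper150)

* `mem_of_index` : `H ≤ C`, `|C| < 39 |H|`, `x₀ ∈ C` of order `3` with no conjugate in `H`; then `H` contains all
  elements `a ∈ C` with `a ^ 13 = 1` commuting with `x₀`;
* `dich_A` : if `g` commutes with `t₂` and `t₂ ∈ ⟨g⟩`, then `g` commutes with a long root element or
  `39 |C(g)| ≤ |C(t₂)|`.
-/

set_option autoImplicit false
set_option linter.unusedSectionVars false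

namespace Cfsg.Agent.H150.F43

open CoxeterSystem Cfsg.Agent.ChevalleyStructure.CoxeterGeom Cfsg.Agent.Tits.Roots Cfsg.Agent.Tits.Core
  Cfsg.Agent.Nodes.Reps Cfsg.Agent.Nodes.BNOf Cfsg.Agent.Nodes.RGDLib Cfsg.Agent.Nodes.Bruhat
  Cfsg.Agent.Nodes.OppDec Cfsg.Agent.Nodes.LeviDec Cfsg.Agent.Nodes.KindChev Cfsg.Agent.Nodes.ChevCls
  Cfsg.Agent.OddHalf.NI.ModelChev Cfsg.Agent.Nodes.StabComb
  Cfsg.Agent.H162.GaussDec Cfsg.Agent.H162.GaussLevi Cfsg.Agent.H162.GaussSL Cfsg.Agent.H162.GaussReg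
  Cfsg.Agent.H162.GaussPQ
  Cfsg.Agent.H928.Ore.Frame
open Cfsg.Lie Cfsg.Agent.ChevalleyStructure Cfsg.Agent.ChevalleyStructure.Elts
  Cfsg.Agent.ChevalleyStructure.RootVec Cfsg.Agent.ChevalleyStructure.NPerm
  Cfsg.Agent.ChevalleyStructure.CoxeterGeomTypes Cfsg.Agent.Nodes.RGDChev Cfsg.Agent.KFacts.RgdChevCoord
open Cfsg.Agent.TitsThree.KExcRT Cfsg.Agent.AGraded
open Cfsg.Agent.H150.E6T (Cm commute_hom le_of_gen xc_commute)
open Cfsg.Agent.H557.InvF4 Cfsg.Agent.H557.SignTorus Cfsg.Agent.H557.OrbF4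
open scoped MatrixGroups

universe u

/-! ### The abstract lemma -/

section

variable {G : Type*} [Group G] [Finite G]

theorem mem_of_index {H C : Subgroup G} (hHC : H ≤ C) (hidx : Nat.card C < 39 * Nat.card H) {x₀ : G} (hx0 : x₀ ∈ C)
    (h3 : orderOf x₀ = 3) (hno : x₀ ∉ H) {a : G} (ha : a ∈ C) (h13 : a ^ 13 = 1) (hc : Commute a x₀) : a ∈ H := by
  by_contra haH
  have ha1 : a ≠ 1 := fun h => haH (h ▸ H.one_mem)
  have hp13 : Fact (Nat.Prime 13) := ⟨by norm_num⟩
  have hoa : orderOf a = 13 := orderOf_eq_prime h13 ha1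
  have hy : orderOf (a * x₀) = 39 := by
    rw [hc.orderOf_mul_eq_mul_orderOf_of_coprime (by rw [hoa, h3]; norm_num), hoa, h3]
  have hx3 : x₀ ^ 3 = 1 := by rw [← h3, pow_orderOf_eq_one]
  have hdisj : H ⊓ Subgroup.zpowers (a * x₀) = ⊥ := by
    rw [eq_bot_iff]
    rintro w ⟨hw, k, rfl⟩
    simp only at hw
    rw [Subgroup.mem_bot]
    have e1 : ((a * x₀) ^ k) ^ (13 : ℕ) = x₀ ^ (13 * k) := by
      rw [← zpow_natCast, ← zpow_mul, hc.mul_zpow, mul_comm k, zpow_mul a]
      have : a ^ ((13 : ℕ) : ℤ) = 1 := by rw [zpow_natCast, h13]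
      rw [this, one_zpow, one_mul]
      rfl
    have e2 : ((a * x₀) ^ k) ^ (3 : ℕ) = a ^ (3 * k) := by
      rw [← zpow_natCast, ← zpow_mul, hc.mul_zpow, mul_comm k, zpow_mul x₀]
      have : x₀ ^ ((3 : ℕ) : ℤ) = 1 := by rw [zpow_natCast, hx3]
      rw [this, one_zpow, mul_one]
      rfl
    have h1 : x₀ ^ (13 * k) ∈ H := by rw [← e1]; exact H.pow_mem hw 13
    have h2 : a ^ (3 * k) ∈ H := by rw [← e2]; exact H.pow_mem hw 3
    have hk3 : (3 : ℤ) ∣ k := by
      by_contra hk
      have hcop : IsCoprime (13 * k) (3 : ℤ) := by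
        have h5 : IsCoprime k (3 : ℤ) := ((Int.prime_three.coprime_iff_not_dvd).2 hk).symm
        exact IsCoprime.mul_left (by norm_num) h5
      obtain ⟨u, v, huv⟩ := hcop
      apply hno
      have e3 : x₀ = (x₀ ^ (13 * k)) ^ u := by
        rw [← zpow_mul]
        have e4 : 13 * k * u = 1 - 3 * v := by linarith
        rw [e4, zpow_sub, zpow_one, zpow_mul]
        have : x₀ ^ (3 : ℤ) = 1 := by exact_mod_cast hx3
        rw [this, one_zpow, inv_one, mul_one]
      rw [e3]
      exact H.zpow_mem h1 u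
    have hk13 : (13 : ℤ) ∣ k := by
      by_contra hk
      have hcop : IsCoprime (3 * k) (13 : ℤ) := by
        have h5 : IsCoprime k (13 : ℤ) := by
          have hp : Prime (13 : ℤ) := by
            have : Nat.Prime 13 := by norm_num
            exact_mod_cast Nat.prime_iff_prime_int.1 this
          exact ((hp.coprime_iff_not_dvd).2 hk).symm
        exact IsCoprime.mul_left (by norm_num) h5
      obtain ⟨u, v, huv⟩ := hcop
      apply haH
      have e3 : a = (a ^ (3 * k)) ^ u := by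
        rw [← zpow_mul]
        have e4 : 3 * k * u = 1 - 13 * v := by linarith
        rw [e4, zpow_sub, zpow_one, zpow_mul]
        have : a ^ (13 : ℤ) = 1 := by exact_mod_cast h13
        rw [this, one_zpow, inv_one, mul_one]
      rw [e3]
      exact H.zpow_mem h2 u
    have hk39 : (39 : ℤ) ∣ k := by
      have h5 : IsCoprime (3 : ℤ) 13 := by norm_num
      have := h5.mul_dvd hk3 hk13
      norm_num at this
      exact this
    obtain ⟨m, rfl⟩ := hk39
    change (a * x₀) ^ (39 * m) = 1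
    rw [zpow_mul]
    have : (a * x₀) ^ (39 : ℤ) = 1 := by
      have h5 : (a * x₀) ^ 39 = 1 := by rw [← hy, pow_orderOf_eq_one]
      exact_mod_cast h5
    rw [this, one_zpow]
  have hcard : Nat.card H * 39 ≤ Nat.card C := by
    rw [← hy, ← Nat.card_zpowers, ← Nat.card_prod]
    have hyC : a * x₀ ∈ C := C.mul_mem ha hx0
    refine Nat.card_le_card_of_injective
      (fun z : H × Subgroup.zpowers (a * x₀) => (⟨(z.1 : G) * z.2, C.mul_mem (hHC z.1.2)
        ((Subgroup.zpowers_le.2 hyC) z.2.2)⟩ : C)) ?_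
    rintro ⟨⟨b, hb⟩, ⟨c, hc'⟩⟩ ⟨⟨b', hb'⟩, ⟨c', hc''⟩⟩ e
    have e1 : b * c = b' * c' := congrArg Subtype.val e
    have e2 : b'⁻¹ * b = c' * c⁻¹ := by
      rw [inv_mul_eq_iff_eq_mul, ← mul_assoc, ← e1, mul_inv_cancel_right]
    have e3 : b'⁻¹ * b ∈ H ⊓ Subgroup.zpowers (a * x₀) :=
      ⟨H.mul_mem (H.inv_mem hb') hb, by rw [e2]; exact Subgroup.mul_mem _ hc'' (Subgroup.inv_mem _ hc')⟩
    rw [hdisj, Subgroup.mem_bot] at e3
    have e4 : b = b' := by rw [inv_mul_eq_one] at e3; exact e3.symm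
    subst e4
    have e5 : c = c' := mul_left_cancel e1
    subst e5
    rfl
  omega

end

/-! ### Tables -/

/-- the roots of the first short `A₂` -/
def ra : Fin 3 → Fin 3 → ℕ := ![![0, 27, 34], ![20, 0, 33], ![13, 14, 0]]

/-- the roots of the second short `A₂` -/
def rb : Fin 3 → Fin 3 → ℕ := ![![0, 28, 35], ![19, 0, 33], ![12, 14, 0]]

def s1 : Fin 3 → Fin 3 → ℤ := fun _ _ => 1

theorem rta : RTa chevF4 ra ∧ RTb chevF4 ra s1 ∧ RTc chevF4 ra ∧ RTd s1 ∧ (∀ i j, s1 j i = s1 i j) ∧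
    ∀ i j, i ≠ j → ra j i = chevF4.neg (ra i j) := by decide +kernel

theorem rtb : RTa chevF4 rb ∧ RTb chevF4 rb s1 ∧ RTc chevF4 rb ∧ RTd s1 ∧ (∀ i j, s1 j i = s1 i j) ∧
    ∀ i j, i ≠ j → rb j i = chevF4.neg (rb i j) := by decide +kernel

theorem cma : ∀ i j : Fin 3, i ≠ j → Cm chevF4 (ra i j) 47 ∧ Cm chevF4 (rb i j) 47 := by decide +kernel

theorem lv : (∀ i j : Fin 3, i ≠ j → vec chevF4 4 (ra i j) 3 = 0 ∧ vec chevF4 4 (rb i j) 3 = 0) ∧
    vec chevF4 4 47 3 = 2 := by decide +kernel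

theorem ct : chevF4.commTerms 27 28 = [(30, 2, 1, 1)] := by decide +kernel

theorem longs : Cfsg.Agent.H86.Lev.longF4 30 = true ∧ Cfsg.Agent.H86.Par.top chevF4 = 47 ∧ chevF4.cartan 3 47 = 1 := by
  decide +kernel

/-! ### The homomorphisms -/

theorem hF : IsType chevF4 4 CoxeterMatrix.F₄ := Cfsg.Agent.Nodes.KindF.isType

/-- the involution of type `C₃ A₁` -/
noncomputable abbrev t2 (K : Type u) [Field K] : ↥(chevF4.group K) := th hF (sg K 4 n_TabC3A1)

section

variable {K : Type u} [Field K]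

theorem commute_t2 (h2 : (2 : K) ≠ 0) {q : ℕ} (hq : q < chevF4.nroots) (he : Even (vec chevF4 4 q 3)) (c : K) :
    Commute (t2 K) (xc hF (vec chevF4 4 q) c) := by
  have h1 := (ch_sg hF Cfsg.Agent.H557.InvF4.cs hcm (K := K) (isRoot_vec hF _ hq) h2 n0_TabC3A1).2 he
  have h3 := (act hF hq (Cfsg.Agent.H557.Toral.th_mem hF (sg K 4 n_TabC3A1))).2 c
  rw [h1, one_mul] at h3
  exact mul_inv_eq_iff_eq_mul.1 h3

theorem exists_phia : ∃ φ : SL(3, K) →* ↥(chevF4.group K), ∀ a b (hab : a ≠ b) c,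
    φ (Matrix.SpecialLinearGroup.transvection hab c) = xc hF (vec chevF4 4 (ra a b)) ((s1 a b : K) * c) :=
  Cfsg.Agent.H194.Pw.exists_hom_S hF (n := 0) rta.1 rta.2.1 rta.2.2.1 rta.2.2.2.1 rta.2.2.2.2.1 rta.2.2.2.2.2

theorem exists_phib : ∃ φ : SL(3, K) →* ↥(chevF4.group K), ∀ a b (hab : a ≠ b) c,
    φ (Matrix.SpecialLinearGroup.transvection hab c) = xc hF (vec chevF4 4 (rb a b)) ((s1 a b : K) * c) :=
  Cfsg.Agent.H194.Pw.exists_hom_S hF (n := 0) rtb.1 rtb.2.1 rtb.2.2.1 rtb.2.2.2.1 rtb.2.2.2.2.1 rtb.2.2.2.2.2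

/-- the root elements of a block lie in `H` if its irreducible elements do -/
theorem tv_mem [Finite K] (hK : Nat.card K = 3) {H : Subgroup ↥(chevF4.group K)}
    {φ : SL(3, K) →* ↥(chevF4.group K)}
    (h : ∀ X : SL(3, K), Irreducible X.1.charpoly → φ X ∈ H) {a b : Fin 3} (hab : a < b) (c : K) :
    φ (Matrix.SpecialLinearGroup.transvection hab.ne c) ∈ H := by
  have hU : Matrix.SpecialLinearGroup.transvection hab.ne c ∈ UT 3 K := by
    rw [mem_UT]
    constructor
    · intro i j hij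
      change (1 + Matrix.single a b c : Matrix (Fin 3) (Fin 3) K) i j = 0
      rw [Matrix.add_apply, Matrix.one_apply_ne (ne_of_gt hij), zero_add, Matrix.single_apply_of_ne]
      rintro ⟨rfl, rfl⟩
      exact absurd hij (not_lt.2 hab.le)
    · intro i
      change (1 + Matrix.single a b c : Matrix (Fin 3) (Fin 3) K) i i = 1
      rw [Matrix.add_apply, Matrix.one_apply_eq, Matrix.single_apply_of_ne, add_zero]
      rintro ⟨rfl, rfl⟩
      exact absurd rfl hab.ne
  obtain ⟨A, B, e, hA, hB, -⟩ := Cfsg.Agent.H374.Ore.Sl3.m3 (.inr hK) (one_mem (LT 3 K)) hU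
  rw [one_mul] at e
  rw [e, map_mul]
  exact H.mul_mem (h A hA) (h B hB)

theorem commute_x47 {φ : SL(3, K) →* ↥(chevF4.group K)} {r : Fin 3 → Fin 3 → ℕ} (hr : ∀ i j, i ≠ j → Cm chevF4 (r i j) 47)
    (hφ : ∀ a b (hab : a ≠ b) c,
      φ (Matrix.SpecialLinearGroup.transvection hab c) = xc hF (vec chevF4 4 (r a b)) ((s1 a b : K) * c))
    (X : SL(3, K)) (c : K) : Commute (φ X) (xc hF (vec chevF4 4 47) c) := by
  have h := le_of_gen φ (Subgroup.centralizer {xc hF (vec chevF4 4 47) c}) (fun a b hab d => ?_) X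
  · exact Subgroup.mem_centralizer_singleton_iff.1 h
  · rw [hφ, Subgroup.mem_centralizer_singleton_iff]
    obtain ⟨h1, h2, h3, h4, h5⟩ := hr a b hab
    exact (xc_commute hF h1 h2 h3 h4 h5 _ c).eq

theorem mem_cent {φ : SL(3, K) →* ↥(chevF4.group K)} (h2 : (2 : K) ≠ 0) {r : Fin 3 → Fin 3 → ℕ}
    (hr : ∀ i j, i ≠ j → r i j < chevF4.nroots) (hr0 : ∀ i j, i ≠ j → vec chevF4 4 (r i j) 3 = 0)
    (hφ : ∀ a b (hab : a ≠ b) c,
      φ (Matrix.SpecialLinearGroup.transvection hab c) = xc hF (vec chevF4 4 (r a b)) ((s1 a b : K) * c))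
    (X : SL(3, K)) : φ X ∈ Subgroup.centralizer {t2 K} := by
  refine le_of_gen φ (Subgroup.centralizer {t2 K}) (fun a b hab d => ?_) X
  rw [hφ a b hab, Subgroup.mem_centralizer_singleton_iff]
  have h0 : Even (vec chevF4 4 (r a b) 3) := by rw [hr0 a b hab]; exact Even.zero
  exact (commute_t2 h2 (hr a b hab) h0 _).symm.eq

/-- **The dichotomy.** -/
theorem dich_A [Finite K] (hK : Nat.card K = 3) {g : ↥(chevF4.group K)} (ht : t2 K ∈ Subgroup.zpowers g) :
    (∃ x, Commute g (x * xc hF (vec chevF4 4 47) (1 : K) * x⁻¹)) ∨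
      39 * Nat.card ↥(Subgroup.centralizer {g}) ≤ Nat.card ↥(Subgroup.centralizer {t2 K}) := by
  have : Finite ↥(chevF4.group K) := inferInstance
  have := Fintype.ofFinite K
  have : Fact (Nat.Prime 3) := ⟨Nat.prime_three⟩
  have hch : CharP K 3 := charP_of_card_eq_prime (by rw [← Nat.card_eq_fintype_card, hK])
  have h2 : (2 : K) ≠ 0 := by
    intro h
    have h3 : 3 ∣ 2 := (CharP.cast_eq_zero_iff K 3 2).1 (by exact_mod_cast h)
    omega
  by_contra hcon
  push Not at hcon
  obtain ⟨hno, hidx⟩ := hcon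
  obtain ⟨H, hH⟩ : ∃ H, H = Subgroup.centralizer {g} := ⟨_, rfl⟩
  obtain ⟨C, hC⟩ : ∃ C, C = Subgroup.centralizer {t2 K} := ⟨_, rfl⟩
  have hHC : H ≤ C := by
    rw [hH, hC]
    intro y hy
    rw [Subgroup.mem_centralizer_singleton_iff] at hy ⊢
    obtain ⟨k, hk⟩ := ht
    have hk : g ^ k = t2 K := hk
    rw [← hk]
    exact (Commute.zpow_right hy k : y * g ^ k = g ^ k * y)
  have hno' : ∀ x, x * xc hF (vec chevF4 4 47) (1 : K) * x⁻¹ ∉ H := by
    intro x hx
    rw [hH, Subgroup.mem_centralizer_singleton_iff] at hx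
    exact hno x (Commute.symm hx)
  rw [← hH, ← hC] at hidx
  have h47 : 47 < chevF4.nroots := by decide
  have hx0 : xc hF (vec chevF4 4 47) (1 : K) ∈ C := by
    rw [hC, Subgroup.mem_centralizer_singleton_iff]
    exact (commute_t2 h2 h47 (by rw [lv.2]; exact even_two) _).symm.eq
  have h30' : (3 : K) = 0 := by exact_mod_cast CharP.cast_eq_zero K 3
  have hord : orderOf (xc hF (vec chevF4 4 47) (1 : K)) = 3 := by
    refine orderOf_eq_prime ?_ ?_
    · apply Subtype.ext
      rw [Subgroup.coe_pow, coe_xc hF h47, pow_succ, pow_two, xG_add, xG_add, Subgroup.coe_one]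
      have : (1 + 1 + 1 : K) = 0 := by rw [← h30']; norm_num
      rw [this, xG_zero]
    · intro h
      have h1 := congrArg Subtype.val h
      rw [coe_xc hF h47, Subgroup.coe_one] at h1
      exact one_ne_zero ((xG_eq_one_iff hF.inList h47 (1 : K)).1 h1)
  have key : ∀ a ∈ C, a ^ 13 = 1 → Commute a (xc hF (vec chevF4 4 47) (1 : K)) → a ∈ H := fun a ha h13 hc =>
    mem_of_index hHC (by omega) hx0 hord (fun h => hno' 1 (by simpa using h)) ha h13 hc
  obtain ⟨φ, hφ⟩ := exists_phia (K := K)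
  obtain ⟨ψ, hψ⟩ := exists_phib (K := K)
  have h13 : ∀ X : SL(3, K), Irreducible X.1.charpoly → X ^ 13 = 1 := by
    intro X hX
    have := Cfsg.Agent.H194.Pw.irr_pow hX
    rw [hK] at this
    exact this
  have hφH : ∀ X : SL(3, K), Irreducible X.1.charpoly → φ X ∈ H := fun X hX =>
    key _ (by rw [hC]; exact mem_cent h2 rta.1 (fun i j hij => (lv.1 i j hij).1) hφ X)
      (by rw [← map_pow, h13 X hX, map_one]) (commute_x47 (fun i j hij => (cma i j hij).1) hφ X 1)
  have hψH : ∀ X : SL(3, K), Irreducible X.1.charpoly → ψ X ∈ H := fun X hX =>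
    key _ (by rw [hC]; exact mem_cent h2 rtb.1 (fun i j hij => (lv.1 i j hij).2) hψ X)
      (by rw [← map_pow, h13 X hX, map_one]) (commute_x47 (fun i j hij => (cma i j hij).2) hψ X 1)
  have h27 : ∀ c, xc hF (vec chevF4 4 27) c ∈ H := by
    intro c
    have := tv_mem hK hφH (a := 0) (b := 1) (by decide) c
    rw [hφ] at this
    simpa [s1, ra] using this
  have h28 : ∀ c, xc hF (vec chevF4 4 28) c ∈ H := by
    intro c
    have := tv_mem hK hψH (a := 0) (b := 1) (by decide) c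
    rw [hψ] at this
    simpa [s1, rb] using this
  have h30 : ∀ c, xc hF (vec chevF4 4 30) c ∈ H := by
    intro c
    have e1 := UnipProd.xG_comm hF.inList (r := 27) (s := 28) (F := K) (by decide) (by decide) (by decide) (by decide) 1 c
    have e2 : wordG hF.inList (chevF4.commWord K 27 28 1 c) = xG hF.inList 30 c := by
      unfold ChevalleyDatum.commWord
      rw [ct]
      simp only [List.map_cons, List.map_nil, wordG_cons, wordG_nil, mul_one, pow_one]
      congr 1
      push_cast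
      linear_combination (-c) * h30'
    rw [e2] at e1
    have e3 : xc hF (vec chevF4 4 28) c * xc hF (vec chevF4 4 27) 1 =
        xc hF (vec chevF4 4 27) 1 * xc hF (vec chevF4 4 28) c * xc hF (vec chevF4 4 30) c := by
      apply Subtype.ext
      simp only [Subgroup.coe_mul]
      rw [coe_xc hF (by decide), coe_xc hF (by decide), coe_xc hF (by decide)]
      exact e1
    have e4 : xc hF (vec chevF4 4 30) c = (xc hF (vec chevF4 4 27) 1 * xc hF (vec chevF4 4 28) c)⁻¹ *
        (xc hF (vec chevF4 4 28) c * xc hF (vec chevF4 4 27) 1) := by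
      rw [e3]; group
    rw [e4]
    exact H.mul_mem (H.inv_mem (H.mul_mem (h27 1) (h28 c))) (H.mul_mem (h28 c) (h27 1))
  obtain ⟨m, hm, t', ht', e⟩ := Cfsg.Agent.H86.Par.long_conj hF.inList (F := K) Cfsg.Agent.H86.Lev.hpF4 (s := 30)
    (by decide) longs.1 (t := 1) one_ne_zero
  rw [longs.2.1] at e
  have hmG : m ∈ chevF4.group K := monomial_le_group hF.inList K (Cfsg.Agent.H92.ChevCent.NL_le chevF4 hm)
  obtain ⟨y, hy⟩ := isConj_iff.1 (Cfsg.Agent.H934.IdxExc.isConj hF.inList (F := K) (r := 47) (p := 3) h47 (by decide)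
    longs.2.2 1 t' one_ne_zero ht')
  refine hno' (⟨m, hmG⟩⁻¹ * y) ?_
  have e5 : (⟨m, hmG⟩ : ↥(chevF4.group K))⁻¹ * y * xc hF (vec chevF4 4 47) (1 : K) * (⟨m, hmG⟩⁻¹ * y)⁻¹ =
      xc hF (vec chevF4 4 30) 1 := by
    have e6 : xc hF (vec chevF4 4 47) (1 : K) = Cfsg.Agent.H934.IdxExc.xe hF.inList 47 1 :=
      Subtype.ext (coe_xc hF h47 1)
    have e7 : (⟨m, hmG⟩ : ↥(chevF4.group K)) * xc hF (vec chevF4 4 30) 1 * ⟨m, hmG⟩⁻¹ =
        Cfsg.Agent.H934.IdxExc.xe hF.inList 47 t' := by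
      apply Subtype.ext
      simp only [Subgroup.coe_mul, Subgroup.coe_inv]
      rw [coe_xc hF (by decide)]
      exact e
    rw [e6]
    calc _ = (⟨m, hmG⟩ : ↥(chevF4.group K))⁻¹ * (y * Cfsg.Agent.H934.IdxExc.xe hF.inList 47 1 * y⁻¹) * ⟨m, hmG⟩ := by
          group
      _ = _ := by rw [hy, ← e7]; group
  rw [e5]
  exact h30 1

end

end Cfsg.Agent.H150.F43

private theorem dce_affaf38b9629 : _root_.True := by
  try have : _root_.True := by simp only [_root_.Cfsg.Agent.H150.F43.s1.eq_1]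
  try have : _root_.True := by simp only [_root_.Cfsg.Agent.H150.F43.rb.eq_1]
  try have : _root_.True := by simp only [_root_.Cfsg.Agent.H934.IdxExc.xe.congr_simp]
  try have : _root_.True := by simp only [_root_.Cfsg.Agent.H150.F43.ra.eq_1]
  exact _root_.True.intro
end

-- part: H885/Pw/JF
section
prune_inst 0x314075440c02000000000506b02000002800042200400000082002040240c0620d802800000001141a2080010001002811100010424000000e000000000100000000020401000000800010800080000000000000000000000000000000000000000000000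
set_option linter.all false
open scoped Cfsg.Agent.FastGrp

-- part: H885/Pw/JB
section
/-!
helper885 (S2465, `F4(3)`): the centralizer of the involution `t` of `F4` of type `B4` on the 27-dimensional module:
`C(t)` fixes the idempotent `e` and preserves the 9-dimensional quadratic space `io (K^9)`.
-/

set_option autoImplicit false
set_option linter.unusedSectionVars false
set_option linter.unusedSimpArgs false
set_option linter.unusedTactic false
set_option linter.unreachableTactic false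

namespace Cfsg.Agent.H885.Pw.JB

open Cfsg Cfsg.Lie Module Matrix
open Cfsg.Agent.ChevalleyStructure.E6Min.Tables Cfsg.Agent.ChevalleyStructure.E6Min.Basic
open Cfsg.Agent.H952.F4 Cfsg.Agent.H952.F4.Jord
open Cfsg.Agent.LieClassical Cfsg.Agent.LieClassical.OrthForms

universe u

/-- the 9-dimensional space -/
abbrev VV (K : Type u) := Unit ⊕ (Fin 4 ⊕ Fin 4) → K

/-- the faithful module -/
theorem exists_J (K : Type u) [Field K] : ∃ ρ : ↥(chevF4.group K) →* GL I27 K, IsJ ρ ∧ Function.Injective ρ := by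
  refine ⟨(Cfsg.Agent.H333.F4J.Ad.FZ K).subtype.comp (Cfsg.Agent.H333.F4J.Ad.eqv K).symm.toMonoidHom, ?_, ?_⟩
  · intro r t g hg
    have h1 : (g : GL chevF4.Idx K) = Cfsg.Agent.ChevalleyStructure.Elts.xG hF4 r.val t := by
      apply Units.ext
      rw [hg, Cfsg.Agent.H333.F4J.Ad.coe_xG_lt r.isLt]
    have h2 := Cfsg.Agent.H333.F4J.Ad.eqv_symm_xG r.isLt t g h1
    change (((Cfsg.Agent.H333.F4J.Ad.eqv K).symm g : Cfsg.Agent.H333.F4J.Ad.FZ K) : GL I27 K).val = _
    rw [h2]
    exact Cfsg.Agent.H333.F4J.Ad.coe_yU r.isLt t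
  · exact (Subgroup.subtype_injective _).comp (MulEquiv.injective _)

section Ring

variable {K : Type u} [Field K]

/-- the embedding of the 9-dimensional space in `J` -/
def io : VV K →ₗ[K] (I27 → K) where
  toFun v := ofM !![v (.inl ()), v (.inr (.inl 0)), 0; v (.inr (.inr 0)), -v (.inl ()), 0; 0, 0, 0]
    !![0, 0, 0; 0, 0, 0; v (.inr (.inl 1)), v (.inr (.inl 2)), v (.inr (.inl 3))]
    !![0, 0, v (.inr (.inr 1)); 0, 0, v (.inr (.inr 2)); 0, 0, v (.inr (.inr 3))]
  map_add' v w := by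
    (refine And.elim (fun cj1 => And.elim fun cj2 => And.elim fun cj3 => And.elim fun cj4 => And.elim fun cj5 => And.elim fun cj6 => And.elim fun cj7 => And.elim fun cj8 => And.elim fun cj9 => And.elim fun cj10 => And.elim fun cj11 => And.elim fun cj12 => And.elim fun cj13 => And.elim fun cj14 => And.elim fun cj15 => And.elim fun cj16 => And.elim fun cj17 => And.elim fun cj18 => And.elim fun cj19 => And.elim fun cj20 => And.elim fun cj21 => And.elim fun cj22 => And.elim fun cj23 => And.elim fun cj24 => And.elim fun cj25 => And.elim fun cj26 cj27 => by refine ext27 fun k i j => ?_; fin_cases k <;> fin_cases i <;> fin_cases j; exacts [cj1, cj2, cj3, cj4, cj5, cj6, cj7, cj8, cj9, cj10, cj11, cj12, cj13, cj14, cj15, cj16, cj17, cj18, cj19, cj20, cj21, cj22, cj23, cj24, cj25, cj26, cj27]) ?_; simp only [ofM, Fin.zero_eta, Fin.isValue, ↓reduceIte, Pi.add_apply, neg_add_rev, add_comm, of_apply, cons_val', cons_val_zero, cons_val_fin_one, Fin.mk_one, cons_val_one,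 Fin.reduceFinMk, cons_val, add_zero, one_ne_zero, Fin.reduceEq, and_self, and_true, true_and])
  map_smul' c v := by
    (refine And.elim (fun cj1 => And.elim fun cj2 => And.elim fun cj3 => And.elim fun cj4 => And.elim fun cj5 => And.elim fun cj6 => And.elim fun cj7 => And.elim fun cj8 => And.elim fun cj9 => And.elim fun cj10 => And.elim fun cj11 => And.elim fun cj12 => And.elim fun cj13 => And.elim fun cj14 => And.elim fun cj15 => And.elim fun cj16 => And.elim fun cj17 => And.elim fun cj18 => And.elim fun cj19 => And.elim fun cj20 => And.elim fun cj21 => And.elim fun cj22 => And.elim fun cj23 => And.elim fun cj24 => And.elim fun cj25 => And.elim fun cj26 cj27 => by refine ext27 fun k i j => ?_; fin_cases k <;> fin_cases i <;> fin_cases j; exacts [cj1, cj2, cj3, cj4, cj5, cj6, cj7, cj8, cj9, cj10, cj11, cj12, cj13, cj14, cj15, cj16, cj17, cj18, cj19, cj20, cj21, cj22, cj23, cj24, cj25, cj26, cj27]) ?_; simp only [ofM, Fin.zero_eta, Fin.isValue, ↓reduceIte,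 Pi.smul_apply, smul_eq_mul, of_apply, cons_val', cons_val_zero, cons_val_fin_one, RingHom.id_apply, Fin.mk_one, cons_val_one, Fin.reduceFinMk, cons_val, mul_zero, mul_neg, one_ne_zero, Fin.reduceEq, and_self, and_true, true_and])

/-- a left inverse of `io` -/
def po : (I27 → K) →ₗ[K] VV K where
  toFun x := Sum.elim (fun _ => x (0, 0, 0)) (Sum.elim ![x (0, 0, 1), x (1, 2, 0), x (1, 2, 1), x (1, 2, 2)]
    ![x (0, 1, 0), x (2, 0, 2), x (2, 1, 2), x (2, 2, 2)])
  map_add' v w := by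
    funext a
    rcases a with _ | a | a
    · rfl
    · fin_cases a <;> rfl
    · fin_cases a <;> rfl
  map_smul' c v := by
    funext a
    rcases a with _ | a | a
    · rfl
    · fin_cases a <;> rfl
    · fin_cases a <;> rfl

theorem po_io (v : VV K) : po (io v) = v := by
  funext a
  rcases a with _ | a | a
  · simp only [po, Fin.isValue, io, LinearMap.coe_mk, AddHom.coe_mk, ofM, ↓reduceIte, of_apply, cons_val', cons_val_zero,
      cons_val_fin_one, cons_val_one, one_ne_zero, cons_val, Fin.reduceEq, Sum.elim_inl]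
  · (revert a; simp only [po, Fin.isValue, io, LinearMap.coe_mk, AddHom.coe_mk, Fin.zero_eta, ofM, ↓reduceIte, of_apply, cons_val', cons_val_zero, cons_val_fin_one, cons_val_one, one_ne_zero, cons_val, Fin.reduceEq, Sum.elim_inr, Sum.elim_inl, Fin.mk_one, Fin.reduceFinMk, _root_.Fin.forall_fin_succ, _root_.Matrix.cons_val_succ, _root_.Fin.succ_zero_eq_one, _root_.Fin.succ_one_eq_two, Fin.reduceSucc, _root_.IsEmpty.forall_iff, _root_.and_self])
  · (revert a; simp only [po, Fin.isValue, io, LinearMap.coe_mk, AddHom.coe_mk, Fin.zero_eta, ofM, ↓reduceIte, of_apply, cons_val', cons_val_zero, cons_val_fin_one, cons_val_one, one_ne_zero, cons_val, Fin.reduceEq, Sum.elim_inr, Fin.mk_one, Fin.reduceFinMk, _root_.Fin.forall_fin_succ, _root_.Matrix.cons_val_succ, _root_.Fin.succ_zero_eq_one, _root_.Fin.succ_one_eq_two, Fin.reduceSucc, _root_.IsEmpty.forall_iff, _root_.and_self])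

/-- the idempotent -/
def ee (K : Type u) [Field K] : I27 → K := Pi.single (0, 2, 2) 1

theorem sh_io (v : VV K) : sh (io v) = (-(oddForm 4 K) v) • ee K := by
  refine ext27 fun k i j => ?_
  rw [coe_oddForm, quadFormOdd_apply, Fin.sum_univ_four]
  (revert k i j; simp only [Fin.zero_eta, Fin.mk_one, Fin.reduceFinMk, sh000, sh001, sh002, sh010, sh011, sh012, sh020, sh021, sh022, sh100, sh101, sh102, sh110, sh111, sh112, sh120, sh121, sh122, sh200, sh201, sh202, sh210, sh211, sh212, sh220, sh221, sh222, _root_.Fin.forall_fin_succ, Fin.isValue, _root_.neg_add_rev, _root_.Pi.smul_apply, _root_.smul_eq_mul, _root_.Fin.succ_zero_eq_one, _root_.Fin.succ_one_eq_two, _root_.IsEmpty.forall_iff, _root_.and_true, _root_.true_and]) <;> (repeat' with_reducible apply And.intro) <;> simp only [io, Fin.isValue, LinearMap.coe_mk, AddHom.coe_mk, ofM,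
          ↓reduceIte, of_apply, cons_val', cons_val_one, cons_val_zero, cons_val_fin_one, cons_val, mul_zero, sub_self,
          one_ne_zero, Fin.reduceEq, add_zero, neg_add_rev, ee, Pi.smul_apply, ne_eq, Prod.mk.injEq, and_self, and_false,
          not_false_eq_true, Pi.single_eq_of_ne, smul_eq_mul, mul_neg, zero_mul, neg_zero, and_true, Pi.single_eq_same,
          mul_one]
  ring

/-- the coordinates on which the involution is trivial -/
def pl (i : I27) : Bool := decide (code i ∈ [0, 1, 3, 4, 8, 15, 16, 17, 20, 23, 26])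

/-- the adjoint by one formula -/
private def shE {R : Type u} [CommRing R] (x : I27 → R) (p : I27) : R :=
  x (-p.1, p.2.2 + 1, p.2.1 + 1) * x (-p.1, p.2.2 + 2, p.2.1 + 2) -
    x (-p.1, p.2.2 + 1, p.2.1 + 2) * x (-p.1, p.2.2 + 2, p.2.1 + 1) -
    (x (1 - p.1, p.2.1, 0) * x (2 - p.1, 0, p.2.2) + x (1 - p.1, p.2.1, 1) * x (2 - p.1, 1, p.2.2) +
      x (1 - p.1, p.2.1, 2) * x (2 - p.1, 2, p.2.2))

private theorem sh_shE {R : Type u} [CommRing R] (x : I27 → R) : sh x = shE x := by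
  have a : ∀ a b c d s : R, a * b - c * d - s = b * a - d * c - s := fun a b c d s => by rw [mul_comm a, mul_comm c]
  have b : ∀ a b c d s : R, a * b - c * d - s = b * a - c * d - s := fun a b c d s => by rw [mul_comm a]
  have c : ∀ a b c d s : R, a * b - c * d - s = a * b - d * c - s := fun a b c d s => by rw [mul_comm c]
  refine ext27 fun k i j => ?_
  fin_cases k <;> fin_cases i <;> fin_cases j
  · exact sh000 x
  · exact (sh001 x).trans (a _ _ _ _ _)
  · exact sh002 x
  · exact sh010 x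
  · exact (sh011 x).trans (a _ _ _ _ _)
  · exact sh012 x
  · exact sh020 x
  · exact (sh021 x).trans (a _ _ _ _ _)
  · exact sh022 x
  · exact sh100 x
  · exact (sh101 x).trans (a _ _ _ _ _)
  · exact sh102 x
  · exact sh110 x
  · exact (sh111 x).trans (a _ _ _ _ _)
  · exact sh112 x
  · exact sh120 x
  · exact (sh121 x).trans (a _ _ _ _ _)
  · exact sh122 x
  · exact sh200 x
  · exact (sh201 x).trans (a _ _ _ _ _)
  · exact sh202 x
  · exact sh210 x
  · exact (sh211 x).trans (a _ _ _ _ _)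
  · exact sh212 x
  · exact sh220 x
  · exact (sh221 x).trans (a _ _ _ _ _)
  · exact sh222 x

private def sZ (a p : I27) : ℤ := if p = a then 1 else 0

private theorem sZ_cast (a : I27) : (Pi.single a 1 : I27 → K) = fun p => ((sZ a p : ℤ) : K) := funext fun p => by
  rw [Pi.single_apply, sZ]; split_ifs <;> simp only [Int.cast_one, Int.cast_zero]

private theorem sh_cast (x : I27 → ℤ) : sh (fun p => ((x p : ℤ) : K)) = fun p => ((shE x p : ℤ) : K) := by
  rw [sh_shE]; funext p
  simp only [shE, Int.cast_sub, Int.cast_mul, Int.cast_add]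

private theorem sh_sg2 (a b : I27) : sh (Pi.single a 1 + Pi.single b 1 : I27 → K) =
    fun p => ((shE (fun q => sZ a q + sZ b q) p : ℤ) : K) := by
  rw [← sh_cast, sZ_cast, sZ_cast]
  exact congrArg sh (funext fun p => (Int.cast_add _ _).symm)

private def crZ (a b p : I27) : ℤ := shE (fun q => sZ a q + sZ b q) p - shE (sZ a) p - shE (sZ b) p

private theorem cr_sg (a b : I27) : cr (Pi.single a 1 : I27 → K) (Pi.single b 1) = fun p => ((crZ a b p : ℤ) : K) := by
  show sh _ - sh _ - sh _ = _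
  rw [sh_sg2, sZ_cast, sZ_cast, sh_cast, sh_cast]
  funext p
  simp only [crZ, Int.cast_sub, Pi.sub_apply]

private theorem z_pos {f : I27 → ℤ} (c : I27) (h : ∀ p, f p = sZ c p) :
    (fun p => ((f p : ℤ) : K)) = (Pi.single c 1 : I27 → K) := by
  rw [sZ_cast]; exact funext fun p => congrArg _ (h p)

private theorem z_neg {f : I27 → ℤ} (c : I27) (h : ∀ p, f p = -sZ c p) :
    (fun p => ((f p : ℤ) : K)) = -(Pi.single c 1 : I27 → K) := by
  rw [sZ_cast]; exact funext fun p => (congrArg _ (h p)).trans (Int.cast_neg _)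

private theorem z_zero {f : I27 → ℤ} (h : ∀ p, f p = 0) : (fun p => ((f p : ℤ) : K)) = 0 :=
  funext fun p => (congrArg _ (h p)).trans Int.cast_zero

private theorem pos_cases : ∀ i : I27, pl i = true → i = (0, 0, 0) ∨ i = (0, 0, 1) ∨ i = (0, 1, 0) ∨ i = (0, 1, 1) ∨
    i = (0, 2, 2) ∨ i = (1, 2, 0) ∨ i = (1, 2, 1) ∨ i = (1, 2, 2) ∨ i = (2, 0, 2) ∨ i = (2, 1, 2) ∨ i = (2, 2, 2) := by
  decide +kernel

/-- the fixed vectors of the involution -/
def InJ (x : I27 → K) : Prop := ∀ i, pl i = false → x i = 0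

theorem inJ_io (v : VV K) : InJ (io v) := by
  (refine And.elim (fun cj1 => And.elim fun cj2 => And.elim fun cj3 => And.elim fun cj4 => And.elim fun cj5 => And.elim fun cj6 => And.elim fun cj7 => And.elim fun cj8 => And.elim fun cj9 => And.elim fun cj10 => And.elim fun cj11 => And.elim fun cj12 => And.elim fun cj13 => And.elim fun cj14 => And.elim fun cj15 => And.elim fun cj16 => And.elim fun cj17 => And.elim fun cj18 => And.elim fun cj19 => And.elim fun cj20 => And.elim fun cj21 => And.elim fun cj22 => And.elim fun cj23 => And.elim fun cj24 => And.elim fun cj25 => And.elim fun cj26 cj27 => by rintro ⟨k, i, j⟩; fin_cases k <;> fin_cases i <;> fin_cases j; exacts [cj1, cj2, cj3, cj4, cj5, cj6, cj7, cj8, cj9, cj10, cj11, cj12, cj13, cj14, cj15, cj16, cj17, cj18, cj19, cj20, cj21, cj22, cj23, cj24, cj25, cj26, cj27]) ?_; simp only [pl, code, mul_zero, add_zero, List.mem_cons, zero_ne_one, OfNat.zero_ne_ofNat, List.not_mem_nil, or_self, or_false, decide_true,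 Bool.true_eq_false, io, Fin.isValue, Fin.zero_eta, LinearMap.coe_mk, AddHom.coe_mk, ofM, ↓reduceIte, of_apply, cons_val', cons_val_zero, cons_val_fin_one, IsEmpty.forall_iff, zero_add, one_ne_zero, OfNat.one_ne_ofNat, or_true, Fin.mk_one, cons_val_one, OfNat.ofNat_ne_zero, OfNat.ofNat_ne_one, Nat.reduceEqDiff, decide_false, Fin.reduceFinMk, cons_val, imp_self, mul_one, Nat.reduceAdd, Nat.succ_ne_self, neg_eq_zero, Nat.reduceMul, implies_true, Fin.reduceEq, and_self, and_true, true_and])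

theorem inJ_ee : InJ (ee K) := by
  rintro ⟨k, i, j⟩
  (revert k i j; simp only [pl, code, mul_zero, add_zero, List.mem_cons, zero_ne_one, OfNat.zero_ne_ofNat, List.not_mem_nil, or_self, or_false, decide_true, Bool.true_eq_false, ee, Fin.isValue, Fin.zero_eta, ne_eq, Prod.mk.injEq, Fin.reduceEq, and_self, and_false, not_false_eq_true, Pi.single_eq_of_ne, implies_true, zero_add, one_ne_zero, OfNat.one_ne_ofNat, or_true, Fin.mk_one, OfNat.ofNat_ne_zero, OfNat.ofNat_ne_one, Nat.reduceEqDiff, decide_false, Fin.reduceFinMk, and_true, imp_self, mul_one, Nat.reduceAdd, Nat.succ_ne_self, Nat.reduceMul, Pi.single_eq_same, _root_.Fin.forall_fin_succ, _root_.Nat.add_eq_zero_iff, _root_.mul_eq_zero, _root_.Fin.val_eq_zero_iff, _root_.false_or, _root_.Bool.decide_or, _root_.Bool.decide_and, _root_.Bool.or_eq_false_iff, _root_.Bool.and_eq_false_imp, _root_.Bool.and_eq_true, _root_.decide_eq_true_eq, _root_.decide_eq_false_iff_not, _root_.and_imp, _root_.not_true_eq_false,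 _root_.imp_false, _root_.Fin.coe_ofNat_eq_mod, _root_.Nat.zero_mod, _root_.Fin.succ_ne_zero, _root_.Fin.val_succ, _root_.forall_const, _root_.Nat.add_eq_right, _root_.not_and, _root_.Fin.succ_zero_eq_one, _root_.Fin.val_eq_zero, _root_.Fin.succ_one_eq_two, _root_.IsEmpty.forall_iff, _root_.true_and, _root_.mul_eq_one, _root_.false_and, _root_.mul_eq_left₀])

/-- `io` is onto the fixed vectors orthogonal to `1` and `e` -/
theorem io_po {x : I27 → K} (hx : InJ x) (h1 : x (0, 2, 2) = 0) (h2 : x (0, 0, 0) + x (0, 1, 1) = 0) :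
    io (po x) = x := by
  refine ext27 fun k i j => ?_
  fin_cases k <;> fin_cases i <;> fin_cases j <;>
    simp only [Fin.zero_eta, Fin.mk_one, Fin.reduceFinMk, Fin.isValue] <;>
    first
      | (rw [hx _ (by decide +kernel)]; simp only [io, Fin.isValue, LinearMap.coe_mk, AddHom.coe_mk, ofM, ↓reduceIte,
          of_apply, cons_val', cons_val, cons_val_fin_one, cons_val_zero, cons_val_one, one_ne_zero, Fin.reduceEq]; done)
      | (simp only [io, Fin.isValue, po, LinearMap.coe_mk, AddHom.coe_mk, ofM, ↓reduceIte, Sum.elim_inl, Sum.elim_inr,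
          cons_val_zero, of_apply, cons_val', cons_val_fin_one, cons_val_one, cons_val, h1, one_ne_zero, Fin.reduceEq]; done)
      | (simp [io, po, ofM]; linear_combination -h2)

theorem tr1_ee : tr1 (ee K) = 1 := by simp only [tr1, Matrix.trace, mat3, ee, Fin.sum_univ_three, _root_.Fin.isValue, _root_.Matrix.diag_apply, _root_.Matrix.of_apply, _root_.ne_eq, _root_.Prod.mk.injEq, _root_.Fin.reduceEq, _root_.and_self, _root_.and_false, _root_.not_false_eq_true, _root_.Pi.single_eq_of_ne, _root_.add_zero, _root_.Pi.single_eq_same, _root_.zero_add]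

theorem tr1_io (v : VV K) : tr1 (io v) = 0 := by
  simp [tr1, Matrix.trace, mat3, io, ofM, Fin.sum_univ_three]

theorem tf_ee (x : I27 → K) : tf x (ee K) = x (0, 2, 2) := by
  rw [tf_eq]
  simp only [Fin.isValue, ee, Fin.sum_univ_three, ne_eq, Prod.mk.injEq, Fin.reduceEq, false_and, and_false,
      not_false_eq_true, Pi.single_eq_of_ne, mul_zero, add_zero, zero_add, Pi.single_eq_same, mul_one,
      Finset.sum_const_zero, one_ne_zero]

theorem sh_ee : sh (ee K) = 0 :=
  (congrArg sh (sZ_cast _)).trans ((sh_cast _).trans (z_zero (by decide +kernel)))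

/-- the product `cr` on the fixed vectors -/
theorem crJ {x y : I27 → K} (hx : InJ x) (hy : InJ y) :
    cr x y (0, 0, 0) = x (0, 1, 1) * y (0, 2, 2) + y (0, 1, 1) * x (0, 2, 2) ∧
    cr x y (0, 0, 1) = -(x (0, 0, 1) * y (0, 2, 2)) + -(y (0, 0, 1) * x (0, 2, 2)) ∧
    cr x y (0, 1, 0) = -(x (0, 1, 0) * y (0, 2, 2)) + -(y (0, 1, 0) * x (0, 2, 2)) ∧
    cr x y (0, 1, 1) = x (0, 0, 0) * y (0, 2, 2) + y (0, 0, 0) * x (0, 2, 2) ∧
    cr x y (1, 2, 0) = -(x (1, 2, 0) * y (0, 2, 2)) + -(y (1, 2, 0) * x (0, 2, 2)) ∧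
    cr x y (1, 2, 1) = -(x (1, 2, 1) * y (0, 2, 2)) + -(y (1, 2, 1) * x (0, 2, 2)) ∧
    cr x y (1, 2, 2) = -(x (1, 2, 2) * y (0, 2, 2)) + -(y (1, 2, 2) * x (0, 2, 2)) ∧
    cr x y (2, 0, 2) = -(x (2, 0, 2) * y (0, 2, 2)) + -(y (2, 0, 2) * x (0, 2, 2)) ∧
    cr x y (2, 1, 2) = -(x (2, 1, 2) * y (0, 2, 2)) + -(y (2, 1, 2) * x (0, 2, 2)) ∧
    cr x y (2, 2, 2) = -(x (2, 2, 2) * y (0, 2, 2)) + -(y (2, 2, 2) * x (0, 2, 2)) := by
  have a1 := hx (0, 0, 2) (by decide +kernel); have b1 := hy (0, 0, 2) (by decide +kernel)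
  have a2 := hx (0, 1, 2) (by decide +kernel); have b2 := hy (0, 1, 2) (by decide +kernel)
  have a3 := hx (0, 2, 0) (by decide +kernel); have b3 := hy (0, 2, 0) (by decide +kernel)
  have a4 := hx (0, 2, 1) (by decide +kernel); have b4 := hy (0, 2, 1) (by decide +kernel)
  have a5 := hx (1, 0, 0) (by decide +kernel); have b5 := hy (1, 0, 0) (by decide +kernel)
  have a6 := hx (1, 0, 1) (by decide +kernel); have b6 := hy (1, 0, 1) (by decide +kernel)
  have a7 := hx (1, 0, 2) (by decide +kernel); have b7 := hy (1, 0, 2) (by decide +kernel)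
  have a8 := hx (1, 1, 0) (by decide +kernel); have b8 := hy (1, 1, 0) (by decide +kernel)
  have a9 := hx (1, 1, 1) (by decide +kernel); have b9 := hy (1, 1, 1) (by decide +kernel)
  have a10 := hx (1, 1, 2) (by decide +kernel); have b10 := hy (1, 1, 2) (by decide +kernel)
  have a11 := hx (2, 0, 0) (by decide +kernel); have b11 := hy (2, 0, 0) (by decide +kernel)
  have a12 := hx (2, 0, 1) (by decide +kernel); have b12 := hy (2, 0, 1) (by decide +kernel)
  have a13 := hx (2, 1, 0) (by decide +kernel); have b13 := hy (2, 1, 0) (by decide +kernel)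
  have a14 := hx (2, 1, 1) (by decide +kernel); have b14 := hy (2, 1, 1) (by decide +kernel)
  have a15 := hx (2, 2, 0) (by decide +kernel); have b15 := hy (2, 2, 0) (by decide +kernel)
  have a16 := hx (2, 2, 1) (by decide +kernel); have b16 := hy (2, 2, 1) (by decide +kernel)
  refine ⟨?_, ?_, ?_, ?_, ?_, ?_, ?_, ?_, ?_, ?_⟩ <;>
    simp only [cr, Pi.sub_apply, Pi.add_apply, sh000, sh001, sh010, sh011, sh120, sh121, sh122, sh202, sh212, sh222,
      a1, a2, a3, a4, a5, a6, a7, a8, a9, a10, a11, a12, a13, a14, a15, a16,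
      b1, b2, b3, b4, b5, b6, b7, b8, b9, b10, b11, b12, b13, b14, b15, b16] <;> ring

end Ring

section Grp

variable {K : Type u} [Field K] {ρ : ↥(chevF4.group K) →* GL I27 K}

/-- `t` is the involution -/
def IsT (ρ : ↥(chevF4.group K) →* GL I27 K) (t : ↥(chevF4.group K)) : Prop :=
  ∀ x i, JK ρ t x i = if pl i = true then x i else -x i

theorem IsT.fix_iff (h2 : (2 : K) ≠ 0) {t : ↥(chevF4.group K)} (ht : IsT ρ t) (x : I27 → K) :
    JK ρ t x = x ↔ InJ x := by
  constructor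
  · intro h i hi
    have h1 := ht x i
    rw [h, if_neg (by rw [hi]; exact Bool.false_ne_true)] at h1
    have h3 : 2 * x i = 0 := by linear_combination h1
    exact (mul_eq_zero.1 h3).resolve_left h2
  · intro h
    funext i
    rw [ht x i]
    split_ifs with hi
    · rfl
    · rw [h i (by simpa using hi), neg_zero]

theorem IsT.neg_iff (h2 : (2 : K) ≠ 0) {t : ↥(chevF4.group K)} (ht : IsT ρ t) (x : I27 → K) :
    JK ρ t x = -x ↔ ∀ i, pl i = true → x i = 0 := by
  constructor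
  · intro h i hi
    have h1 := ht x i
    rw [h, if_pos hi, Pi.neg_apply] at h1
    have h3 : 2 * x i = 0 := by linear_combination -h1
    exact (mul_eq_zero.1 h3).resolve_left h2
  · intro h
    funext i
    rw [ht x i, Pi.neg_apply]
    split_ifs with hi
    · rw [h i hi, neg_zero]
    · rfl

theorem JK_comm {g t : ↥(chevF4.group K)} (h : g * t = t * g) (x : I27 → K) : JK ρ g (JK ρ t x) = JK ρ t (JK ρ g x) := by
  rw [← Module.End.mul_apply, ← map_mul, h, map_mul, Module.End.mul_apply]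

theorem IsT.inJ (h2 : (2 : K) ≠ 0) {t g : ↥(chevF4.group K)} (ht : IsT ρ t) (h : g * t = t * g) {x : I27 → K}
    (hx : InJ x) : InJ (JK ρ g x) := by
  rw [← ht.fix_iff h2] at hx ⊢
  rw [← JK_comm h, hx]

theorem cr_inv (h : IsJ ρ) (h2 : (2 : K) ≠ 0) (g : ↥(chevF4.group K)) (x y : I27 → K) :
    cr (JK ρ g x) (JK ρ g y) = JK ρ g (cr x y) := by
  unfold cr
  rw [← map_add, Inv.sh_inv h h2, Inv.sh_inv h h2, Inv.sh_inv h h2, map_sub, map_sub]

/-- the idempotent is fixed -/
theorem IsT.ee_fix (hρ : IsJ ρ) (h2 : (2 : K) ≠ 0) {t g : ↥(chevF4.group K)} (ht : IsT ρ t) (h : g * t = t * g) :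
    JK ρ g (ee K) = ee K := by
  set f := JK ρ g (ee K) with hf
  have f1 : InJ f := ht.inJ h2 h inJ_ee
  have f2 : sh f = 0 := by rw [hf, Inv.sh_inv hρ h2, sh_ee, map_zero]
  have f3 : tr1 f = 1 := by rw [hf, Inv.tr1_inv hρ h2, tr1_ee]
  have f3' : f (0, 0, 0) + f (0, 1, 1) + f (0, 2, 2) = 1 := by
    simpa only [tr1, Matrix.trace, mat3, Fin.sum_univ_three, _root_.Fin.isValue, _root_.Matrix.diag_apply, _root_.Matrix.of_apply] using f3
  by_cases ha : f (0, 2, 2) = 0
  · exfalso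
    set! x1 : I27 → K := Pi.single (0, 0, 1) 1 with hx1
    have e1 : cr (ee K) x1 = -x1 := (cr_sg _ _).trans (z_neg _ (by decide +kernel))
    have e2 : sh x1 = 0 := (congrArg sh (sZ_cast _)).trans ((sh_cast _).trans (z_zero (by decide +kernel)))
    have e3 : InJ x1 := by
      rintro ⟨k, i, j⟩
      (revert k i j; simp only [pl, code, mul_zero, add_zero, List.mem_cons, zero_ne_one, OfNat.zero_ne_ofNat, List.not_mem_nil, or_self, or_false, decide_true, Bool.true_eq_false, hx1, Fin.isValue, Fin.zero_eta, ne_eq, Prod.mk.injEq, and_false, not_false_eq_true, Pi.single_eq_of_ne, implies_true, zero_add, one_ne_zero, OfNat.one_ne_ofNat, or_true, Fin.mk_one, Pi.single_eq_same, imp_self, OfNat.ofNat_ne_zero, OfNat.ofNat_ne_one, Nat.reduceEqDiff, decide_false, Fin.reduceFinMk, Fin.reduceEq, mul_one, and_self, Nat.reduceAdd, Nat.succ_ne_self, and_true, Nat.reduceMul, _root_.Fin.forall_fin_succ, _root_.Nat.add_eq_zero_iff, _root_.mul_eq_zero, _root_.Fin.val_eq_zero_iff,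 _root_.false_or, _root_.Bool.decide_or, _root_.Bool.decide_and, _root_.Bool.or_eq_false_iff, _root_.Bool.and_eq_false_imp, _root_.Bool.and_eq_true, _root_.decide_eq_true_eq, _root_.decide_eq_false_iff_not, _root_.and_imp, _root_.not_true_eq_false, _root_.imp_false, _root_.Fin.coe_ofNat_eq_mod, _root_.Nat.zero_mod, _root_.Fin.succ_ne_zero, _root_.Fin.val_succ, _root_.forall_const, _root_.Nat.add_eq_right, _root_.not_and, _root_.Fin.succ_zero_eq_one, _root_.Fin.val_eq_zero, _root_.Fin.succ_one_eq_two, _root_.IsEmpty.forall_iff, _root_.true_and])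
    set! y := JK ρ g x1 with hy
    have y1 : InJ y := ht.inJ h2 h e3
    have y2 : cr f y = -y := by rw [hf, hy, cr_inv hρ h2, e1, map_neg]
    have y3 : sh y = 0 := by rw [hy, Inv.sh_inv hρ h2, e2, map_zero]
    have hz : ∀ {i}, pl i = false → f i = 0 ∧ y i = 0 := fun hi => ⟨f1 _ hi, y1 _ hi⟩
    obtain ⟨q0, q1, q2, q3, q4, q5, q6, q7, q8, q9⟩ := crJ f1 y1
    have c3 := congrFun y3 (0, 0, 0)
    have c4 := congrFun y3 (0, 1, 1)
    simp only [Pi.zero_apply, sh000, sh011, y1 (0, 0, 2) (by decide +kernel), y1 (0, 1, 2) (by decide +kernel), y1 (1, 0, 0) (by decide +kernel),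
      y1 (1, 0, 1) (by decide +kernel), y1 (1, 0, 2) (by decide +kernel), y1 (1, 1, 0) (by decide +kernel), y1 (1, 1, 1) (by decide +kernel),
      y1 (1, 1, 2) (by decide +kernel)] at c3 c4
    simp only [y2, Pi.neg_apply, ha, zero_mul, mul_zero, add_zero, zero_add, neg_zero] at q0 q1 q2 q3 q4 q5 q6 q7 q8 q9
    have c5 : y (0, 2, 2) * y (0, 2, 2) = 0 := by
      have := f3'
      rw [ha, add_zero] at this
      linear_combination (-y (0, 2, 2) * y (0, 2, 2)) * this - y (0, 2, 2) * q0 - y (0, 2, 2) * q3 - c3 - c4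
    have c6 : y (0, 2, 2) = 0 := mul_self_eq_zero.1 c5
    simp only [c6, mul_zero, neg_zero, neg_eq_zero] at q0 q1 q2 q3 q4 q5 q6 q7 q8 q9
    have c7 : ∀ i, y i = 0 := by
      intro i
      by_cases hi : pl i = true
      swap
      · exact y1 i (by simpa using hi)
      rcases pos_cases i hi with rfl | rfl | rfl | rfl | rfl | rfl | rfl | rfl | rfl | rfl | rfl
      exacts [q0, q1, q2, q3, c6, q4, q5, q6, q7, q8, q9]
    have c8 : y = 0 := funext c7
    have c9 : x1 = 0 := by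
      have := Inv.JK_inv_apply (ρ := ρ) g x1
      rw [← hy, c8, map_zero] at this
      exact this.symm
    have := congrFun c9 (0, 0, 1)
    simp [hx1] at this
  · -- the other coordinates vanish
    have hz : ∀ {i}, pl i = false → f i = 0 := fun hi => f1 _ hi
    have key : ∀ i, i ≠ (0, 2, 2) → f i = 0 := by
      intro i hi
      by_cases hp : pl i = true
      swap
      · exact f1 i (by simpa using hp)
      have g0 := congrFun f2 (0, 0, 0)
      have g1 := congrFun f2 (0, 0, 1)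
      have g2 := congrFun f2 (0, 1, 0)
      have g3 := congrFun f2 (0, 1, 1)
      have g4 := congrFun f2 (1, 2, 0)
      have g5 := congrFun f2 (1, 2, 1)
      have g6 := congrFun f2 (1, 2, 2)
      have g7 := congrFun f2 (2, 0, 2)
      have g8 := congrFun f2 (2, 1, 2)
      have g9 := congrFun f2 (2, 2, 2)
      simp only [Pi.zero_apply, sh000, sh001, sh010, sh011, sh120, sh121, sh122, sh202, sh212, sh222,
        hz (i := (0, 0, 2)) (by decide +kernel), hz (i := (0, 1, 2)) (by decide +kernel), hz (i := (0, 2, 0)) (by decide +kernel),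
        hz (i := (0, 2, 1)) (by decide +kernel), hz (i := (1, 0, 0)) (by decide +kernel), hz (i := (1, 0, 1)) (by decide +kernel),
        hz (i := (1, 0, 2)) (by decide +kernel), hz (i := (1, 1, 0)) (by decide +kernel), hz (i := (1, 1, 1)) (by decide +kernel),
        hz (i := (1, 1, 2)) (by decide +kernel), hz (i := (2, 0, 0)) (by decide +kernel), hz (i := (2, 0, 1)) (by decide +kernel),
        hz (i := (2, 1, 0)) (by decide +kernel), hz (i := (2, 1, 1)) (by decide +kernel), hz (i := (2, 2, 0)) (by decide +kernel),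
        hz (i := (2, 2, 1)) (by decide +kernel), mul_zero, zero_mul, sub_zero, add_zero, zero_sub, zero_add, neg_eq_zero,
        mul_eq_zero, ha, or_false, false_or] at g0 g1 g2 g3 g4 g5 g6 g7 g8 g9
      rcases pos_cases i hp with rfl | rfl | rfl | rfl | rfl | rfl | rfl | rfl | rfl | rfl | rfl <;>
        first | assumption | exact absurd rfl hi
    have e1 : f = f (0, 2, 2) • ee K := by
      funext i
      by_cases hi : i = (0, 2, 2)
      · rw [hi]; simp [ee]
      · rw [key i hi, Pi.smul_apply, ee, Pi.single_apply, if_neg hi, smul_zero]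
    have e2 : f (0, 2, 2) = 1 := by
      rw [key _ (by decide +kernel), key _ (by decide +kernel), zero_add, zero_add] at f3'
      exact f3'
    rw [e1, e2, one_smul]

end Grp

end Cfsg.Agent.H885.Pw.JB
end

-- part: H885/Pw/JC
section
/-!
helper885 (S2465, `F4(3)`): the homomorphism `Ph : C(t) → O₉(K)`; its kernel is `{1, t}`.
-/

set_option autoImplicit false
set_option linter.unusedSectionVars false
set_option linter.unusedSimpArgs false
set_option linter.unusedTactic false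
set_option linter.unreachableTactic false

namespace Cfsg.Agent.H885.Pw.JB

open Cfsg Cfsg.Lie Module Matrix
open Cfsg.Agent.ChevalleyStructure.E6Min.Tables Cfsg.Agent.ChevalleyStructure.E6Min.Basic
open Cfsg.Agent.H952.F4 Cfsg.Agent.H952.F4.Jord
open Cfsg.Agent.LieClassical Cfsg.Agent.LieClassical.OrthForms Cfsg.Agent.LieClassical.OrthCore

universe u

variable {K : Type u} [Field K] {ρ : ↥(chevF4.group K) →* GL I27 K} {t : ↥(chevF4.group K)}

theorem io_inj : Function.Injective (io (K := K)) := fun v w h => by rw [← po_io v, ← po_io w, h]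

theorem io_022 (v : VV K) : io v (0, 2, 2) = 0 := by simp [io, ofM]

theorem io_po_JK (hρ : IsJ ρ) (h2 : (2 : K) ≠ 0) (ht : IsT ρ t) {g : ↥(chevF4.group K)} (h : g * t = t * g)
    (v : VV K) : io (po (JK ρ g (io v))) = JK ρ g (io v) := by
  have h1 : InJ (JK ρ g (io v)) := ht.inJ h2 h (inJ_io v)
  have h3 : JK ρ g (io v) (0, 2, 2) = 0 := by
    rw [← tf_ee (JK ρ g (io v)), ← ht.ee_fix hρ h2 h, Inv.tf_inv hρ h2, tf_ee, io_022]
  refine io_po h1 h3 ?_
  have h4 : tr1 (JK ρ g (io v)) = 0 := by rw [Inv.tr1_inv hρ h2, tr1_io]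
  have h5 : JK ρ g (io v) (0, 0, 0) + JK ρ g (io v) (0, 1, 1) + JK ρ g (io v) (0, 2, 2) = 0 := by
    simpa only [Fin.isValue, tr1, trace, mat3, diag_apply, of_apply, Fin.sum_univ_three] using h4
  rw [h3, add_zero] at h5
  exact h5

theorem comm_of_mem {g : ↥(chevF4.group K)} (hg : g ∈ Subgroup.centralizer ({t} : Set ↥(chevF4.group K))) :
    g * t = t * g := Subgroup.mem_centralizer_singleton_iff.1 hg

/-- the action on the 9-dimensional space -/
noncomputable def phL (ρ : ↥(chevF4.group K) →* GL I27 K) (g : ↥(chevF4.group K)) : VV K →ₗ[K] VV K :=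
  po ∘ₗ (JK ρ g : (I27 → K) →ₗ[K] (I27 → K)) ∘ₗ io

theorem phL_apply (g : ↥(chevF4.group K)) (v : VV K) : phL ρ g v = po (JK ρ g (io v)) := rfl

theorem phL_mul (hρ : IsJ ρ) (h2 : (2 : K) ≠ 0) (ht : IsT ρ t) {g h : ↥(chevF4.group K)} (hh : h * t = t * h)
    (v : VV K) : phL ρ g (phL ρ h v) = phL ρ (g * h) v := by
  rw [phL_apply, phL_apply, phL_apply, io_po_JK hρ h2 ht hh, map_mul, Module.End.mul_apply]

theorem phL_one (v : VV K) : phL ρ 1 v = v := by
  rw [phL_apply, map_one, Module.End.one_apply, po_io]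

attribute [local irreducible] phL io po

/-- the representation of the centralizer on the 9-dimensional space -/
noncomputable def Ph (hρ : IsJ ρ) (h2 : (2 : K) ≠ 0) (ht : IsT ρ t) :
    ↥(Subgroup.centralizer ({t} : Set ↥(chevF4.group K))) →* (VV K ≃ₗ[K] VV K) where
  toFun g := LinearEquiv.ofLinearMap (phL ρ (g : ↥(chevF4.group K))) (phL ρ ((g : ↥(chevF4.group K))⁻¹))
    (LinearMap.ext fun v => by
      rw [LinearMap.comp_apply, phL_mul hρ h2 ht (comm_of_mem (inv_mem g.2)), mul_inv_cancel, phL_one]; rfl)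
    (LinearMap.ext fun v => by
      rw [LinearMap.comp_apply, phL_mul hρ h2 ht (comm_of_mem g.2), inv_mul_cancel, phL_one]; rfl)
  map_one' := LinearEquiv.ext fun v => phL_one v
  map_mul' a b := LinearEquiv.ext fun v => by
    rw [LinearEquiv.mul_apply]
    show phL ρ ((a : ↥(chevF4.group K)) * b) v = phL ρ a (phL ρ b v)
    exact (phL_mul hρ h2 ht (comm_of_mem b.2) v).symm

theorem Ph_apply (hρ : IsJ ρ) (h2 : (2 : K) ≠ 0) (ht : IsT ρ t)
    (g : ↥(Subgroup.centralizer ({t} : Set ↥(chevF4.group K)))) (v : VV K) :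
    Ph hρ h2 ht g v = phL ρ (g : ↥(chevF4.group K)) v := rfl

theorem io_Ph (hρ : IsJ ρ) (h2 : (2 : K) ≠ 0) (ht : IsT ρ t)
    (g : ↥(Subgroup.centralizer ({t} : Set ↥(chevF4.group K)))) (v : VV K) :
    io (Ph hρ h2 ht g v) = JK ρ (g : ↥(chevF4.group K)) (io v) := by
  rw [Ph_apply, phL_apply]
  exact io_po_JK hρ h2 ht (comm_of_mem g.2) v

theorem Ph_mem_O (hρ : IsJ ρ) (h2 : (2 : K) ≠ 0) (ht : IsT ρ t)
    (g : ↥(Subgroup.centralizer ({t} : Set ↥(chevF4.group K)))) : Ph hρ h2 ht g ∈ O (oddForm 4 K) := by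
  intro v
  have h1 := sh_io (Ph hρ h2 ht g v)
  simp only [io_Ph, Inv.sh_inv hρ h2, sh_io, map_smul, ht.ee_fix hρ h2 (comm_of_mem g.2)] at h1
  have h3 := congrFun h1 (0, 2, 2)
  simp [ee] at h3
  exact h3.symm

/-! ### the kernel -/

/-- every fixed vector is a combination of `io v`, `e` and `1` -/
theorem InJ.eq (h2 : (2 : K) ≠ 0) {x : I27 → K} (hx : InJ x) :
    ∃ (v : VV K) (a b : K), x = io v + a • ee K + b • u0 K := by
  set b : K := (x (0, 0, 0) + x (0, 1, 1)) / 2 with hb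
  have hb' : 2 * b = x (0, 0, 0) + x (0, 1, 1) := by rw [hb]; field_simp
  refine ⟨po (x - (x (0, 2, 2) - b) • ee K - b • u0 K), x (0, 2, 2) - b, b, ?_⟩
  have h1 : InJ (x - (x (0, 2, 2) - b) • ee K - b • u0 K) := by
    intro i hi
    have e1 : ee K i = 0 := inJ_ee i hi
    have e2 : u0 K i = 0 := by
      obtain ⟨k, i, j⟩ := i
      revert hi
      fin_cases k <;> fin_cases i <;> fin_cases j <;> simp [pl, code, u0]
    simp [hx i hi, e1, e2]
  rw [io_po h1]
  · abel
  · simp [ee, u0]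
  · simp only [ee, u0, _root_.Fin.isValue, _root_.Pi.sub_apply, _root_.Pi.smul_apply, _root_.ne_eq, _root_.Prod.mk.injEq, _root_.Fin.reduceEq, _root_.and_self, _root_.and_false, _root_.not_false_eq_true, _root_.Pi.single_eq_of_ne, _root_.smul_eq_mul, _root_.MulZeroClass.mul_zero, _root_.sub_zero, ↓ _root_.reduceIte, _root_.mul_one]
    linear_combination -hb'

theorem fix_of_Ph (hρ : IsJ ρ) (h2 : (2 : K) ≠ 0) (ht : IsT ρ t)
    {g : ↥(Subgroup.centralizer ({t} : Set ↥(chevF4.group K)))} (hg : Ph hρ h2 ht g = 1) {x : I27 → K} (hx : InJ x) :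
    JK ρ (g : ↥(chevF4.group K)) x = x := by
  obtain ⟨v, a, b, rfl⟩ := hx.eq h2
  rw [map_add, map_add, map_smul, map_smul, ht.ee_fix hρ h2 (comm_of_mem g.2), Inv.u0_inv hρ, ← io_Ph hρ h2 ht, hg]
  rfl

/-- the unit vectors -/
def sg (K : Type u) [Field K] (i : I27) : I27 → K := Pi.single i 1

theorem sg_apply (i j : I27) : sg K i j = if j = i then 1 else 0 := by
  unfold sg
  rw [Pi.single_apply]

theorem c01 : cr (sg K (2, 0, 2)) (sg K (0, 2, 1)) = -sg K (2, 0, 1) :=
  (cr_sg _ _).trans (z_neg _ (by decide +kernel))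

theorem c02 : cr (sg K (2, 1, 2)) (sg K (0, 2, 1)) = -sg K (2, 1, 1) :=
  (cr_sg _ _).trans (z_neg _ (by decide +kernel))

theorem c03 : cr (sg K (2, 2, 2)) (sg K (0, 2, 1)) = -sg K (2, 2, 1) :=
  (cr_sg _ _).trans (z_neg _ (by decide +kernel))

theorem c04 : cr (sg K (0, 1, 0)) (sg K (0, 2, 1)) = sg K (0, 2, 0) :=
  (cr_sg _ _).trans (z_pos _ (by decide +kernel))

theorem c05 : cr (sg K (0, 1, 0)) (sg K (2, 0, 1)) = -sg K (2, 0, 0) :=
  (cr_sg _ _).trans (z_neg _ (by decide +kernel))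

theorem c06 : cr (sg K (0, 1, 0)) (sg K (2, 1, 1)) = -sg K (2, 1, 0) :=
  (cr_sg _ _).trans (z_neg _ (by decide +kernel))

theorem c07 : cr (sg K (0, 1, 0)) (sg K (2, 2, 1)) = -sg K (2, 2, 0) :=
  (cr_sg _ _).trans (z_neg _ (by decide +kernel))

theorem c08 : cr (sg K (2, 2, 2)) (sg K (2, 1, 1)) = sg K (1, 0, 0) :=
  (cr_sg _ _).trans (z_pos _ (by decide +kernel))

theorem c09 : cr (sg K (2, 0, 2)) (sg K (2, 2, 1)) = sg K (1, 0, 1) :=
  (cr_sg _ _).trans (z_pos _ (by decide +kernel))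

theorem c10 : cr (sg K (2, 1, 2)) (sg K (2, 0, 1)) = sg K (1, 0, 2) :=
  (cr_sg _ _).trans (z_pos _ (by decide +kernel))

theorem c11 : cr (sg K (2, 1, 2)) (sg K (2, 2, 0)) = sg K (1, 1, 0) :=
  (cr_sg _ _).trans (z_pos _ (by decide +kernel))

theorem c12 : cr (sg K (2, 2, 2)) (sg K (2, 0, 0)) = sg K (1, 1, 1) :=
  (cr_sg _ _).trans (z_pos _ (by decide +kernel))

theorem c13 : cr (sg K (2, 0, 2)) (sg K (2, 1, 0)) = sg K (1, 1, 2) :=
  (cr_sg _ _).trans (z_pos _ (by decide +kernel))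

theorem c14 : cr (sg K (2, 0, 2)) (sg K (1, 0, 0)) = -sg K (0, 0, 2) :=
  (cr_sg _ _).trans (z_neg _ (by decide +kernel))

theorem c15 : cr (sg K (2, 0, 2)) (sg K (1, 1, 0)) = -sg K (0, 1, 2) :=
  (cr_sg _ _).trans (z_neg _ (by decide +kernel))


theorem d1 : cr (sg K (0, 0, 1)) (sg K (0, 2, 1)) = 0 :=
  (cr_sg _ _).trans (z_zero (by decide +kernel))

theorem d2 : cr (sg K (1, 2, 0)) (sg K (0, 2, 1)) = 0 :=
  (cr_sg _ _).trans (z_zero (by decide +kernel))

theorem d3 : cr (sg K (1, 2, 1)) (sg K (0, 2, 1)) = 0 :=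
  (cr_sg _ _).trans (z_zero (by decide +kernel))

theorem d4 : cr (sg K (1, 2, 2)) (sg K (0, 2, 1)) = 0 :=
  (cr_sg _ _).trans (z_zero (by decide +kernel))


/-- the square of `sg (0, 0, 2) + sg (0, 2, 0)` -/
theorem sh_two : sh (sg K (0, 0, 2) + sg K (0, 2, 0)) = -sg K (0, 1, 1) :=
  (sh_sg2 _ _).trans (z_neg _ (by decide +kernel))

theorem inJ_sg {i : I27} (hi : pl i = true) : InJ (sg K i) := by
  intro j hj
  rw [sg_apply, if_neg]
  rintro rfl
  rw [hi] at hj
  exact absurd hj (by decide +kernel)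

/-- vectors killed by four operators -/
theorem eq_of_killed {w : I27 → K} (hw : ∀ i, pl i = true → w i = 0) (h1 : cr (sg K (0, 0, 1)) w = 0)
    (h2 : cr (sg K (1, 2, 0)) w = 0) (h3 : cr (sg K (1, 2, 1)) w = 0) (h4 : cr (sg K (1, 2, 2)) w = 0) :
    w = w (0, 2, 1) • sg K (0, 2, 1) := by
  have a1 := congrFun h1 (0, 0, 2)
  have a2 := congrFun h1 (0, 2, 1)
  have a3 := congrFun h2 (0, 2, 0)
  have a4 := congrFun h3 (0, 2, 0)
  have a5 := congrFun h4 (0, 2, 0)
  have a6 := congrFun h2 (0, 2, 1)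
  have a7 := congrFun h3 (0, 2, 1)
  have a8 := congrFun h4 (0, 2, 1)
  have a9 := congrFun h2 (1, 0, 0)
  have b1 := congrFun h2 (2, 1, 0)
  have b2 := congrFun h2 (2, 1, 1)
  have b3 := congrFun h2 (2, 2, 0)
  have b4 := congrFun h2 (2, 2, 1)
  have b5 := congrFun h3 (2, 2, 0)
  have b6 := congrFun h3 (2, 2, 1)
  simp only [cr, Pi.sub_apply, Pi.add_apply, Pi.zero_apply, sh002, sh021, sh020, sh100, sh210, sh211, sh220, sh221,
    sg_apply] at a1 a2 a3 a4 a5 a6 a7 a8 a9 b1 b2 b3 b4 b5 b6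
  simp only [↓reduceIte, Fin.isValue, Prod.mk.injEq, one_ne_zero, Fin.reduceEq, and_self, and_false, zero_add, and_true,
      zero_ne_one, mul_zero, sub_self, add_zero, sub_zero, sub_sub_sub_cancel_right, sub_sub_sub_cancel_left,
      add_sub_add_right_eq_sub, add_sub_add_left_eq_sub, mul_one] at a1 a2 a3 a4 a5 a6 a7 a8 a9 b1 b2 b3 b4 b5 b6
  have za1 : w (0, 1, 2) = 0 := by linear_combination a1
  have za2 : w (0, 2, 0) = 0 := by linear_combination a2
  have za3 : w (2, 0, 0) = 0 := by linear_combination -a3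
  have za4 : w (2, 1, 0) = 0 := by linear_combination -a4
  have za5 : w (2, 2, 0) = 0 := by linear_combination -a5
  have za6 : w (2, 0, 1) = 0 := by linear_combination -a6
  have za7 : w (2, 1, 1) = 0 := by linear_combination -a7
  have za8 : w (2, 2, 1) = 0 := by linear_combination -a8
  have za9 : w (0, 0, 2) = 0 := by linear_combination -a9
  have zb1 : w (1, 1, 2) = 0 := by linear_combination b1
  have zb2 : w (1, 0, 2) = 0 := by linear_combination -b2
  have zb3 : w (1, 1, 1) = 0 := by linear_combination -b3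
  have zb4 : w (1, 0, 1) = 0 := by linear_combination b4
  have zb5 : w (1, 1, 0) = 0 := by linear_combination b5
  have zb6 : w (1, 0, 0) = 0 := by linear_combination -b6
  refine ext27 fun k i j => ?_
  rw [Pi.smul_apply, sg_apply]
  (revert k i j; simp only [Fin.zero_eta, Fin.isValue, Prod.mk.injEq, Fin.reduceEq, zero_ne_one, and_self, and_false, ↓reduceIte, smul_eq_mul, mul_zero, Fin.mk_one, and_true, Fin.reduceFinMk, mul_one, one_ne_zero, _root_.Fin.forall_fin_succ, _root_.mul_ite, _root_.Fin.succ_zero_eq_one, _root_.Fin.succ_one_eq_two, _root_.IsEmpty.forall_iff, _root_.true_and, _root_.Fin.succ_ne_zero]) <;> (repeat' with_reducible apply And.intro) <;> first | assumption | exact hw _ (by decide +kernel)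

theorem neg_cases : ∀ i : I27, pl i = false → i = (0, 0, 2) ∨ i = (0, 1, 2) ∨ i = (0, 2, 0) ∨ i = (0, 2, 1) ∨
    i = (1, 0, 0) ∨ i = (1, 0, 1) ∨ i = (1, 0, 2) ∨ i = (1, 1, 0) ∨ i = (1, 1, 1) ∨ i = (1, 1, 2) ∨ i = (2, 0, 0) ∨
    i = (2, 0, 1) ∨ i = (2, 1, 0) ∨ i = (2, 1, 1) ∨ i = (2, 2, 0) ∨ i = (2, 2, 1) := by decide +kernel

variable (hρ : IsJ ρ) (h2 : (2 : K) ≠ 0) (ht : IsT ρ t)

/-- **the kernel of `Ph`** -/
theorem ker_Ph (hi : Function.Injective ρ) {g : ↥(Subgroup.centralizer ({t} : Set ↥(chevF4.group K)))}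
    (hg : Ph hρ h2 ht g = 1) : (g : ↥(chevF4.group K)) = 1 ∨ (g : ↥(chevF4.group K)) = t := by
  set! k := JK ρ (g : ↥(chevF4.group K)) with hk
  have fx : ∀ {x : I27 → K}, InJ x → k x = x := fun hx => fix_of_Ph hρ h2 ht hg hx
  have kc : ∀ {x : I27 → K} (_ : InJ x) (y : I27 → K), k (cr x y) = cr x (k y) := by
    intro x hx y
    rw [hk, ← cr_inv hρ h2, ← hk, fx hx]
  set! w := k (sg K (0, 2, 1)) with hw
  have w1 : ∀ i, pl i = true → w i = 0 := by
    rw [← ht.neg_iff h2, hw, hk, ← JK_comm (comm_of_mem g.2)]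
    have : JK ρ t (sg K (0, 2, 1)) = -sg K (0, 2, 1) := by
      rw [ht.neg_iff h2]
      intro i hi
      rw [sg_apply, if_neg]
      rintro rfl
      exact absurd hi (by decide +kernel)
    rw [this, map_neg]
  have w2 : w = w (0, 2, 1) • sg K (0, 2, 1) := by
    apply eq_of_killed w1
    · rw [hw, ← kc (inJ_sg (by decide +kernel)), d1, map_zero]
    · rw [hw, ← kc (inJ_sg (by decide +kernel)), d2, map_zero]
    · rw [hw, ← kc (inJ_sg (by decide +kernel)), d3, map_zero]
    · rw [hw, ← kc (inJ_sg (by decide +kernel)), d4, map_zero]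
  set! l := w (0, 2, 1) with hl; rewrite [← hl] at w2
  let P : (I27 → K) → Prop := fun y => k y = l • y
  have P0 : P (sg K (0, 2, 1)) := w2
  have Pc : ∀ {i : I27} (_ : pl i = true) {y : I27 → K}, P y → P (cr (sg K i) y) := by
    intro i hi y hy
    show k _ = _
    rw [kc (inJ_sg hi), hy, cr_smul_right]
  have Pn : ∀ {y : I27 → K}, P (-y) → P y := by
    intro y hy
    have h1 : k (-y) = l • (-y) := hy
    rw [map_neg, smul_neg] at h1
    exact neg_injective h1
  have p01 : P (sg K (2, 0, 1)) := Pn (by rw [← c01]; exact Pc (by decide +kernel) P0)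
  have p02 : P (sg K (2, 1, 1)) := Pn (by rw [← c02]; exact Pc (by decide +kernel) P0)
  have p03 : P (sg K (2, 2, 1)) := Pn (by rw [← c03]; exact Pc (by decide +kernel) P0)
  have p04 : P (sg K (0, 2, 0)) := by rw [← c04]; exact Pc (by decide +kernel) P0
  have p05 : P (sg K (2, 0, 0)) := Pn (by rw [← c05]; exact Pc (by decide +kernel) p01)
  have p06 : P (sg K (2, 1, 0)) := Pn (by rw [← c06]; exact Pc (by decide +kernel) p02)
  have p07 : P (sg K (2, 2, 0)) := Pn (by rw [← c07]; exact Pc (by decide +kernel) p03)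
  have p08 : P (sg K (1, 0, 0)) := by rw [← c08]; exact Pc (by decide +kernel) p02
  have p09 : P (sg K (1, 0, 1)) := by rw [← c09]; exact Pc (by decide +kernel) p03
  have p10 : P (sg K (1, 0, 2)) := by rw [← c10]; exact Pc (by decide +kernel) p01
  have p11 : P (sg K (1, 1, 0)) := by rw [← c11]; exact Pc (by decide +kernel) p07
  have p12 : P (sg K (1, 1, 1)) := by rw [← c12]; exact Pc (by decide +kernel) p05
  have p13 : P (sg K (1, 1, 2)) := by rw [← c13]; exact Pc (by decide +kernel) p06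
  have p14 : P (sg K (0, 0, 2)) := Pn (by rw [← c14]; exact Pc (by decide +kernel) p08)
  have p15 : P (sg K (0, 1, 2)) := Pn (by rw [← c15]; exact Pc (by decide +kernel) p11)
  have pall : ∀ i, k (sg K i) = if pl i = true then sg K i else l • sg K i := by
    intro i
    by_cases hi : pl i = true
    · rw [if_pos hi, fx (inJ_sg hi)]
    · rw [if_neg hi]
      rcases neg_cases i (by simpa using hi) with h | h | h | h | h | h | h | h | h | h | h | h | h | h | h | h <;>
        rw [h]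
      · exact p14
      · exact p15
      · exact p04
      · exact P0
      · exact p08
      · exact p09
      · exact p10
      · exact p11
      · exact p12
      · exact p13
      · exact p05
      · exact p01
      · exact p06
      · exact p02
      · exact p07
      · exact p03
  have l2 : l = 1 ∨ l = -1 := by
    have h1 := Inv.sh_inv hρ h2 (g : ↥(chevF4.group K)) (sg K (0, 0, 2) + sg K (0, 2, 0))
    have h3 : k (sg K (0, 0, 2) + sg K (0, 2, 0)) = l • (sg K (0, 0, 2) + sg K (0, 2, 0)) := by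
      rw [map_add, p14, p04, smul_add]
    rw [← hk, h3, Jord.sh_smul, sh_two, map_neg, fx (inJ_sg (by decide +kernel)), smul_neg] at h1
    have h4 := congrFun h1 (0, 1, 1)
    simpa only [sg_apply, _root_.Fin.isValue, _root_.Pi.neg_apply, _root_.Pi.smul_apply, ↓ _root_.reduceIte, _root_.smul_eq_mul, _root_.mul_one, _root_.neg_inj, _root_.sq_eq_one_iff] using h4
  have hmat : ∀ {a b : ↥(chevF4.group K)}, (∀ i, JK ρ a (sg K i) = JK ρ b (sg K i)) → a = b := by
    intro a b hab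
    apply hi
    apply Units.ext
    ext i j
    have := congrFun (hab j) i
    rw [Inv.JK_apply, Inv.JK_apply, sg, Matrix.mulVec_single_one, Matrix.mulVec_single_one] at this
    exact this
  rcases l2 with h1 | h1
  · left
    apply hmat
    intro i
    rw [← hk, pall i, h1, one_smul, ite_self, map_one, Module.End.one_apply]
  · right
    apply hmat
    intro i
    rw [← hk, pall i, h1, neg_one_smul]
    split_ifs with hi'
    · exact ((ht.fix_iff h2 _).2 (inJ_sg hi')).symm
    · symm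
      rw [ht.neg_iff h2]
      intro j hj
      rw [sg_apply, if_neg]
      rintro rfl
      exact hi' hj

end Cfsg.Agent.H885.Pw.JB
end

-- part: H885/Pw/JD
section
/-!
helper885 (S2465, `F4(3)`): the toral involution `t1` of type `B4`.
-/

set_option autoImplicit false
set_option linter.unusedSectionVars false

namespace Cfsg.Agent.H885.Pw.JB

open Cfsg Cfsg.Lie Module Matrix
open Cfsg.Agent.ChevalleyStructure.E6Min.Tables Cfsg.Agent.ChevalleyStructure.E6Min.Basic
open Cfsg.Agent.H952.F4 Cfsg.Agent.H952.F4.Jord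
open Cfsg.Agent.LieClassical Cfsg.Agent.LieClassical.OrthForms Cfsg.Agent.LieClassical.OrthCore
open Cfsg.Agent.H557.InvF4 Cfsg.Agent.H557.SignTorus Cfsg.Agent.H557.OrbF4 Cfsg.Agent.OddHalf.NI.ModelChev
open Cfsg.Agent.H815.F4Tor
open Cfsg.Agent.Tits.Roots Cfsg.Agent.Nodes.BNOf Cfsg.Agent.Nodes.RGDChev Cfsg.Agent.KFacts.RgdChevCoord

universe u

/-- the involution of type `B₄` -/
noncomputable abbrev t1 (K : Type u) [Field K] : ↥(chevF4.group K) :=
  th Cfsg.Agent.Nodes.KindF.isType (Cfsg.Agent.H557.SignTorus.sg K 4 n_TabB4)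

theorem sg_eq (K : Type u) [Field K] : Cfsg.Agent.H557.SignTorus.sg K 4 n_TabB4 = Pi.mulSingle 1 (-1) := by
  funext k
  unfold Cfsg.Agent.H557.SignTorus.sg n_TabB4
  have h0 : Nat.testBit 2 0 = false := by decide
  have h1 : Nat.testBit 2 1 = true := by decide
  have h2 : Nat.testBit 2 2 = false := by decide
  have h3 : Nat.testBit 2 3 = false := by decide
  fin_cases k <;> simp [Pi.mulSingle_apply, h0, h1, h2, h3]

theorem wx_par : ∀ i : I27, pl i = true ↔ Even (wx 1 i) := by decide +kernel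

theorem isT_t1 {K : Type u} [Field K] {ρ : ↥(chevF4.group K) →* GL I27 K} (hρ : IsJ ρ) : IsT ρ (t1 K) := by
  intro x i
  have h1 : t1 K = Cfsg.Agent.KFacts.RgdChevCoord.hc typeF4 1 (-1 : K) := by
    unfold t1
    rw [sg_eq]
    show ((thT _ _ : ↥(TT chevF4 K)) : ↥(chevF4.group K)) = _
    rw [thT_mulSingle, coe_hcH]
    simp
  rw [Inv.JK_apply, h1, rho_hc hρ, hY_eq 1 (neg_ne_zero.2 one_ne_zero), Matrix.mulVec_diagonal]
  by_cases h : pl i = true
  · have h3 := (wx_par i).1 h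
    rw [if_pos h]
    show (-1 : K) ^ (wx 1 i) * x i = x i
    rw [h3.neg_one_zpow, one_mul]
  · have h3 : Odd (wx 1 i) := by
      rw [← Int.not_even_iff_odd, ← wx_par i]
      exact h
    rw [if_neg h]
    show (-1 : K) ^ (wx 1 i) * x i = -x i
    rw [h3.neg_one_zpow, neg_one_mul]

end Cfsg.Agent.H885.Pw.JB
end

-- part: H885/Pw/JE
section
/-!
helper885 (S2465, `F4(3)`): the image of `Ph` contains `E Q` (`= Ω₉(3)`).
-/

set_option autoImplicit false
set_option linter.unusedSectionVars false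

namespace Cfsg.Agent.H885.Pw.JB

open Cfsg Cfsg.Lie Module Matrix
open Cfsg.Agent.ChevalleyStructure.E6Min.Tables Cfsg.Agent.ChevalleyStructure.E6Min.Basic
open Cfsg.Agent.H952.F4 Cfsg.Agent.H952.F4.Jord
open Cfsg.Agent.LieClassical Cfsg.Agent.LieClassical.OrthForms Cfsg.Agent.LieClassical.OrthCore
  Cfsg.Agent.LieClassical.OrthTrans Cfsg.Agent.LieClassical.OrthFinite Cfsg.Agent.LieClassical.OrthSimple
open Cfsg.Agent.H557.InvF4 Cfsg.Agent.H557.SignTorus Cfsg.Agent.H557.OrbF4 Cfsg.Agent.OddHalf.NI.ModelChev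
open Cfsg.Agent.H815.F4Tor Cfsg.Agent.H557.SubTab Cfsg.Agent.H557.InvClass Cfsg.Agent.H557.ToralTypes
open Cfsg.Agent.Tits.Roots Cfsg.Agent.Nodes.BNOf Cfsg.Agent.Nodes.RGDChev Cfsg.Agent.KFacts.RgdChevCoord

universe u

section Abs

variable {F V : Type*} [Field F] [Finite F] [AddCommGroup V] [Module F V] [Finite V] {Q : QuadraticForm F V}

/-- a subgroup `H` of a finite group has a normal subgroup inside of index at most `(index H)!` -/
theorem core_index {G : Type*} [Group G] [Finite G] (H : Subgroup G) (h : H.index ≤ 4) : H.normalCore.index ≤ 24 := by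
  classical
  have e1 : H.normalCore = (MulAction.toPermHom G (G ⧸ H)).ker := Subgroup.normalCore_eq_ker H
  rw [e1, Subgroup.index_ker]
  refine (Subgroup.card_le_card_group _).trans ?_
  rw [Nat.card_perm]
  exact (Nat.factorial_le (show Nat.card (G ⧸ H) ≤ 4 from h)).trans (by decide +kernel)

/-- a subgroup of index at most 4 of `O Q` contains `E Q` -/
theorem E_le_of_index (hF : Nat.card F = 3) (hG : _root_.Cfsg.Agent.LieClassical.OrthTrans.Good Q) {R : Subgroup (V ≃ₗ[F] V)} (hR : R ≤ O Q)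
    (hc : Nat.card (O Q) ≤ 4 * Nat.card R) (hE : 72 < Nat.card (E Q)) : E Q ≤ R := by
  classical
  have : Finite (V ≃ₗ[F] V) := Finite.of_injective (fun g : V ≃ₗ[F] V => (g : V → V)) DFunLike.coe_injective
  have h1 : Nat.card R * R.relIndex (O Q) = Nat.card (O Q) := by
    rw [← Subgroup.relIndex_bot_left, Subgroup.relIndex_mul_relIndex _ _ _ bot_le hR, Subgroup.relIndex_bot_left]
  have h2 : R.relIndex (O Q) ≤ 4 := by
    have h3 : 0 < Nat.card R := Nat.card_pos
    by_contra h4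
    push Not at h4
    have : Nat.card R * 5 ≤ Nat.card R * R.relIndex (O Q) := Nat.mul_le_mul_left _ h4
    omega
  have h0 : R.relIndex (O Q) ≠ 0 := by
    intro h
    rw [h, mul_zero] at h1
    exact (Nat.card_pos (α := ↥(O Q))).ne h1
  have h3 : (R.subgroupOf (E Q)).index ≤ 4 := (Subgroup.relIndex_le_of_le_right (H := R) E_le_O h0).trans h2
  have h4 : Nat.card (E Q) ≤ Nat.card (R.subgroupOf (E Q)).normalCore * 24 := by
    rw [← Subgroup.card_mul_index (R.subgroupOf (E Q)).normalCore]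
    exact Nat.mul_le_mul_left _ (core_index _ h3)
  have hNn : (R.subgroupOf (E Q)).normalCore.Normal := Subgroup.normalCore_normal _
  have hNl : (R.subgroupOf (E Q)).normalCore ≤ R.subgroupOf (E Q) := Subgroup.normalCore_le _
  generalize (R.subgroupOf (E Q)).normalCore = N at h4 hNn hNl
  have ha : N.map (E Q).subtype ≤ E Q := by
    rintro _ ⟨n, -, rfl⟩
    exact n.2
  have hb : ∀ g ∈ E Q, ∀ n ∈ N.map (E Q).subtype, g * n * g⁻¹ ∈ N.map (E Q).subtype := by
    rintro g hg _ ⟨n, hn, rfl⟩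
    exact ⟨(⟨g, hg⟩ * n * ⟨g, hg⟩⁻¹ :), hNn.conj_mem n hn ⟨g, hg⟩, rfl⟩
  rcases good_normal_dichotomy hG ha hb with h5 | h5
  · exfalso
    have h6 : Nat.card N ≤ 3 := by
      rw [← hF]
      choose! c hc' using h5
      refine Nat.card_le_card_of_injective (fun n : N => c ((n : ↥(E Q)) : V ≃ₗ[F] V)) ?_
      intro a b hab
      apply Subtype.ext
      apply Subtype.ext
      apply LinearEquiv.ext
      intro v
      exact (hc' _ ⟨a, a.2, rfl⟩ v).trans ((congrArg (fun t : F => t • v) hab).trans (hc' _ ⟨b, b.2, rfl⟩ v).symm)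
    omega
  · intro g hg
    rw [← h5] at hg
    obtain ⟨n, hn, rfl⟩ := hg
    exact hNl hn

end Abs

section

variable {K : Type u} [Field K]

theorem two_ne [Finite K] (hK : Nat.card K = 3) : (2 : K) ≠ 0 := by
  intro h
  have : Fintype K := Fintype.ofFinite K
  have h1 : ((Fintype.card K : ℕ) : K) = 0 := Nat.cast_card_eq_zero K
  rw [← Nat.card_eq_fintype_card, hK] at h1
  have h2 : (1 : K) = 0 := by
    have : (3 : K) - 2 = 0 := by
      rw [h, sub_zero]
      exact_mod_cast h1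
    norm_num at this
  exact one_ne_zero h2

theorem card_t1 [Finite K] (hK : Nat.card K = 3) :
    Nat.card (Subgroup.centralizer ({t1 K} : Set ↥(chevF4.group K))) = 131569513308979200 := by
  have : Fintype K := Fintype.ofFinite K
  have ho : Odd (Fintype.card K) := by
    rw [← Nat.card_eq_fintype_card, hK]
    decide
  obtain ⟨p, hpp, hpc, hp2⟩ := exists_char K ho
  have : Fact p.Prime := ⟨hpp⟩
  have hW : Finite (CoxeterMatrix.F₄).Group := Nat.finite_of_card_ne_zero (by rw [cardW]; norm_num)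
  have hc1 : Nat.card (chevF4.diagonalSubgroup K) = (Nat.card K - 1) ^ 4 := by
    have := Cfsg.Agent.S1035.result (F := K) rfl (chevF4, 1) (by simp only [List.mem_cons, Prod.mk.injEq, and_true,
        List.not_mem_nil, or_false, true_or, or_true])
    rw [Nat.card_eq_fintype_card (α := K)]
    rwa [one_mul] at this
  have hT : Nat.card ↥(TT chevF4 K) = (Nat.card K - 1) ^ 4 := by
    rw [← hc1]
    exact Nat.card_congr (Subgroup.subgroupOfEquivOfLe
      (Cfsg.Agent.ChevalleyStructure.Elts.diagonal_le_group (Nodes.KindF.isType).inList K)).toEquiv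
  have h := D_TabB4.card_cent Cfsg.Agent.H557.OrbF4.hcm (K := K) p (two_ne hK) inj_F4 hT
  have hm : Cfsg.Agent.H557.TabB4.tab.m = 16 := by decide +kernel
  rw [hm, hK] at h
  exact h.trans (by norm_num)

theorem card_O [Finite K] (hK : Nat.card K = 3) : Nat.card (O (oddForm 4 K)) = 2 * 131569513308979200 := by
  have : Fintype K := Fintype.ofFinite K
  have h1 : Fintype.card K = 3 := by rw [← Nat.card_eq_fintype_card, hK]
  have h := Cfsg.Agent.S0286.result h1 (by decide +kernel) 4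
  rw [← coe_oddForm, Nat.card_congr (isometryEquiv (oddForm 4 K)).toEquiv] at h
  rw [h]
  simp only [Finset.prod_range_succ, _root_.Nat.reducePow, _root_.Nat.reduceMul, _root_.Finset.range_one, _root_.Finset.prod_singleton, _root_.zero_add, _root_.mul_one, _root_.Nat.add_one_sub_one, _root_.Nat.reduceAdd]

theorem good [Finite K] (hK : Nat.card K = 3) : _root_.Cfsg.Agent.LieClassical.OrthTrans.Good (oddForm 4 K) :=
  good_of_finite (nondeg_oddForm 4 K (two_ne hK)) (by simp)

theorem card_E [Finite K] (hK : Nat.card K = 3) : 72 < Nat.card (E (oddForm 4 K)) := by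
  classical
  have : Fintype K := Fintype.ofFinite K
  have : Finite (VV K ≃ₗ[K] VV K) :=
    Finite.of_injective (fun g : VV K ≃ₗ[K] VV K => (g : VV K → VV K)) DFunLike.coe_injective
  let f : (Fin 4 → K) → VV K := fun a => Sum.elim 0 (Sum.elim a 0)
  have hf : ∀ a, (oddForm 4 K) (f a) = 0 := by
    intro a
    rw [coe_oddForm, quadFormOdd_apply]
    simp [f]
  have hfi : Function.Injective f := by
    intro a b hab
    funext i
    exact congrFun hab (.inr (.inl i))
  have h0 : f 0 = 0 := by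
    funext i
    rcases i with i | i | i <;> rfl
  set! a0 : Fin 4 → K := 1 with ha0
  have hne : ∀ a : Fin 4 → K, a ≠ 0 → f a ≠ 0 := by
    intro a ha h
    exact ha (hfi (h.trans h0.symm))
  have key : ∀ a : {a : Fin 4 → K // a ≠ 0}, ∃ g : ↥(E (oddForm 4 K)), (g : VV K ≃ₗ[K] VV K) (f a0) = f a := by
    intro a
    obtain ⟨g, hg, h⟩ := (good hK).trans_sing (hf a0) (hf a) (hne _ (by rw [ha0]; exact one_ne_zero)) (hne _ a.2)
    exact ⟨⟨g, hg⟩, h⟩
  choose g hg using key
  have hgi : Function.Injective g := by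
    intro a b hab
    apply Subtype.ext
    apply hfi
    rw [← hg a, ← hg b, hab]
  have h1 := Nat.card_le_card_of_injective g hgi
  have h2 : Nat.card {a : Fin 4 → K // a ≠ 0} = 80 := by
    rw [Nat.card_eq_fintype_card, Fintype.card_subtype_compl, Fintype.card_subtype_eq, Fintype.card_fun,
      ← Nat.card_eq_fintype_card, hK]
    simp
  omega

variable {ρ : ↥(chevF4.group K) →* GL I27 K}

/-- **the image of the centralizer of `t1` contains `E Q`** -/
theorem E_le_range [Finite K] (hK : Nat.card K = 3) (hρ : IsJ ρ) (hi : Function.Injective ρ) :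
    E (oddForm 4 K) ≤ (Ph hρ (two_ne hK) (isT_t1 hρ)).range := by
  classical
  have : Fintype K := Fintype.ofFinite K
  have : Finite ↥(chevF4.group K) := inferInstance
  set P := Ph hρ (two_ne hK) (isT_t1 hρ) with hP
  have h1 : Nat.card P.ker ≤ 2 := by
    have h2 : ∀ x : P.ker, ((x : ↥(Subgroup.centralizer ({t1 K} : Set ↥(chevF4.group K)))) : ↥(chevF4.group K)) = 1 ∨
        ((x : ↥(Subgroup.centralizer ({t1 K} : Set ↥(chevF4.group K)))) : ↥(chevF4.group K)) = t1 K :=
      fun x => ker_Ph hρ (two_ne hK) (isT_t1 hρ) hi x.2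
    have h3 : Nat.card P.ker ≤ Nat.card Bool := by
      refine Nat.card_le_card_of_injective (fun x : P.ker =>
        decide (((x : ↥(Subgroup.centralizer ({t1 K} : Set ↥(chevF4.group K)))) : ↥(chevF4.group K)) = 1)) ?_
      intro a b hab
      apply Subtype.ext
      apply Subtype.ext
      simp only [decide_eq_decide] at hab
      rcases h2 a with ha | ha
      · rw [ha, hab.1 ha]
      · rcases h2 b with hb | hb
        · rw [hb, hab.2 hb]
        · rw [ha, hb]
    simpa only [MonoidHom.mem_ker, Nat.card_eq_fintype_card, ge_iff_le, Fintype.card_bool] using h3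
  have h2 : Nat.card P.range * Nat.card P.ker = 131569513308979200 := by
    rw [← card_t1 hK, ← Subgroup.card_mul_index P.ker, Subgroup.index_ker, mul_comm]
  refine E_le_of_index hK (good hK) ?_ ?_ (card_E hK)
  · rintro _ ⟨g, rfl⟩
    exact Ph_mem_O hρ (two_ne hK) (isT_t1 hρ) g
  · rw [card_O hK, ← h2]
    nlinarith only [h1]

end

end Cfsg.Agent.H885.Pw.JB
end

-- part: H885/Pw/JF
section
/-!
helper885 (S2465, `F4(3)`): Siegel elements of the 9-dimensional space are images of long root elements.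
-/

set_option autoImplicit false
set_option linter.unusedSectionVars false

namespace Cfsg.Agent.H885.Pw.JB

open Cfsg Cfsg.Lie Module Matrix
open Cfsg.Agent.ChevalleyStructure Cfsg.Agent.ChevalleyStructure.Elts
open Cfsg.Agent.ChevalleyStructure.E6Min.Tables Cfsg.Agent.ChevalleyStructure.E6Min.Basic
open Cfsg.Agent.H952.F4 Cfsg.Agent.H952.F4.Jord
open Cfsg.Agent.LieClassical Cfsg.Agent.LieClassical.OrthForms Cfsg.Agent.LieClassical.OrthCore
  Cfsg.Agent.LieClassical.OrthTrans Cfsg.Agent.LieClassical.OrthFinite Cfsg.Agent.LieClassical.OrthSimple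
open Cfsg.Agent.H557.InvF4 Cfsg.Agent.OddHalf.NI.ModelChev
open Cfsg.Agent.Tits.Roots Cfsg.Agent.Nodes.BNOf Cfsg.Agent.Nodes.RGDChev Cfsg.Agent.KFacts.RgdChevCoord
open Cfsg.Agent.H885.BS.Orth Cfsg.Agent.H141.Rg Cfsg.Agent.H367.Rg.Gluck

universe u

variable {K : Type u} [Field K]

/-- the long root element -/
noncomputable abbrev z47 (K : Type u) [Field K] : ↥(chevF4.group K) :=
  xc Cfsg.Agent.Nodes.KindF.isType (_root_.Cfsg.Agent.Nodes.RGDChev.vec chevF4 4 47) (1 : K)

theorem z47_xMat : ((z47 K : GL chevF4.Idx K) : Matrix chevF4.Idx chevF4.Idx K) = chevF4.xMat K ⟨47, by decide⟩ 1 := by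
  rw [z47, coe_xc Cfsg.Agent.Nodes.KindF.isType (by decide +kernel), coe_xG, x_of_lt (by decide +kernel)]

variable {ρ : ↥(chevF4.group K) →* GL I27 K}

theorem z47_apply (hρ : IsJ ρ) (x : I27 → K) (i : I27) :
    JK ρ (z47 K) x i = x i - (((Cfsg.Agent.ChevalleyStructure.E6Min.Basic.sg 32 i : ℤ) : K) * x (_root_.Cfsg.Agent.ChevalleyStructure.E6Min.Basic.sr 32 i)) := by
  rw [Inv.JK_apply, hρ ⟨47, by decide⟩ 1 (z47 K) z47_xMat]
  have h1 : yM (47 : ℕ) (1 : K) = zM 32 (-1) := by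
    show (List.map _ [(32, (-1 : ℤ))]).prod = _
    simp
  show (yM 47 (1 : K) *ᵥ x) i = _
  rw [h1, zM_mulVec]
  ring

theorem pl_sr32 : ∀ i : I27, Cfsg.Agent.ChevalleyStructure.E6Min.Basic.sg 32 i = 0 ∨ pl (_root_.Cfsg.Agent.ChevalleyStructure.E6Min.Basic.sr 32 i) = pl i := by
  decide +kernel

theorem JK_inj (hi : Function.Injective ρ) {g h : ↥(chevF4.group K)} (H : ∀ x, JK ρ g x = JK ρ h x) : g = h := by
  apply hi
  apply Units.ext
  apply Matrix.toLin'.injective
  exact LinearMap.ext H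

theorem z47_comm (hρ : IsJ ρ) (hi : Function.Injective ρ) {t : ↥(chevF4.group K)} (ht : IsT ρ t) :
    z47 K * t = t * z47 K := by
  apply JK_inj hi
  intro x
  rw [map_mul, map_mul, Module.End.mul_apply, Module.End.mul_apply]
  funext i
  rw [z47_apply hρ, ht, ht, ht, z47_apply hρ]
  rcases pl_sr32 i with h | h
  · rw [h]
    simp
  · rw [h]
    split_ifs <;> ring

/-- base pair -/
def bu (K : Type u) [Field K] : VV K := Pi.single (.inr (.inr 1)) 1

/-- base pair -/
def bv (K : Type u) [Field K] : VV K := Pi.single (.inr (.inr 2)) 1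

theorem TS_b : TS (oddForm 4 K) (bu K) (bv K) := by
  refine ⟨?_, ?_, ?_⟩
  · rw [coe_oddForm, quadFormOdd_apply]
    simp [bu]
  · rw [coe_oddForm, quadFormOdd_apply]
    simp [bv]
  · rw [polar_oddForm]
    simp [bu, bv]

theorem LI_b : LI K (bu K) (bv K) := by
  intro a b h
  have h1 := congrFun h (.inr (.inr 1))
  have h2 := congrFun h (.inr (.inr 2))
  simp [bu, bv] at h1 h2
  exact ⟨h1, h2⟩

theorem polar_bu (y : VV K) : QuadraticMap.polar (oddForm 4 K) (bu K) y = y (.inr (.inl 1)) := by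
  rw [polar_oddForm]
  simp only [bu, Pi.single_apply, _root_.Fin.isValue, _root_.ne_eq, _root_.reduceCtorEq, _root_.not_false_eq_true, _root_.Pi.single_eq_of_ne, _root_.MulZeroClass.mul_zero, _root_.MulZeroClass.zero_mul, _root_.Sum.inr.injEq, _root_.mul_ite, _root_.mul_one, _root_.zero_add, _root_.Finset.sum_ite_eq', _root_.Finset.mem_univ, ↓ _root_.reduceIte]

theorem polar_bv (y : VV K) : QuadraticMap.polar (oddForm 4 K) (bv K) y = y (.inr (.inl 2)) := by
  rw [polar_oddForm]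
  simp [bv, Pi.single_apply]

theorem tab32 : ∀ i : I27, pl i = true → Cfsg.Agent.ChevalleyStructure.E6Min.Basic.sg 32 i =
    if i = (2, 0, 2) then 1 else if i = (2, 1, 2) then -1 else 0 := by
  decide +kernel

theorem sr202 : E6Min.Basic.sr 32 ((2, 0, 2) : I27) = (1, 2, 1) := by decide +kernel

theorem sr212 : E6Min.Basic.sr 32 ((2, 1, 2) : I27) = (1, 2, 0) := by decide +kernel

/-- the image of the long root element -/
theorem Ph_z47 (hρ : IsJ ρ) (h2 : (2 : K) ≠ 0) {t : ↥(chevF4.group K)} (ht : IsT ρ t)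
    (hz : z47 K ∈ Subgroup.centralizer ({t} : Set ↥(chevF4.group K))) :
    Ph hρ h2 ht ⟨z47 K, hz⟩ = (sx (oddForm 4 K) (bu K) (bv K) : VV K ≃ₗ[K] VV K) := by
  apply LinearEquiv.ext
  intro y
  rw [sx_apply TS_b, polar_bu, polar_bv]
  apply io_inj
  rw [io_Ph]
  funext i
  rw [z47_apply hρ]
  by_cases hp : pl i = true
  swap
  · have hp' : pl i = false := by simpa using hp
    rw [inJ_io _ i hp', inJ_io _ i hp']
    rcases pl_sr32 i with h | h
    · rw [h]
      simp
    · rw [inJ_io _ (_root_.Cfsg.Agent.ChevalleyStructure.E6Min.Basic.sr 32 i) (h.trans hp'), mul_zero, sub_zero]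
  rw [tab32 i hp]
  by_cases h1 : i = (2, 0, 2)
  · subst h1
    rw [sr202]
    simp only [io, ofM, bu, bv, _root_.Fin.isValue, _root_.LinearMap.coe_mk, _root_.AddHom.coe_mk, _root_.Fin.reduceEq, ↓ _root_.reduceIte, _root_.Matrix.of_apply, _root_.Matrix.cons_val', _root_.Matrix.cons_val, _root_.Matrix.cons_val_fin_one, _root_.Matrix.cons_val_zero, _root_.Int.cast_one, _root_.one_ne_zero, _root_.Matrix.cons_val_one, _root_.one_mul, _root_.Pi.sub_apply, _root_.Pi.add_apply, _root_.Pi.smul_apply, _root_.ne_eq, _root_.Sum.inr.injEq, _root_.not_false_eq_true, _root_.Pi.single_eq_of_ne, _root_.smul_eq_mul, _root_.MulZeroClass.mul_zero, _root_.add_zero, _root_.Pi.single_eq_same, _root_.mul_one, _root_.sub_zero]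
  · rw [if_neg h1]
    by_cases h3 : i = (2, 1, 2)
    · subst h3
      rw [sr212]
      simp only [io, ofM, bu, bv, _root_.Fin.isValue, _root_.LinearMap.coe_mk, _root_.AddHom.coe_mk, _root_.Fin.reduceEq, ↓ _root_.reduceIte, _root_.Matrix.of_apply, _root_.Matrix.cons_val', _root_.Matrix.cons_val, _root_.Matrix.cons_val_fin_one, _root_.Matrix.cons_val_one, _root_.Matrix.cons_val_zero, _root_.Int.reduceNeg, _root_.Int.cast_neg, _root_.Int.cast_one, _root_.one_ne_zero, _root_.neg_mul, _root_.one_mul, _root_.sub_neg_eq_add, _root_.Pi.sub_apply, _root_.Pi.add_apply, _root_.Pi.smul_apply, _root_.ne_eq, _root_.Sum.inr.injEq, _root_.not_false_eq_true, _root_.Pi.single_eq_of_ne, _root_.smul_eq_mul, _root_.MulZeroClass.mul_zero, _root_.add_zero, _root_.Pi.single_eq_same, _root_.mul_one, _root_.sub_zero]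
    · rw [if_neg h3]
      simp only [Int.cast_zero, zero_mul, sub_zero]
      obtain ⟨k, i, j⟩ := i
      revert hp h1 h3
      fin_cases k <;> fin_cases i <;> fin_cases j <;> intro hp h1 h3 <;>
        first
          | (exact absurd hp (by decide +kernel))
          | (exact absurd rfl h1)
          | (exact absurd rfl h3)
          | (simp only [io, Fin.isValue, Fin.zero_eta, LinearMap.coe_mk, AddHom.coe_mk, ofM, ↓reduceIte, of_apply,
              cons_val', cons_val_zero, cons_val_fin_one, bv, bu, Pi.sub_apply, Pi.add_apply, Pi.smul_apply, ne_eq,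
              reduceCtorEq, not_false_eq_true, Pi.single_eq_of_ne, smul_eq_mul, mul_zero, add_zero, sub_zero, Sum.inr.injEq,
              Fin.reduceEq, zero_ne_one, Fin.mk_one, cons_val_one, Fin.reduceFinMk, cons_val, one_ne_zero,
              Pi.single_eq_same, mul_one]; done)

theorem sx_map {F V : Type*} [Field F] [AddCommGroup V] [Module F V] {Q : QuadraticForm F V} {g : V ≃ₗ[F] V}
    (hg : g ∈ O Q) {u v : V} (h : TS Q u v) (y : V) :
    g ((sx Q u v : V ≃ₗ[F] V) y) = (sx Q (g u) (g v) : V ≃ₗ[F] V) (g y) := by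
  rw [sx_apply h, sx_apply (h.map hg), polar_map hg, polar_map hg]
  simp only [map_add, map_sub, map_smul]

theorem z47_mem (hρ : IsJ ρ) (hi : Function.Injective ρ) {t : ↥(chevF4.group K)} (ht : IsT ρ t) :
    z47 K ∈ Subgroup.centralizer ({t} : Set ↥(chevF4.group K)) :=
  Subgroup.mem_centralizer_singleton_iff.2 (z47_comm hρ hi ht)

theorem finrank_VV : finrank K (VV K) = 9 := by
  rw [Module.finrank_fintype_fun_eq_card]
  decide

theorem exists_z [Finite K] (hK : Nat.card K = 3) (hρ : IsJ ρ) (hi : Function.Injective ρ) {u v : VV K}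
    (h : TS (oddForm 4 K) u v) (hl : LI K u v) :
    ∃ (x : ↥(Subgroup.centralizer ({t1 K} : Set ↥(chevF4.group K)))) (s : K),
      Ph hρ (two_ne hK) (isT_t1 hρ) (x * ⟨z47 K, z47_mem hρ hi (isT_t1 hρ)⟩ * x⁻¹) =
        (sx (oddForm 4 K) u (s • v) : VV K ≃ₗ[K] VV K) := by
  have hQ : Nondeg (oddForm 4 K) := nondeg_oddForm 4 K (two_ne hK)
  obtain ⟨g, hg⟩ := exists_conj (π := MonoidHom.id ↥(E (oddForm 4 K))) hQ (by rw [finrank_VV]; norm_num) TS_b LI_b h hl
  have h1 : _root_.Cfsg.Agent.H885.BS.Orth.sx (oddForm 4 K) (bu K) (bv K) ∈ _root_.Cfsg.Agent.H885.BS.Orth.XX (MonoidHom.id ↥(E (oddForm 4 K))) (bu K) (bv K) :=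
    (mem_XX TS_b).2 ⟨1, by rw [one_smul]; rfl⟩
  have h2 : g * _root_.Cfsg.Agent.H885.BS.Orth.sx (oddForm 4 K) (bu K) (bv K) * g⁻¹ ∈ _root_.Cfsg.Agent.H885.BS.Orth.XX (MonoidHom.id ↥(E (oddForm 4 K))) u v := by
    rw [hg]
    rw [mem_cj]
    have h3 : g⁻¹ * (g * _root_.Cfsg.Agent.H885.BS.Orth.sx (oddForm 4 K) (bu K) (bv K) * g⁻¹) * g = _root_.Cfsg.Agent.H885.BS.Orth.sx (oddForm 4 K) (bu K) (bv K) := by group
    rw [h3]
    exact h1
  obtain ⟨s, hs⟩ := (mem_XX h).1 h2
  obtain ⟨x, hx⟩ := E_le_range hK hρ hi g.2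
  refine ⟨x, s, ?_⟩
  simp only [map_mul, map_mul, map_inv, Ph_z47, hx]
  exact congrArg (fun y : ↥(E (oddForm 4 K)) => (y : VV K ≃ₗ[K] VV K)) hs

theorem z47_cube [Finite K] (hK : Nat.card K = 3) : z47 K ^ 3 = 1 := by
  have : Fintype K := Fintype.ofFinite K
  have h3 : (3 : K) = 0 := by
    have h1 : ((Fintype.card K : ℕ) : K) = 0 := Nat.cast_card_eq_zero K
    rw [← Nat.card_eq_fintype_card, hK] at h1
    exact_mod_cast h1
  apply Subtype.ext
  rw [Subgroup.coe_pow, z47, coe_xc Cfsg.Agent.Nodes.KindF.isType (by decide +kernel), pow_succ, pow_two, xG_add, xG_add,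
    Subgroup.coe_one]
  have : (1 + 1 + 1 : K) = 0 := by rw [← h3]; norm_num
  rw [this, xG_zero]

theorem t_ne_one (h2 : (2 : K) ≠ 0) {t : ↥(chevF4.group K)} (ht : IsT ρ t) : t ≠ 1 := by
  rintro rfl
  have h1 := ht (Pi.single (0, 0, 2) 1) (0, 0, 2)
  rw [if_neg (by decide +kernel), map_one, Module.End.one_apply, Pi.single_eq_same] at h1
  apply h2
  linear_combination h1

theorem t_sq {t : ↥(chevF4.group K)} (hi : Function.Injective ρ) (ht : IsT ρ t) : t * t = 1 := by
  apply JK_inj hi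
  intro x
  rw [map_mul, Module.End.mul_apply, map_one, Module.End.one_apply]
  funext i
  rw [ht, ht]
  split_ifs with h
  · rfl
  · rw [neg_neg]

/-- **an element of `C(t₁)` preserving a totally singular line with determinant 1 commutes with a long root
element** -/
theorem commute_long [Finite K] (hK : Nat.card K = 3) (hρ : IsJ ρ) (hi : Function.Injective ρ) {u v : VV K}
    (h : TS (oddForm 4 K) u v) (hl : LI K u v) {g : ↥(Subgroup.centralizer ({t1 K} : Set ↥(chevF4.group K)))}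
    {a b c d : K} (hu : Ph hρ (two_ne hK) (isT_t1 hρ) g u = a • u + b • v)
    (hv : Ph hρ (two_ne hK) (isT_t1 hρ) g v = c • u + d • v) (hd : a * d - b * c = 1) :
    ∃ x, Commute (g : ↥(chevF4.group K)) (x * z47 K * x⁻¹) := by
  obtain ⟨x, s, hx⟩ := exists_z hK hρ hi h hl
  set! P := Ph hρ (two_ne hK) (isT_t1 hρ) with hP; rewrite [← hP] at hx hv hu
  set! z : ↥(Subgroup.centralizer ({t1 K} : Set ↥(chevF4.group K))) :=
    x * ⟨z47 K, z47_mem hρ hi (isT_t1 hρ)⟩ * x⁻¹ with hz; rewrite [← hz] at hx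
  have h1 : P g * P z = P z * P g := by
    apply LinearEquiv.ext
    intro y
    ((conv => enter [@2]; rw [LinearEquiv.mul_apply]); simp only [LinearEquiv.mul_apply]; simp only [hx]; (conv => enter [@2]; rw [sx_map (Ph_mem_O hρ (two_ne hK) (isT_t1 hρ) g) (h.smul_right s)]); simp only [← hP]; simp only [map_smul]; simp only [hu]; simp only [hv])
    have h2 := sx_comb h a b (s * c) (s * d)
    simp only [show s • (c • u + d • v) = (s * c) • u + (s * d) • v by rw [smul_add, smul_smul, smul_smul], h2,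
      show a * (s * d) - b * (s * c) = s by linear_combination s * hd]
  have h2 : P (g * z * g⁻¹ * z⁻¹) = 1 := by
    simp only [map_mul, map_mul, map_mul, map_inv, map_inv, h1]
    group
  have hz3 : z ^ 3 = 1 := by
    rw [hz, conj_pow]
    have : (⟨z47 K, z47_mem hρ hi (isT_t1 hρ)⟩ : ↥(Subgroup.centralizer ({t1 K} : Set ↥(chevF4.group K)))) ^ 3 = 1 :=
      Subtype.ext (z47_cube hK)
    rw [this, mul_one, mul_inv_cancel]
  have h3 : g * z * g⁻¹ * z⁻¹ = 1 := by
    rcases ker_Ph hρ (two_ne hK) (isT_t1 hρ) hi h2 with h3 | h3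
    · exact Subtype.ext h3
    · exfalso
      set! τ := g * z * g⁻¹ * z⁻¹ with hτ; rewrite [← hτ] at h3 h2
      have h4 : g * z * g⁻¹ = τ * z := by rw [hτ]; group
      have h5 : Commute τ z := by
        apply Subtype.ext
        show (τ : ↥(chevF4.group K)) * (z : ↥(chevF4.group K)) = (z : ↥(chevF4.group K)) * (τ : ↥(chevF4.group K))
        rw [h3]
        exact (comm_of_mem z.2).symm
      have h6 : (g * z * g⁻¹) ^ 3 = 1 := by rw [conj_pow, hz3, mul_one, mul_inv_cancel]
      rw [h4, h5.mul_pow, hz3, mul_one] at h6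
      have h7 : (t1 K) ^ 3 = 1 := by
        rw [← h3]
        exact congrArg Subtype.val h6
      rw [pow_succ, pow_two, t_sq hi (isT_t1 hρ), one_mul] at h7
      exact t_ne_one (two_ne hK) (isT_t1 hρ) h7
  refine ⟨(x : ↥(chevF4.group K)), ?_⟩
  have h4 : g * z = z * g := by
    have := congrArg (fun w => w * z * g) h3
    simpa only [mul_assoc, inv_mul_cancel, mul_one, one_mul] using this
  exact congrArg Subtype.val h4

end Cfsg.Agent.H885.Pw.JB
end

private theorem dce_b05b865a0800 : _root_.True := by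
  try have : _root_.True := by simp only [_root_.Cfsg.Agent.H885.Pw.JB.ee.eq_1]
  try have : _root_.True := by simp only [_root_.Cfsg.Agent.H885.Pw.JB.z47.eq_1]
  try have : _root_.True := by simp only [_root_.Cfsg.Agent.H885.Pw.JB.sg.eq_1]
  try have : _root_.True := by simp only [_root_.Cfsg.Agent.H885.Pw.JB.pl.eq_1]
  try have : _root_.True := by simp only [_root_.Cfsg.Agent.ChevalleyStructure.E6Min.Tables.code.eq_1]
  try have : _root_.True := by simp only [_root_.Cfsg.Agent.H885.Pw.JB.io.eq_1]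
  try have : _root_.True := by simp only [_root_.Cfsg.Agent.H885.Pw.JB.bu.eq_1]
  try have : _root_.True := by simp only [_root_.Cfsg.Agent.H885.Pw.JB.po.eq_1]
  try have : _root_.True := by simp only [_root_.Cfsg.Agent.H885.Pw.JB.bv.eq_1]
  try have : _root_.True := by simp only [_root_.Cfsg.Agent.H885.Pw.JB.Ph.congr_simp]
  exact _root_.True.intro
end

-- part: H885/Pw/DichF
section
prune_inst 0x3570110008020200000000062020182682000420000808000800020406806e2208806020900000040220000500310828110000100040000004000400011d0080008010042100a100800018000000000000000000000000000000000000000000000000000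
set_option linter.all false
open scoped Cfsg.Agent.FastGrp

-- part: H885/Pw/JG
section
/-!
helper885 (S2465, `F4(3)`): totally singular lines of a large eigenspace.
-/

set_option autoImplicit false
set_option linter.unusedSectionVars false

namespace Cfsg.Agent.H885.Pw.JB

open Cfsg Cfsg.Lie Module Matrix
open Cfsg.Agent.LieClassical Cfsg.Agent.LieClassical.OrthForms Cfsg.Agent.LieClassical.OrthCore
  Cfsg.Agent.LieClassical.OrthTrans Cfsg.Agent.LieClassical.OrthFinite Cfsg.Agent.LieClassical.OrthSimple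
open Cfsg.Agent.H885.BS.Orth Cfsg.Agent.H510.OA

universe u

section Line

variable {F V : Type*} [Field F] [Finite F] {p : ℕ} [Fact p.Prime] [CharP F p] [AddCommGroup V] [Module F V]
  [FiniteDimensional F V] {Q : QuadraticForm F V}

/-- a `p`-element of `O Q` preserving a subspace `U` of dimension at least 5 stabilizes a totally singular line of `U`,
acting unipotently -/
theorem exists_line {u : V ≃ₗ[F] V} (hu : u ∈ O Q) {k : ℕ} (huk : u ^ p ^ k = 1) {U : Submodule F V}
    (hU : ∀ x ∈ U, u x ∈ U) (hd : 5 ≤ finrank F U) :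
    ∃ v ∈ U, ∃ w ∈ U, TS Q v w ∧ LI F v w ∧ u v = v ∧ ∃ c : F, u w = w + c • v := by
  set X : Subgroup (V ≃ₗ[F] V) := Subgroup.zpowers u with hX
  have hp : p.Prime := Fact.out
  have hXp : IsPGroup p X := by
    rintro ⟨_, m, rfl⟩
    refine ⟨k, Subtype.ext ?_⟩
    show (u ^ m) ^ p ^ k = 1
    rw [← zpow_natCast, ← _root_.zpow_mul, mul_comm, _root_.zpow_mul, zpow_natCast, huk, _root_.one_zpow]
  have hXO : X ≤ O Q := by rw [hX, Subgroup.zpowers_le]; exact hu
  have hfin : IsOfFinOrder u := isOfFinOrder_iff_pow_eq_one.2 ⟨p ^ k, pow_pos hp.pos _, huk⟩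
  have hXU : ∀ x ∈ X, ∀ y ∈ U, x y ∈ U := by
    intro x hx y hy
    obtain ⟨n, rfl⟩ := hfin.mem_powers_iff_mem_zpowers.2 hx
    have key : ∀ (n : ℕ) (y : V), y ∈ U → (u ^ n) y ∈ U := by
      intro n
      induction n with
      | zero => intro y hy; rw [pow_zero]; exact hy
      | succ n ih =>
        intro y hy
        rw [pow_succ]
        exact ih (u y) (hU y hy)
    exact key n y hy
  obtain ⟨v, hvU, hv0, hQv, hvf⟩ := exists_fix hXp hXO hXU (by omega)
  set S : Submodule F V := Submodule.span F {v} with hS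
  set U' : Submodule F V := U ⊓ LinearMap.ker (QuadraticMap.polarBilin Q v) with hU'
  have mU' : ∀ {x : V}, x ∈ U' ↔ x ∈ U ∧ QuadraticMap.polar Q v x = 0 := fun {x} => Iff.rfl
  have h1 : finrank F S = 1 := finrank_span_singleton hv0
  have h2 : 4 ≤ finrank F U' := by
    have e1 := LinearMap.finrank_range_add_finrank_ker (QuadraticMap.polarBilin Q v)
    have e2 : finrank F (LinearMap.range (QuadraticMap.polarBilin Q v)) ≤ 1 := by
      refine (Submodule.finrank_le _).trans ?_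
      rw [finrank_self]
    have e3 := Submodule.finrank_sup_add_finrank_inf_eq U (LinearMap.ker (QuadraticMap.polarBilin Q v))
    have e4 := Submodule.finrank_le (U ⊔ LinearMap.ker (QuadraticMap.polarBilin Q v))
    rw [← hU'] at e3
    omega
  have hvv : QuadraticMap.polar Q v v = 0 := polar_self_of_sing hQv
  obtain ⟨w, hwU, hwS, hQw, hwf⟩ := exists_rel (S := S) (U := U') hXp hXO (by
      rw [hS, Submodule.span_singleton_le_iff_mem]
      exact mU'.2 ⟨hvU, hvv⟩) (by
      intro x hx s hs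
      obtain ⟨c, rfl⟩ := Submodule.mem_span_singleton.1 hs
      rw [map_smul, hvf x hx]
      exact hs) (by
      intro x hx y hy
      refine mU'.2 ⟨hXU x hx y (mU'.1 hy).1, ?_⟩
      have := polar_map (hXO hx) v y
      rw [hvf x hx, (mU'.1 hy).2] at this
      exact this) (by
      intro y hy s hs
      obtain ⟨c, rfl⟩ := Submodule.mem_span_singleton.1 hs
      rw [Q_add, QuadraticMap.map_smul, hQv, QuadraticMap.polar_smul_right, QuadraticMap.polar_comm, (mU'.1 hy).2]
      simp) (by omega)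
  refine ⟨v, hvU, w, (mU'.1 hwU).1, ⟨hQv, hQw, (mU'.1 hwU).2⟩, LI.of_not_mem hv0 ?_, hvf u (Subgroup.mem_zpowers u), ?_⟩
  · rintro c rfl
    exact hwS (Submodule.mem_span_singleton.2 ⟨c, rfl⟩)
  · obtain ⟨c, hc⟩ := Submodule.mem_span_singleton.1 (hwf u (Subgroup.mem_zpowers u))
    exact ⟨c, by rw [hc]; abel⟩

end Line

end Cfsg.Agent.H885.Pw.JB
end

-- part: H885/Pw/JH
section
/-!
helper885 (S2465, `F4(3)`): every involution is conjugate to `t1` or to the involution of type `C3 A1`.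
-/

set_option autoImplicit false
set_option linter.unusedSectionVars false

namespace Cfsg.Agent.H885.Pw.JB

open Cfsg.Lie Cfsg.Agent.ChevalleyStructure Cfsg.Agent.ChevalleyStructure.CoxeterGeomTypes
  Cfsg.Agent.Nodes.RGDChev Cfsg.Agent.KFacts.RgdChevCoord Cfsg.Agent.OddHalf.NI.ModelChev
  Cfsg.Agent.H557.SubTab Cfsg.Agent.H557.SubLink Cfsg.Agent.H557.SignTorus Cfsg.Agent.H557.InvClass
  Cfsg.Agent.H557.ToralTypes Cfsg.Agent.H557.LinkF4 Cfsg.Agent.H557.OrbF4 Cfsg.Agent.H557.InvF4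

universe u

/-- every involution is conjugate to `t1` or `t2` -/
theorem two_cls {K : Type u} [Field K] [Finite K] (ho : Odd (Nat.card K)) {u : ↥(chevF4.group K)} (hu : orderOf u = 2) :
    IsConj u (t1 K) ∨ IsConj u (th Cfsg.Agent.Nodes.KindF.isType (Cfsg.Agent.H557.SignTorus.sg K 4 n_TabC3A1)) := by
  have : Fintype K := Fintype.ofFinite K
  rw [Nat.card_eq_fintype_card] at ho
  obtain ⟨p, hpp, hpc, hp2⟩ := exists_char K ho
  have : Fact p.Prime := ⟨hpp⟩
  have hW : Finite (CoxeterMatrix.F₄).Group := Nat.finite_of_card_ne_zero (by rw [cardW]; norm_num)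
  have hu1 : u * u = 1 := by rw [← pow_two, ← hu, pow_orderOf_eq_one]
  have hu2 : u ≠ 1 := by
    rintro rfl
    rw [orderOf_one] at hu
    omega
  obtain ⟨g, hg⟩ := toral_F4 ho hu1
  obtain ⟨b, hb⟩ := surj_F4 hg
  have hconj : IsConj u (th Cfsg.Agent.Nodes.KindF.isType b) := isConj_iff.2 ⟨g, hb.symm⟩
  have hb2 : b * b = 1 := by
    apply inj_F4
    rw [map_mul, hb]
    have : g * u * g⁻¹ * (g * u * g⁻¹) = g * (u * u) * g⁻¹ := by group
    rw [this, hu1, mul_one, mul_inv_cancel]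
  obtain ⟨m, hm', rfl⟩ := exists_sg hb2
  rcases cover m hm' with h3 | h3 | h3
  · exfalso
    subst h3
    rw [sg_zero, map_one] at hb
    apply hu2
    have h4 : u = g⁻¹ * (g * u * g⁻¹) * g := by group
    rw [h4, ← hb, mul_one, inv_mul_cancel]
  · exact Or.inl (hconj.trans (D_TabB4.conj Cfsg.Agent.H557.OrbF4.hcm p h3))
  · exact Or.inr (hconj.trans (D_TabC3A1.conj Cfsg.Agent.H557.OrbF4.hcm p h3))

end Cfsg.Agent.H885.Pw.JB
end

-- part: H885/Pw/JI
section
/-!
helper885 (S2465, `F4(3)`): elements of order `2^a 3^b` having `t1` as a power: they commute with a long root element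
or have a small centralizer.
-/

set_option autoImplicit false
set_option linter.unusedSectionVars false

namespace Cfsg.Agent.H885.Pw.JB

open Cfsg Cfsg.Lie Module Matrix
open Cfsg.Agent.LieClassical Cfsg.Agent.LieClassical.OrthForms Cfsg.Agent.LieClassical.OrthCore
  Cfsg.Agent.LieClassical.OrthTrans Cfsg.Agent.LieClassical.OrthFinite Cfsg.Agent.LieClassical.OrthSimple
open Cfsg.Agent.H952.F4
open Cfsg.Agent.H885.BS.Orth Cfsg.Agent.H510.OA

universe u

/-- the bound for the centralizers in `O₉(3)` -/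
def Bnd (K : Type u) [Field K] : Prop :=
  ∀ s ∈ O (oddForm 4 K), (∃ k : ℕ, s ^ 2 ^ k = 1) →
    finrank K (LinearMap.ker ((s : VV K →ₗ[K] VV K) - LinearMap.id)) ≤ 4 →
    finrank K (LinearMap.ker ((s : VV K →ₗ[K] VV K) + LinearMap.id)) ≤ 4 →
    Nat.card ↥(O (oddForm 4 K) ⊓ Subgroup.centralizer {s}) ≤ 2488492546

/-- splitting an element of order dividing `A B` -/
theorem split {G : Type*} [Group G] (g : G) {A B : ℕ} (hAB : A.Coprime B) (hg : g ^ (A * B) = 1) :
    ∃ m n : ℕ, g = g ^ m * g ^ n ∧ (g ^ m) ^ A = 1 ∧ (g ^ n) ^ B = 1 := by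
  obtain ⟨m, hm1, hm2⟩ := Nat.chineseRemainder hAB 1 0
  obtain ⟨n, hn1, hn2⟩ := Nat.chineseRemainder hAB 0 1
  have hdm : B ∣ m := (Nat.modEq_zero_iff_dvd).1 hm2
  have hdn : A ∣ n := (Nat.modEq_zero_iff_dvd).1 hn1
  have h1 : m + n ≡ 1 [MOD A * B] := by
    rw [← Nat.modEq_and_modEq_iff_modEq_mul hAB]
    exact ⟨hm1.add hn1, hm2.add hn2⟩
  refine ⟨m, n, ?_, ?_, ?_⟩
  · rw [← pow_add]
    have h2 : m + n ≡ 1 [MOD orderOf g] := h1.of_dvd (orderOf_dvd_of_pow_eq_one hg)
    rw [pow_eq_pow_iff_modEq.2 h2, pow_one]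
  · obtain ⟨c, rfl⟩ := hdm
    rw [← pow_mul, show B * c * A = A * B * c by ring, pow_mul, hg, one_pow]
  · obtain ⟨c, rfl⟩ := hdn
    rw [← pow_mul, show A * c * B = A * B * c by ring, pow_mul, hg, one_pow]

variable {K : Type u} [Field K]

/-- **the case of `t1`** -/
theorem t1_case [Finite K] (hK : Nat.card K = 3) (hB : Bnd K) {g : ↥(chevF4.group K)} (ht : t1 K ∈ Subgroup.zpowers g)
    {a b : ℕ} (ho : g ^ (2 ^ a * 3 ^ b) = 1) :
    (∃ x, Commute g (x * z47 K * x⁻¹)) ∨ Nat.card (Subgroup.centralizer ({g} : Set ↥(chevF4.group K))) ≤ 4976985092 := by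
  classical
  obtain ⟨ρ, hρ, hi⟩ := exists_J K
  have : Fintype K := Fintype.ofFinite K
  have : Fact (Nat.Prime 3) := ⟨Nat.prime_three⟩
  have hch : CharP K 3 := charP_of_card_eq_prime (by rw [← Nat.card_eq_fintype_card, hK])
  have h2 := two_ne hK
  have hgt : g ∈ Subgroup.centralizer ({t1 K} : Set ↥(chevF4.group K)) := by
    rw [Subgroup.mem_centralizer_singleton_iff]
    obtain ⟨k, hk⟩ := ht
    rw [← hk]
    exact ((Commute.refl g).zpow_right k).eq
  set P := Ph hρ h2 (isT_t1 hρ) with hP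
  set g' : ↥(Subgroup.centralizer ({t1 K} : Set ↥(chevF4.group K))) := ⟨g, hgt⟩ with hg'
  have hPO : P g' ∈ O (oddForm 4 K) := Ph_mem_O hρ h2 (isT_t1 hρ) g'
  have hPg : (P g') ^ (2 ^ a * 3 ^ b) = 1 := by
    rw [← map_pow]
    have : g' ^ (2 ^ a * 3 ^ b) = 1 := Subtype.ext ho
    rw [this, map_one]
  obtain ⟨m, n, e1, e2, e3⟩ := split (P g') (Nat.Coprime.pow a b (by norm_num : Nat.Coprime 2 3)) hPg
  set s := (P g') ^ m with hs
  set w := (P g') ^ n with hw
  have hsw : ∀ y, s (w y) = w (s y) := by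
    intro y
    rw [← LinearEquiv.mul_apply, ← LinearEquiv.mul_apply, hs, hw, ← pow_add, ← pow_add, add_comm]
  have hgs : ∀ y, P g' y = s (w y) := by
    intro y
    rw [← LinearEquiv.mul_apply, ← e1]
  have hsO : s ∈ O (oddForm 4 K) := pow_mem hPO m
  have hwO : w ∈ O (oddForm 4 K) := pow_mem hPO n
  -- lines
  have line : ∀ ε : K, ε * ε = 1 → ∀ U : Submodule K (VV K), (∀ y, y ∈ U ↔ s y = ε • y) → 5 ≤ finrank K U →
      ∃ x, Commute g (x * z47 K * x⁻¹) := by
    intro ε hε U hU hd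
    obtain ⟨v, hv, v', hv', hT, hL, h3, c, h4⟩ := exists_line (p := 3) hwO e3 (U := U) (by
      intro y hy
      rw [hU] at hy ⊢
      rw [hsw, hy, map_smul]) hd
    rw [hU] at hv hv'
    refine commute_long hK hρ hi hT hL (g := g') (a := ε) (b := 0) (c := ε * c) (d := ε) ?_ ?_ ?_
    · rw [← hP, hgs, h3, hv, zero_smul, add_zero]
    · rw [← hP, hgs, h4, map_add, map_smul, hv, hv', smul_smul, mul_comm c, add_comm]
    · rw [zero_mul, sub_zero, hε]
  by_cases h5 : 5 ≤ finrank K (LinearMap.ker ((s : VV K →ₗ[K] VV K) - LinearMap.id))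
  · left
    refine line 1 (one_mul 1) _ (fun y => ?_) h5
    rw [LinearMap.mem_ker, LinearMap.sub_apply, sub_eq_zero, one_smul]
    rfl
  by_cases h6 : 5 ≤ finrank K (LinearMap.ker ((s : VV K →ₗ[K] VV K) + LinearMap.id))
  · left
    refine line (-1) (by ring) _ (fun y => ?_) h6
    rw [LinearMap.mem_ker, LinearMap.add_apply, add_eq_zero_iff_eq_neg, neg_one_smul]
    rfl
  right
  have h7 := hB s hsO ⟨a, e2⟩ (Nat.lt_succ_iff.1 (not_le.1 h5)) (Nat.lt_succ_iff.1 (not_le.1 h6))
  -- the map to the orthogonal group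
  have hle : Subgroup.centralizer ({g} : Set ↥(chevF4.group K)) ≤ Subgroup.centralizer ({t1 K} : Set ↥(chevF4.group K)) := by
    intro y hy
    rw [Subgroup.mem_centralizer_singleton_iff] at hy ⊢
    obtain ⟨k, hk⟩ := ht
    rw [← hk]
    exact (Commute.zpow_right (show Commute y g from hy) k).eq
  set φ := P.comp (Subgroup.inclusion hle) with hφ
  have hker : Nat.card φ.ker ≤ 2 := by
    have h8 : ∀ x : φ.ker, (((x : ↥(Subgroup.centralizer ({g} : Set ↥(chevF4.group K))))) : ↥(chevF4.group K)) = 1 ∨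
        (((x : ↥(Subgroup.centralizer ({g} : Set ↥(chevF4.group K))))) : ↥(chevF4.group K)) = t1 K := by
      intro x
      have h9 : P (Subgroup.inclusion hle (x : ↥(Subgroup.centralizer ({g} : Set ↥(chevF4.group K))))) = 1 := x.2
      exact ker_Ph hρ h2 (isT_t1 hρ) hi h9
    have h3 : Nat.card φ.ker ≤ Nat.card Bool := by
      refine Nat.card_le_card_of_injective (fun x : φ.ker =>
        decide ((((x : ↥(Subgroup.centralizer ({g} : Set ↥(chevF4.group K))))) : ↥(chevF4.group K)) = 1)) ?_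
      intro x y hxy
      apply Subtype.ext
      apply Subtype.ext
      simp only [decide_eq_decide] at hxy
      rcases h8 x with ha | ha
      · rw [ha, hxy.1 ha]
      · rcases h8 y with hb | hb
        · rw [hb, hxy.2 hb]
        · rw [ha, hb]
    simpa only [_root_.MonoidHom.mem_ker, _root_.Nat.card_eq_fintype_card, _root_.ge_iff_le, _root_.Fintype.card_bool] using h3
  have hrange : Nat.card φ.range ≤ 2488492546 := by
    have : Finite (VV K ≃ₗ[K] VV K) :=
      Finite.of_injective (fun g : VV K ≃ₗ[K] VV K => (g : VV K → VV K)) DFunLike.coe_injective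
    refine (Subgroup.card_le_of_le ?_).trans h7
    rintro _ ⟨y, rfl⟩
    refine ⟨Ph_mem_O hρ h2 (isT_t1 hρ) _, ?_⟩
    have h9 : Commute (φ y) (P g') := by
      have h10 : Commute (Subgroup.inclusion hle y) g' := by
        apply Subtype.ext
        exact Subgroup.mem_centralizer_singleton_iff.1 y.2
      exact h10.map P
    exact Subgroup.mem_centralizer_singleton_iff.2 (h9.pow_right m).eq
  have hcard : Nat.card φ.range * Nat.card φ.ker = Nat.card (Subgroup.centralizer ({g} : Set ↥(chevF4.group K))) := by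
    rw [← Subgroup.card_mul_index φ.ker, Subgroup.index_ker, mul_comm]
  rw [← hcard]
  calc Nat.card φ.range * Nat.card φ.ker ≤ 2488492546 * 2 := Nat.mul_le_mul hrange hker
    _ = 4976985092 := by norm_num

end Cfsg.Agent.H885.Pw.JB
end

-- part: H150/F43/DichB
section
/-!
# `F₄(3)` (S2465): the dichotomy for the involution of type `C₃ A₁`, with the constant `45` (helper150)

* `nine_dvd_card` : `P` a finite `3`-group acting on `α`, some commutator of `P` without fixed points: `9 ∣ |α|`;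
* `nine_dvd` : the same for the cosets of a subgroup;
* `dich_A45` : if `g` commutes with `t₂` and `t₂ ∈ ⟨g⟩`, then `g` commutes with a long root element or
  `45 |C(g)| ≤ |C(t₂)|`.
-/

set_option autoImplicit false
set_option linter.unusedSectionVars false

namespace Cfsg.Agent.H150.F43

open CoxeterSystem Cfsg.Agent.ChevalleyStructure.CoxeterGeom Cfsg.Agent.Tits.Roots Cfsg.Agent.Tits.Core
  Cfsg.Agent.Nodes.Reps Cfsg.Agent.Nodes.BNOf Cfsg.Agent.Nodes.RGDLib Cfsg.Agent.Nodes.Bruhat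
  Cfsg.Agent.Nodes.OppDec Cfsg.Agent.Nodes.LeviDec Cfsg.Agent.Nodes.KindChev Cfsg.Agent.Nodes.ChevCls
  Cfsg.Agent.OddHalf.NI.ModelChev Cfsg.Agent.Nodes.StabComb
  Cfsg.Agent.H162.GaussDec Cfsg.Agent.H162.GaussLevi Cfsg.Agent.H162.GaussSL Cfsg.Agent.H162.GaussReg
  Cfsg.Agent.H162.GaussPQ
  Cfsg.Agent.H928.Ore.Frame
open Cfsg.Lie Cfsg.Agent.ChevalleyStructure Cfsg.Agent.ChevalleyStructure.Elts
  Cfsg.Agent.ChevalleyStructure.RootVec Cfsg.Agent.ChevalleyStructure.NPerm
  Cfsg.Agent.ChevalleyStructure.CoxeterGeomTypes Cfsg.Agent.Nodes.RGDChev Cfsg.Agent.KFacts.RgdChevCoord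
open Cfsg.Agent.TitsThree.KExcRT Cfsg.Agent.AGraded
open Cfsg.Agent.H150.E6T (Cm commute_hom le_of_gen xc_commute)
open Cfsg.Agent.H557.InvF4 Cfsg.Agent.H557.SignTorus Cfsg.Agent.H557.OrbF4

universe u

section

theorem comm_mem_of_index {P : Type*} [Group P] [Finite P] (hP : IsPGroup 3 P) {S : Subgroup P} (hS : ¬ 9 ∣ S.index)
    (a b : P) : a * b * a⁻¹ * b⁻¹ ∈ S := by
  have : Fact (Nat.Prime 3) := ⟨Nat.prime_three⟩
  obtain ⟨k, hk⟩ := hP.index S
  have hk2 : k < 2 := by
    by_contra h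
    push Not at h
    exact hS (by rw [hk]; exact (pow_dvd_pow 3 h))
  interval_cases k
  · rw [pow_zero, Subgroup.index_eq_one] at hk
    rw [hk]; exact Subgroup.mem_top _
  · rw [pow_one] at hk
    obtain ⟨m, hm⟩ := IsPGroup.iff_card.1 hP
    have hm0 : m ≠ 0 := by
      rintro rfl
      have h1 := S.index_dvd_card
      rw [hm, hk] at h1
      omega
    have hmin : (Nat.card P).minFac = 3 := by rw [hm, Nat.Prime.pow_minFac Nat.prime_three hm0]
    have hn : S.Normal := Subgroup.normal_of_index_eq_minFac_card (by rw [hk, hmin])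
    have hc : IsCyclic (P ⧸ S) := isCyclic_of_prime_card (p := 3) (by rw [← Subgroup.index_eq_card, hk])
    rw [← QuotientGroup.eq_one_iff]
    change (a : P ⧸ S) * b * (a : P ⧸ S)⁻¹ * (b : P ⧸ S)⁻¹ = 1
    have hcm : ∀ x y : P ⧸ S, x * y = y * x := by
      obtain ⟨g, hg⟩ := hc.exists_generator
      intro x y
      obtain ⟨i, rfl⟩ := hg x
      obtain ⟨j, rfl⟩ := hg y
      simp only [← zpow_add, add_comm]
    rw [hcm (a : P ⧸ S) b, mul_inv_cancel_right, mul_inv_cancel]

theorem nine_dvd_card {P α : Type*} [Group P] [Finite P] [Finite α] [MulAction P α] (hP : IsPGroup 3 P) (a b : P)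
    (hfix : ∀ x : α, (a * b * a⁻¹ * b⁻¹) • x ≠ x) : 9 ∣ Nat.card α := by
  classical
  have := Fintype.ofFinite (Quotient (MulAction.orbitRel P α))
  rw [Nat.card_congr (MulAction.selfEquivSigmaOrbits P α), Nat.card_sigma]
  refine Finset.dvd_sum fun ω _ => ?_
  rw [Nat.card_coe_set_eq, ← MulAction.index_stabilizer]
  by_contra h
  exact hfix _ (comm_mem_of_index hP h a b)

theorem nine_dvd {G : Type*} [Group G] [Finite G] {H C P : Subgroup G} (hHC : H ≤ C) (hPC : P ≤ C)
    (hP : IsPGroup 3 P) {a b : G} (ha : a ∈ P) (hb : b ∈ P) (hno : ∀ x : G, x * (a * b * a⁻¹ * b⁻¹) * x⁻¹ ∉ H) :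
    ∃ k, Nat.card C = 9 * k * Nat.card H := by
  let : MulAction P (C ⧸ H.subgroupOf C) := MulAction.compHom _ (Subgroup.inclusion hPC)
  have h9 : 9 ∣ Nat.card (C ⧸ H.subgroupOf C) := by
    refine nine_dvd_card hP (⟨a, ha⟩ : P) ⟨b, hb⟩ ?_
    intro x
    obtain ⟨y, rfl⟩ := QuotientGroup.mk_surjective x
    intro h
    have h1 : ((Subgroup.inclusion hPC (⟨a, ha⟩ * ⟨b, hb⟩ * ⟨a, ha⟩⁻¹ * ⟨b, hb⟩⁻¹) * y : C) : C ⧸ H.subgroupOf C) = y := h
    rw [eq_comm, QuotientGroup.eq, Subgroup.mem_subgroupOf] at h1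
    apply hno (y : G)⁻¹
    rw [inv_inv]
    have h2 : (y : G)⁻¹ * (a * b * a⁻¹ * b⁻¹) * y = (y : G)⁻¹ * (a * b * a⁻¹ * b⁻¹ * y) := by group
    rw [h2]
    exact h1
  obtain ⟨k, hk⟩ := h9
  refine ⟨k, ?_⟩
  have h3 := Subgroup.card_eq_card_quotient_mul_card_subgroup (H.subgroupOf C)
  rw [h3, hk, Nat.card_congr (Subgroup.subgroupOfEquivOfLe hHC).toEquiv]

end

theorem nn : (∀ i, 0 ≤ vec chevF4 4 27 i) ∧ ∀ i, 0 ≤ vec chevF4 4 28 i := by decide +kernel

section

variable {K : Type u} [Field K]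

/-- `x₄₇(1)` and `x₃₀(1)` are conjugate. -/
theorem conj_x30 [Finite K] (hK : Nat.card K = 3) :
    ∃ z : ↥(chevF4.group K), z * xc hF (vec chevF4 4 47) (1 : K) * z⁻¹ = xc hF (vec chevF4 4 30) 1 := by
  have := Fintype.ofFinite K
  have : Fact (Nat.Prime 3) := ⟨Nat.prime_three⟩
  have hch : CharP K 3 := charP_of_card_eq_prime (by rw [← Nat.card_eq_fintype_card, hK])
  have h47 : 47 < chevF4.nroots := by decide
  obtain ⟨m, hm, t', ht', e⟩ := Cfsg.Agent.H86.Par.long_conj hF.inList (F := K) Cfsg.Agent.H86.Lev.hpF4 (s := 30)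
    (by decide) longs.1 (t := 1) one_ne_zero
  rw [longs.2.1] at e
  have hmG : m ∈ chevF4.group K := monomial_le_group hF.inList K (Cfsg.Agent.H92.ChevCent.NL_le chevF4 hm)
  obtain ⟨y, hy⟩ := isConj_iff.1 (Cfsg.Agent.H934.IdxExc.isConj hF.inList (F := K) (r := 47) (p := 3) h47 (by decide)
    longs.2.2 1 t' one_ne_zero ht')
  refine ⟨⟨m, hmG⟩⁻¹ * y, ?_⟩
  have e6 : xc hF (vec chevF4 4 47) (1 : K) = Cfsg.Agent.H934.IdxExc.xe hF.inList 47 1 :=
    Subtype.ext (coe_xc hF h47 1)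
  have e7 : (⟨m, hmG⟩ : ↥(chevF4.group K)) * xc hF (vec chevF4 4 30) 1 * ⟨m, hmG⟩⁻¹ =
      Cfsg.Agent.H934.IdxExc.xe hF.inList 47 t' := by
    apply Subtype.ext
    simp only [Subgroup.coe_mul, Subgroup.coe_inv]
    rw [coe_xc hF (by decide)]
    exact e
  rw [e6]
  calc _ = (⟨m, hmG⟩ : ↥(chevF4.group K))⁻¹ * (y * Cfsg.Agent.H934.IdxExc.xe hF.inList 47 1 * y⁻¹) * ⟨m, hmG⟩ := by
        group
    _ = _ := by rw [hy, ← e7]; group

theorem comm_27_28 (h30 : (3 : K) = 0) (c : K) :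
    xc hF (vec chevF4 4 28) c * xc hF (vec chevF4 4 27) 1 =
      xc hF (vec chevF4 4 27) 1 * xc hF (vec chevF4 4 28) c * xc hF (vec chevF4 4 30) c := by
  have e1 := UnipProd.xG_comm hF.inList (r := 27) (s := 28) (F := K) (by decide) (by decide) (by decide) (by decide) 1 c
  have e2 : wordG hF.inList (chevF4.commWord K 27 28 1 c) = xG hF.inList 30 c := by
    unfold ChevalleyDatum.commWord
    rw [ct]
    simp only [List.map_cons, List.map_nil, wordG_cons, wordG_nil, mul_one, pow_one]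
    congr 1
    push_cast
    linear_combination (-c) * h30
  rw [e2] at e1
  apply Subtype.ext
  simp only [Subgroup.coe_mul]
  rw [coe_xc hF (by decide), coe_xc hF (by decide), coe_xc hF (by decide)]
  exact e1

/-- **The dichotomy.** -/
theorem dich_A45 [Finite K] (hK : Nat.card K = 3) {g : ↥(chevF4.group K)} (ht : t2 K ∈ Subgroup.zpowers g) :
    (∃ x, Commute g (x * xc hF (vec chevF4 4 47) (1 : K) * x⁻¹)) ∨
      45 * Nat.card ↥(Subgroup.centralizer {g}) ≤ Nat.card ↥(Subgroup.centralizer {t2 K}) := by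
  have : Finite ↥(chevF4.group K) := inferInstance
  have := Fintype.ofFinite K
  have : Fact (Nat.Prime 3) := ⟨Nat.prime_three⟩
  have hch : CharP K 3 := charP_of_card_eq_prime (by rw [← Nat.card_eq_fintype_card, hK])
  have h2 : (2 : K) ≠ 0 := by
    intro h
    have h3 : 3 ∣ 2 := (CharP.cast_eq_zero_iff K 3 2).1 (by exact_mod_cast h)
    omega
  have h30' : (3 : K) = 0 := by exact_mod_cast CharP.cast_eq_zero K 3
  rcases dich_A hK ht with h | h39
  · exact Or.inl h
  by_cases hno : ∃ x, Commute g (x * xc hF (vec chevF4 4 47) (1 : K) * x⁻¹)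
  · exact Or.inl hno
  refine Or.inr ?_
  have hHC : Subgroup.centralizer {g} ≤ Subgroup.centralizer {t2 K} := by
    intro y hy
    rw [Subgroup.mem_centralizer_singleton_iff] at hy ⊢
    obtain ⟨k, hk⟩ := ht
    have hk : g ^ k = t2 K := hk
    rw [← hk]
    exact (Commute.zpow_right hy k : y * g ^ k = g ^ k * y)
  have := finite_W hF Cfsg.Agent.H557.InvF4.cs
  have R := rgd (K := K) hF Cfsg.Agent.H557.InvF4.cs 3
  obtain ⟨S, hS⟩ : ∃ S : Set (Fin 4 → ℤ), S = {vec chevF4 4 27, vec chevF4 4 28} := ⟨_, rfl⟩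
  have hSc : ∀ c : K, xc hF (vec chevF4 4 27) c ∈ Subgroup.centralizer {t2 K} ∧
      xc hF (vec chevF4 4 28) c ∈ Subgroup.centralizer {t2 K} := by
    intro c
    rw [Subgroup.mem_centralizer_singleton_iff, Subgroup.mem_centralizer_singleton_iff]
    have h1 := (lv.1 0 1 (by decide)).1
    have h3 := (lv.1 0 1 (by decide)).2
    constructor
    · refine (commute_t2 h2 (q := 27) (by decide) ?_ _).symm.eq
      have : vec chevF4 4 27 3 = 0 := h1
      rw [this]; exact Even.zero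
    · refine (commute_t2 h2 (q := 28) (by decide) ?_ _).symm.eq
      have : vec chevF4 4 28 3 = 0 := h3
      rw [this]; exact Even.zero
  obtain ⟨P, hP⟩ : ∃ P : Subgroup ↥(chevF4.group K), P = RGD.Sup (XX chevF4 4 K) S := ⟨_, rfl⟩
  have hP3 : IsPGroup 3 P := by
    rw [hP]
    refine R.isPGroup_of_pos (S := S) ?_
    rw [hS]
    rintro x (rfl | rfl)
    · exact ⟨isRoot_vec hF _ (by decide), nn.1⟩
    · exact ⟨isRoot_vec hF _ (by decide), nn.2⟩
  have hPC : P ≤ Subgroup.centralizer {t2 K} := by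
    rw [hP]
    refine RGD.Sup_le fun x hx => ?_
    rw [hS] at hx
    rcases hx with rfl | rfl
    · intro y hy
      obtain ⟨c, rfl⟩ := (mem_XX hF (by decide) _).1 hy
      exact (hSc c).1
    · intro y hy
      obtain ⟨c, rfl⟩ := (mem_XX hF (by decide) _).1 hy
      exact (hSc c).2
  have ha : xc hF (vec chevF4 4 28) (1 : K) ∈ P := by
    rw [hP]
    exact RGD.le_Sup (X := XX chevF4 4 K) (z := vec chevF4 4 28) (by rw [hS]; exact Or.inr rfl)
      ((mem_XX hF (by decide) _).2 ⟨1, rfl⟩)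
  have hb : xc hF (vec chevF4 4 27) (1 : K) ∈ P := by
    rw [hP]
    exact RGD.le_Sup (X := XX chevF4 4 K) (z := vec chevF4 4 27) (by rw [hS]; exact Or.inl rfl)
      ((mem_XX hF (by decide) _).2 ⟨1, rfl⟩)
  obtain ⟨z, hz⟩ := conj_x30 hK
  obtain ⟨k, hk⟩ := nine_dvd hHC hPC hP3 ha hb (by
    intro x hx
    apply hno
    refine ⟨x * (xc hF (vec chevF4 4 27) (1 : K) * xc hF (vec chevF4 4 28) 1) * z, ?_⟩
    have e : x * (xc hF (vec chevF4 4 27) (1 : K) * xc hF (vec chevF4 4 28) 1) * z * xc hF (vec chevF4 4 47) 1 *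
        (x * (xc hF (vec chevF4 4 27) (1 : K) * xc hF (vec chevF4 4 28) 1) * z)⁻¹ =
        x * (xc hF (vec chevF4 4 28) (1 : K) * xc hF (vec chevF4 4 27) 1 * (xc hF (vec chevF4 4 28) 1)⁻¹ *
          (xc hF (vec chevF4 4 27) 1)⁻¹) * x⁻¹ := by
      rw [comm_27_28 h30' 1, ← hz]
      group
    rw [e]
    rw [Subgroup.mem_centralizer_singleton_iff] at hx
    exact Commute.symm hx)
  have hpos : 0 < Nat.card ↥(Subgroup.centralizer {g}) := Nat.card_pos
  have h5 : 39 ≤ 9 * k := by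
    rw [hk] at h39
    exact Nat.le_of_mul_le_mul_right h39 hpos
  rw [hk]
  exact Nat.mul_le_mul_right _ (by omega)

end

end Cfsg.Agent.H150.F43
end

-- part: H150/F43/Dim
section
/-!
# The centralizer of a `2`-element in `O_n(3)`: crude count (helper150, for the `F₄(3)` row of S2465)

* `cent_card_le` : `s ∈ O Q` with `s ^ (2 ^ k) = 1`, `dim ker (s - 1) ≤ 4`, `dim ker (s + 1) ≤ 4`, `dim V = 9`:
  at most `2488492546` elements of `O Q` commute with `s`.
-/

set_option autoImplicit false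
set_option linter.unusedSectionVars false

namespace Cfsg.Agent.H150.F43.Dim

open Cfsg.Agent.LieClassical.OrthCore QuadraticMap Module

variable {K V : Type*} [Field K] [AddCommGroup V] [Module K V] {Q : QuadraticForm K V}

/-- the pointwise stabilizer -/
def Fx (C : Subgroup (V ≃ₗ[K] V)) (X : Submodule K V) : Subgroup (V ≃ₗ[K] V) where
  carrier := {g | g ∈ C ∧ ∀ x ∈ X, g x = x}
  mul_mem' {a b} ha hb := ⟨C.mul_mem ha.1 hb.1, fun x hx => by
    show a (b x) = x
    rw [hb.2 x hx, ha.2 x hx]⟩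
  one_mem' := ⟨C.one_mem, fun x _ => rfl⟩
  inv_mem' {a} ha := ⟨C.inv_mem ha.1, fun x hx => by
    have h := ha.2 x hx
    have h2 : a⁻¹ (a x) = x := LinearEquiv.symm_apply_apply a x
    rw [h] at h2
    exact h2⟩

/-- nondegeneracy of a subspace -/
def ND (Q : QuadraticForm K V) (X : Submodule K V) : Prop := ∀ x ∈ X, (∀ z ∈ X, polar Q x z = 0) → x = 0

instance finE [Finite V] : Finite (V ≃ₗ[K] V) :=
  Finite.of_injective (fun g : V ≃ₗ[K] V => (g : V → V)) DFunLike.coe_injective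

theorem card_le_orbit [Finite V] (C : Subgroup (V ≃ₗ[K] V)) (v : V) {T : Set V} (hT : ∀ g ∈ C, g v ∈ T)
    {S : Subgroup (V ≃ₗ[K] V)} (hS : ∀ g ∈ C, g v = v → g ∈ S) : Nat.card C ≤ Nat.card T * Nat.card S := by
  have h1 := Nat.card_congr (MulAction.orbitProdStabilizerEquivGroup C v)
  rw [Nat.card_prod] at h1
  rw [← h1]
  refine Nat.mul_le_mul ?_ ?_
  · refine Nat.card_mono (Set.toFinite T) ?_
    rintro _ ⟨g, rfl⟩
    exact hT g.1 g.2
  · refine Nat.card_le_card_of_injective (fun z : MulAction.stabilizer C v => (⟨z.1.1, hS z.1.1 z.1.2 z.2⟩ : S)) ?_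
    intro a b h
    exact Subtype.ext (Subtype.ext (Subtype.mk.inj h))

/-- the bound for `O_n(3)` -/
def o : ℕ → ℕ
  | 0 => 1
  | n + 1 => 3 ^ (n + 1) * o n

/-- the bound for `GU_n(3)` -/
def u : ℕ → ℕ
  | 0 => 1
  | n + 1 => 4 * 9 ^ n * u n

theorem u_mul (a : ℕ) : ∀ b, u a * u b ≤ u (a + b)
  | 0 => by simp [u]
  | b + 1 => by
    have h := u_mul a b
    have h2 : 9 ^ b ≤ 9 ^ (a + b) := Nat.pow_le_pow_right (by norm_num) (by omega)
    calc u a * u (b + 1) = 4 * 9 ^ b * (u a * u b) := by rw [u]; ring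
      _ ≤ 4 * 9 ^ (a + b) * u (a + b) := by gcongr
      _ = u (a + (b + 1)) := by rw [← add_assoc, u]

section

variable [FiniteDimensional K V]

theorem finrank_inf_ker (X : Submodule K V) (φ : V →ₗ[K] K) {v : V} (hv : v ∈ X) (h : φ v ≠ 0) :
    finrank K ↥(X ⊓ LinearMap.ker φ) + 1 = finrank K X := by
  have hv0 : v ≠ 0 := fun h0 => h (by rw [h0, map_zero])
  have h1 := Submodule.finrank_sup_add_finrank_inf_eq (Submodule.span K {v}) (X ⊓ LinearMap.ker φ)
  have h2 : Submodule.span K {v} ⊔ (X ⊓ LinearMap.ker φ) = X := by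
    apply le_antisymm
    · exact sup_le ((Submodule.span_singleton_le_iff_mem _ _).2 hv) inf_le_left
    · intro x hx
      rw [Submodule.mem_sup]
      refine ⟨(φ x / φ v) • v, Submodule.smul_mem _ _ (Submodule.mem_span_singleton_self v),
        x - (φ x / φ v) • v, ⟨X.sub_mem hx (X.smul_mem _ hv), ?_⟩, by abel⟩
      change φ (x - (φ x / φ v) • v) = 0
      rw [map_sub, map_smul, smul_eq_mul, div_mul_cancel₀ _ h, sub_self]
  have h3 : Submodule.span K {v} ⊓ (X ⊓ LinearMap.ker φ) = ⊥ := by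
    rw [eq_bot_iff]
    rintro x ⟨hx, -, hx2⟩
    obtain ⟨c, rfl⟩ := Submodule.mem_span_singleton.1 hx
    have h4 : φ (c • v) = 0 := hx2
    rw [map_smul, smul_eq_mul] at h4
    rw [Submodule.mem_bot, (mul_eq_zero.1 h4).resolve_right h, zero_smul]
  rw [h2, h3, finrank_bot, finrank_span_singleton hv0] at h1
  omega

theorem exists_ne {X : Submodule K V} (hX : ND Q X) (h : X ≠ ⊥) : ∃ v ∈ X, Q v ≠ 0 := by
  by_contra hcon
  push Not at hcon
  apply h
  rw [eq_bot_iff]
  intro x hx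
  rw [Submodule.mem_bot]
  refine hX x hx fun z hz => ?_
  rw [polar, hcon _ (X.add_mem hx hz), hcon _ hx, hcon _ hz]
  ring

end

section

variable [Finite V] [FiniteDimensional K V]

theorem stepO (hK : Nat.card K = 3) (h2 : (2 : K) ≠ 0) : ∀ (n : ℕ) (C : Subgroup (V ≃ₗ[K] V)) (X : Submodule K V),
    finrank K X = n → C ≤ O Q → (∀ g ∈ C, ∀ x ∈ X, g x ∈ X) → ND Q X → Nat.card C ≤ o n * Nat.card (Fx C X)
  | 0, C, X, hn, hC, hCX, hX => by
    rw [Submodule.finrank_eq_zero] at hn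
    rw [o, one_mul]
    refine Nat.card_mono (Set.toFinite _) ?_
    intro g hg
    refine ⟨hg, fun x hx => ?_⟩
    rw [hn, Submodule.mem_bot] at hx
    rw [hx, map_zero]
  | n + 1, C, X, hn, hC, hCX, hX => by
    have hX0 : X ≠ ⊥ := by
      rintro rfl
      rw [finrank_bot] at hn
      omega
    obtain ⟨v, hv, hQv⟩ := exists_ne hX hX0
    have hvv : polarBilin Q v v ≠ 0 := by
      rw [polarBilin_apply_apply, polar_self']
      exact mul_ne_zero h2 hQv
    obtain ⟨X', hX'⟩ : ∃ X', X' = X ⊓ LinearMap.ker (polarBilin Q v) := ⟨_, rfl⟩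
    have hf : finrank K X' = n := by
      have := finrank_inf_ker X (polarBilin Q v) hv hvv
      rw [← hX', hn] at this
      omega
    have mX' : ∀ x, x ∈ X' ↔ x ∈ X ∧ polar Q v x = 0 := by
      intro x
      rw [hX', Submodule.mem_inf, LinearMap.mem_ker, polarBilin_apply_apply]
    have hdec : ∀ z ∈ X, ∃ c : K, z - c • v ∈ X' := by
      intro z hz
      refine ⟨polarBilin Q v z / polarBilin Q v v, ?_⟩
      rw [hX', Submodule.mem_inf, LinearMap.mem_ker, map_sub, map_smul, smul_eq_mul, div_mul_cancel₀ _ hvv, sub_self]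
      exact ⟨X.sub_mem hz (X.smul_mem _ hv), rfl⟩
    have hcomp : ∀ x ∈ X', ∀ z ∈ X, (∀ w ∈ X', polar Q x w = 0) → polar Q x z = 0 := by
      intro x hx z hz h
      obtain ⟨c, hc⟩ := hdec z hz
      have h1 := h _ hc
      have h3 : polar Q x v = 0 := by rw [QuadraticMap.polar_comm]; exact ((mX' x).1 hx).2
      rw [sub_eq_add_neg, ← neg_smul, QuadraticMap.polar_add_right, QuadraticMap.polar_smul_right, h3, smul_zero,
        add_zero] at h1
      exact h1
    obtain ⟨C', hC'⟩ : ∃ C', C' = Fx C (Submodule.span K {v}) := ⟨_, rfl⟩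
    have hC'v : ∀ g ∈ C', g ∈ C ∧ g v = v := by
      intro g hg
      rw [hC'] at hg
      exact ⟨hg.1, hg.2 v (Submodule.mem_span_singleton_self v)⟩
    have h1 : Nat.card C ≤ Nat.card (X : Set V) * Nat.card C' := by
      refine card_le_orbit C v (fun g hg => hCX g hg v hv) fun g hg hgv => ?_
      rw [hC']
      refine ⟨hg, fun x hx => ?_⟩
      obtain ⟨c, rfl⟩ := Submodule.mem_span_singleton.1 hx
      rw [map_smul, hgv]
    have h3 : Nat.card (X : Set V) = 3 ^ (n + 1) := by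
      have : Nat.card X = Nat.card K ^ finrank K X := Module.natCard_eq_pow_finrank
      rw [hK, hn] at this
      exact this
    have h4 := stepO hK h2 n C' X' hf (fun g hg => hC (hC'v g hg).1) (fun g hg x hx => by
        rw [mX'] at hx ⊢
        refine ⟨hCX g (hC'v g hg).1 x hx.1, ?_⟩
        have h5 := polar_map (hC (hC'v g hg).1) v x
        rw [(hC'v g hg).2, hx.2] at h5
        exact h5)
      (fun x hx h => hX x ((mX' x).1 hx).1 fun z hz => hcomp x hx z hz h)
    have h5 : Nat.card (Fx C' X') ≤ Nat.card (Fx C X) := by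
      refine Nat.card_mono (Set.toFinite _) ?_
      rintro g ⟨hg, hg'⟩
      refine ⟨(hC'v g hg).1, fun z hz => ?_⟩
      obtain ⟨c, hc⟩ := hdec z hz
      have h6 := hg' _ hc
      rw [map_sub, map_smul, (hC'v g hg).2] at h6
      exact sub_left_injective h6
    calc Nat.card C ≤ 3 ^ (n + 1) * Nat.card C' := by rw [← h3]; exact h1
      _ ≤ 3 ^ (n + 1) * (o n * Nat.card (Fx C' X')) := Nat.mul_le_mul_left _ h4
      _ ≤ 3 ^ (n + 1) * (o n * Nat.card (Fx C X)) := by gcongr
      _ = o (n + 1) * Nat.card (Fx C X) := by rw [o]; ring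

theorem zmod_count : ∀ d : ZMod 3, (Finset.univ.filter fun p : ZMod 3 × ZMod 3 => p.1 * p.1 + p.2 * p.2 = d).card ≤ 4 := by
  decide

theorem count (hK : Nat.card K = 3) (d : K) : Nat.card {p : K × K // p.1 * p.1 + p.2 * p.2 = d} ≤ 4 := by
  have : Finite K := Nat.finite_of_card_ne_zero (by rw [hK]; norm_num)
  have := Fintype.ofFinite K
  have : Fact (Nat.Prime 3) := ⟨Nat.prime_three⟩
  obtain ⟨σ, -⟩ : ∃ σ : ZMod 3 ≃+* K, True := ⟨ZMod.ringEquivOfPrime K Nat.prime_three (by
    rw [← Nat.card_eq_fintype_card, hK]), trivial⟩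
  refine le_trans ?_ (zmod_count (σ.symm d))
  rw [← Fintype.card_subtype, ← Nat.card_eq_fintype_card]
  refine Nat.card_le_card_of_injective (fun p : {p : K × K // p.1 * p.1 + p.2 * p.2 = d} =>
    (⟨(σ.symm p.1.1, σ.symm p.1.2), by simp only; rw [← map_mul, ← map_mul, ← map_add, p.2]⟩ :
      {p : ZMod 3 × ZMod 3 // p.1 * p.1 + p.2 * p.2 = σ.symm d})) ?_
  rintro ⟨⟨a, b⟩, h⟩ ⟨⟨a', b'⟩, h'⟩ e
  have e1 := Subtype.mk.inj e
  rw [Prod.mk.injEq] at e1
  have e2 : a = a' := σ.symm.injective e1.1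
  have e3 : b = b' := σ.symm.injective e1.2
  subst e2 e3
  rfl

theorem stepU (hK : Nat.card K = 3) (h2 : (2 : K) ≠ 0) (y : V →ₗ[K] V) : ∀ (n : ℕ) (C : Subgroup (V ≃ₗ[K] V))
    (X : Submodule K V), finrank K X ≤ n → C ≤ O Q → (∀ g ∈ C, ∀ x ∈ X, g x ∈ X) → ND Q X →
    (∀ x ∈ X, y x ∈ X) → (∀ x ∈ X, y (y x) = -x) → (∀ x ∈ X, Q (y x) = Q x) →
    (∀ g ∈ C, ∀ x ∈ X, g (y x) = y (g x)) →
    ∃ m, finrank K X = 2 * m ∧ Nat.card C ≤ u m * Nat.card (Fx C X)
  | 0, C, X, hn, hC, hCX, hX, yX, y2, yQ, yC => by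
    have hn' : finrank K X = 0 := by omega
    refine ⟨0, hn', ?_⟩
    rw [Submodule.finrank_eq_zero] at hn'
    rw [u, one_mul]
    refine Nat.card_mono (Set.toFinite _) ?_
    intro g hg
    refine ⟨hg, fun x hx => ?_⟩
    rw [hn', Submodule.mem_bot] at hx
    rw [hx, map_zero]
  | n + 1, C, X, hn, hC, hCX, hX, yX, y2, yQ, yC => by
    by_cases hX0 : X = ⊥
    · refine ⟨0, by rw [hX0, finrank_bot], ?_⟩
      rw [u, one_mul]
      refine Nat.card_mono (Set.toFinite _) ?_
      intro g hg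
      refine ⟨hg, fun x hx => ?_⟩
      rw [hX0, Submodule.mem_bot] at hx
      rw [hx, map_zero]
    obtain ⟨v, hv, hQv⟩ := exists_ne hX hX0
    have ypol : ∀ a ∈ X, ∀ b ∈ X, polar Q (y a) (y b) = polar Q a b := by
      intro a ha b hb
      rw [polar, polar, ← map_add, yQ _ (X.add_mem ha hb), yQ _ ha, yQ _ hb]
    have hvy : polar Q v (y v) = 0 := by
      have h1 := ypol v hv (y v) (yX v hv)
      rw [y2 v hv, ← neg_one_smul K v, QuadraticMap.polar_smul_right, QuadraticMap.polar_comm, smul_eq_mul] at h1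
      have h3 : 2 * polar Q v (y v) = 0 := by linear_combination -h1
      exact (mul_eq_zero.1 h3).resolve_left h2
    have hvv : polarBilin Q v v ≠ 0 := by
      rw [polarBilin_apply_apply, polar_self']
      exact mul_ne_zero h2 hQv
    have hyy : polarBilin Q (y v) (y v) ≠ 0 := by
      rw [polarBilin_apply_apply, polar_self', yQ v hv]
      exact mul_ne_zero h2 hQv
    obtain ⟨X', hX'⟩ : ∃ X', X' = (X ⊓ LinearMap.ker (polarBilin Q v)) ⊓ LinearMap.ker (polarBilin Q (y v)) := ⟨_, rfl⟩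
    have hf : finrank K X' + 2 = finrank K X := by
      have h1 := finrank_inf_ker X (polarBilin Q v) hv hvv
      have h3 := finrank_inf_ker (X ⊓ LinearMap.ker (polarBilin Q v)) (polarBilin Q (y v)) (v := y v)
        ⟨yX v hv, by change polarBilin Q v (y v) = 0; rw [polarBilin_apply_apply, hvy]⟩ hyy
      rw [← hX'] at h3
      omega
    have mX' : ∀ x, x ∈ X' ↔ x ∈ X ∧ polar Q v x = 0 ∧ polar Q (y v) x = 0 := by
      intro x
      rw [hX', Submodule.mem_inf, Submodule.mem_inf, LinearMap.mem_ker, LinearMap.mem_ker, polarBilin_apply_apply,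
        polarBilin_apply_apply, and_assoc]
    have hdec : ∀ z ∈ X, ∃ a b : K, z - (a • v + b • y v) ∈ X' := by
      intro z hz
      refine ⟨polarBilin Q v z / polarBilin Q v v, polarBilin Q (y v) z / polarBilin Q (y v) (y v), ?_⟩
      rw [mX']
      refine ⟨X.sub_mem hz (X.add_mem (X.smul_mem _ hv) (X.smul_mem _ (yX v hv))), ?_, ?_⟩
      · rw [← polarBilin_apply_apply, map_sub, map_add, map_smul, map_smul, smul_eq_mul, smul_eq_mul,
          div_mul_cancel₀ _ hvv, polarBilin_apply_apply (Q := Q) v (y v), hvy, mul_zero, add_zero, sub_self]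
      · rw [← polarBilin_apply_apply, map_sub, map_add, map_smul, map_smul, smul_eq_mul, smul_eq_mul,
          div_mul_cancel₀ _ hyy, polarBilin_apply_apply (Q := Q) (y v) v, QuadraticMap.polar_comm, hvy, mul_zero,
          zero_add, sub_self]
    choose! fa fb hfab using hdec
    have hcomp : ∀ x ∈ X', ∀ z ∈ X, (∀ w ∈ X', polar Q x w = 0) → polar Q x z = 0 := by
      intro x hx z hz h
      have h1 := h _ (hfab z hz)
      have h3 : polar Q x v = 0 := by rw [QuadraticMap.polar_comm]; exact ((mX' x).1 hx).2.1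
      have h4 : polar Q x (y v) = 0 := by rw [QuadraticMap.polar_comm]; exact ((mX' x).1 hx).2.2
      rw [← polarBilin_apply_apply] at h1 h3 h4 ⊢
      rw [map_sub, map_add, map_smul, map_smul, h3, h4, smul_zero, smul_zero, add_zero, sub_zero] at h1
      exact h1
    obtain ⟨C', hC'⟩ : ∃ C', C' = Fx C (Submodule.span K {v}) := ⟨_, rfl⟩
    have hC'v : ∀ g ∈ C', g ∈ C ∧ g v = v ∧ g (y v) = y v := by
      intro g hg
      rw [hC'] at hg
      have h1 := hg.2 v (Submodule.mem_span_singleton_self v)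
      exact ⟨hg.1, h1, by rw [yC g hg.1 v hv, h1]⟩
    have h1 : Nat.card C ≤ Nat.card {w | w ∈ X ∧ Q w = Q v} * Nat.card C' := by
      refine card_le_orbit C v (T := {w | w ∈ X ∧ Q w = Q v}) (fun g hg => ⟨hCX g hg v hv, hC hg v⟩) fun g hg hgv => ?_
      rw [hC']
      refine ⟨hg, fun x hx => ?_⟩
      obtain ⟨c, rfl⟩ := Submodule.mem_span_singleton.1 hx
      rw [map_smul, hgv]
    have h3 : Nat.card {w | w ∈ X ∧ Q w = Q v} ≤ 4 * Nat.card X' := by
      have key : ∀ w ∈ X, Q w = Q (w - (fa w • v + fb w • y v)) + (fa w * fa w + fb w * fb w) * Q v := by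
        intro w hw
        have e1 : w = (w - (fa w • v + fb w • y v)) + (fa w • v + fb w • y v) := by abel
        have e2 : polar Q (w - (fa w • v + fb w • y v)) (fa w • v + fb w • y v) = 0 := by
          have e3 := (mX' _).1 (hfab w hw)
          have e4 : polar Q (w - (fa w • v + fb w • y v)) v = 0 := by rw [QuadraticMap.polar_comm]; exact e3.2.1
          have e5 : polar Q (w - (fa w • v + fb w • y v)) (y v) = 0 := by
            rw [QuadraticMap.polar_comm]; exact e3.2.2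
          rw [QuadraticMap.polar_add_right, QuadraticMap.polar_smul_right, QuadraticMap.polar_smul_right, e4, e5,
            smul_zero, smul_zero, add_zero]
        have e3 : Q (fa w • v + fb w • y v) = (fa w * fa w + fb w * fb w) * Q v := by
          rw [Q_add, QuadraticMap.map_smul, QuadraticMap.map_smul, yQ v hv, QuadraticMap.polar_smul_left,
            QuadraticMap.polar_smul_right, hvy]
          simp only [smul_eq_mul]
          ring
        conv_lhs => rw [e1]
        rw [Q_add, e2, e3, add_zero]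
      have : Finite K := Nat.finite_of_card_ne_zero (by rw [hK]; norm_num)
      have hinj : Nat.card {w | w ∈ X ∧ Q w = Q v} ≤
          Nat.card {z : X' × (K × K) // z.2.1 * z.2.1 + z.2.2 * z.2.2 = (Q v - Q (z.1 : V)) / Q v} := by
        refine Nat.card_le_card_of_injective (fun w : {w | w ∈ X ∧ Q w = Q v} =>
          (⟨(⟨w.1 - (fa w.1 • v + fb w.1 • y v), hfab w.1 w.2.1⟩, (fa w.1, fb w.1)), by
            simp only
            rw [eq_div_iff hQv]
            have := key w.1 w.2.1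
            rw [w.2.2] at this
            linear_combination -this⟩ :
            {z : X' × (K × K) // z.2.1 * z.2.1 + z.2.2 * z.2.2 = (Q v - Q (z.1 : V)) / Q v})) ?_
        rintro ⟨w, hw⟩ ⟨w', hw'⟩ e
        have e1 := Subtype.mk.inj e
        rw [Prod.mk.injEq, Prod.mk.injEq] at e1
        obtain ⟨e2, e3, e4⟩ := e1
        have e5 := congrArg Subtype.val e2
        simp only at e3 e4 e5
        rw [e3, e4] at e5
        exact Subtype.ext (sub_left_injective e5)
      refine hinj.trans ?_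
      have : Fintype X' := Fintype.ofFinite _
      rw [Nat.card_congr (Equiv.subtypeProdEquivSigmaSubtype (fun (a : X') (b : K × K) =>
        b.1 * b.1 + b.2 * b.2 = (Q v - Q (a : V)) / Q v)), Nat.card_sigma]
      calc _ ≤ ∑ _a : X', 4 := Finset.sum_le_sum fun a _ => count hK _
        _ = 4 * Nat.card X' := by
          rw [Finset.sum_const, Finset.card_univ, smul_eq_mul, mul_comm, Nat.card_eq_fintype_card]
    obtain ⟨m, hm, h4⟩ := stepU hK h2 y n C' X' (by omega) (fun g hg => hC (hC'v g hg).1) (fun g hg x hx => by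
        rw [mX'] at hx ⊢
        refine ⟨hCX g (hC'v g hg).1 x hx.1, ?_, ?_⟩
        · have h5 := polar_map (hC (hC'v g hg).1) v x
          rw [(hC'v g hg).2.1, hx.2.1] at h5
          exact h5
        · have h5 := polar_map (hC (hC'v g hg).1) (y v) x
          rw [(hC'v g hg).2.2, hx.2.2] at h5
          exact h5)
      (fun x hx h => hX x ((mX' x).1 hx).1 fun z hz => hcomp x hx z hz h)
      (fun x hx => by
        rw [mX'] at hx ⊢
        refine ⟨yX x hx.1, ?_, ?_⟩
        · have h5 := ypol (y v) (yX v hv) x hx.1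
          rw [y2 v hv, hx.2.2, ← polarBilin_apply_apply, map_neg, LinearMap.neg_apply, neg_eq_zero] at h5
          exact h5
        · rw [ypol v hv x hx.1, hx.2.1])
      (fun x hx => y2 x ((mX' x).1 hx).1) (fun x hx => yQ x ((mX' x).1 hx).1)
      (fun g hg x hx => yC g (hC'v g hg).1 x ((mX' x).1 hx).1)
    have h5 : Nat.card (Fx C' X') ≤ Nat.card (Fx C X) := by
      refine Nat.card_mono (Set.toFinite _) ?_
      rintro g ⟨hg, hg'⟩
      refine ⟨(hC'v g hg).1, fun z hz => ?_⟩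
      have h6 := hg' _ (hfab z hz)
      rw [map_sub, map_add, map_smul, map_smul, (hC'v g hg).2.1, (hC'v g hg).2.2] at h6
      exact sub_left_injective h6
    have h6 : Nat.card X' = 9 ^ m := by
      have : Nat.card X' = Nat.card K ^ finrank K X' := Module.natCard_eq_pow_finrank
      rw [this, hK, hm, pow_mul]
      norm_num
    rw [h6] at h3
    refine ⟨m + 1, by omega, ?_⟩
    calc Nat.card C ≤ (4 * 9 ^ m) * Nat.card C' := h1.trans (Nat.mul_le_mul_right _ h3)
      _ ≤ (4 * 9 ^ m) * (u m * Nat.card (Fx C' X')) := Nat.mul_le_mul_left _ h4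
      _ ≤ (4 * 9 ^ m) * (u m * Nat.card (Fx C X)) := by gcongr
      _ = u (m + 1) * Nat.card (Fx C X) := by rw [u]; ring

end

/-! ### The `2`-element -/

/-- the fixed space -/
def Ep (t : V ≃ₗ[K] V) : Submodule K V := LinearMap.ker (t.toLinearMap - LinearMap.id)

/-- the `(-1)`-space -/
def Em (t : V ≃ₗ[K] V) : Submodule K V := LinearMap.ker (t.toLinearMap + LinearMap.id)

theorem mem_Ep {t : V ≃ₗ[K] V} {x : V} : x ∈ Ep t ↔ t x = x := by
  rw [Ep, LinearMap.mem_ker, LinearMap.sub_apply, sub_eq_zero]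
  rfl

theorem mem_Em {t : V ≃ₗ[K] V} {x : V} : x ∈ Em t ↔ t x = -x := by
  rw [Em, LinearMap.mem_ker, LinearMap.add_apply, add_eq_zero_iff_eq_neg]
  rfl

section

variable [Finite V] [FiniteDimensional K V]

theorem split (h2 : (2 : K) ≠ 0) {t : V ≃ₗ[K] V} (ht : t ∈ O Q) (hX : ND Q (Ep (t * t))) :
    ND Q (Ep t) ∧ ND Q (Em t) ∧ finrank K (Ep (t * t)) = finrank K (Ep t) + finrank K (Em t) ∧
      ∀ C : Subgroup (V ≃ₗ[K] V), Fx (Fx C (Ep t)) (Em t) ≤ Fx C (Ep (t * t)) := by
  have horth : ∀ x ∈ Ep t, ∀ z ∈ Em t, polar Q x z = 0 := by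
    intro x hx z hz
    rw [mem_Ep] at hx
    rw [mem_Em] at hz
    have h1 := polar_map ht x z
    rw [hx, hz, ← neg_one_smul K z, QuadraticMap.polar_smul_right, smul_eq_mul] at h1
    have h3 : 2 * polar Q x z = 0 := by linear_combination -h1
    exact (mul_eq_zero.1 h3).resolve_left h2
  have hp : Ep t ≤ Ep (t * t) := fun x hx => by
    rw [mem_Ep] at hx ⊢
    rw [LinearEquiv.mul_apply, hx, hx]
  have hm : Em t ≤ Ep (t * t) := fun x hx => by
    rw [mem_Em] at hx
    rw [mem_Ep, LinearEquiv.mul_apply, hx, map_neg, hx, neg_neg]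
  have hdec : ∀ z ∈ Ep (t * t), ∃ x ∈ Ep t, ∃ w ∈ Em t, z = x + w := by
    intro z hz
    rw [mem_Ep, LinearEquiv.mul_apply] at hz
    refine ⟨(2 : K)⁻¹ • (z + t z), ?_, (2 : K)⁻¹ • (z - t z), ?_, ?_⟩
    · rw [mem_Ep, map_smul, map_add, hz, add_comm]
    · rw [mem_Em, map_smul, map_sub, hz, ← smul_neg, neg_sub]
    · rw [← smul_add, add_add_sub_cancel, ← two_smul K z, smul_smul, inv_mul_cancel₀ h2, one_smul]
  refine ⟨?_, ?_, ?_, ?_⟩
  · intro x hx h
    refine hX x (hp hx) fun z hz => ?_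
    obtain ⟨a, ha, w, hw, rfl⟩ := hdec z hz
    rw [QuadraticMap.polar_add_right, h a ha, horth x hx w hw, add_zero]
  · intro x hx h
    refine hX x (hm hx) fun z hz => ?_
    obtain ⟨a, ha, w, hw, rfl⟩ := hdec z hz
    rw [QuadraticMap.polar_add_right, h w hw, QuadraticMap.polar_comm, horth a ha x hx, add_zero]
  · have h1 := Submodule.finrank_sup_add_finrank_inf_eq (Ep t) (Em t)
    have h3 : Ep t ⊔ Em t = Ep (t * t) := by
      refine le_antisymm (sup_le hp hm) fun z hz => ?_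
      obtain ⟨a, ha, w, hw, rfl⟩ := hdec z hz
      exact Submodule.add_mem_sup ha hw
    have h4 : Ep t ⊓ Em t = ⊥ := by
      rw [eq_bot_iff]
      rintro x ⟨hx, hx'⟩
      have hx : t x = x := mem_Ep.1 hx
      have hx' : t x = -x := mem_Em.1 hx'
      rw [Submodule.mem_bot]
      have h5 : (2 : K) • x = 0 := by
        rw [two_smul]
        nth_rw 1 [← hx]
        rw [hx', neg_add_cancel]
      exact (smul_eq_zero.1 h5).resolve_left h2
    rw [h3, h4, finrank_bot, add_zero] at h1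
    exact h1
  · rintro C g ⟨⟨hg, hg1⟩, hg2⟩
    refine ⟨hg, fun z hz => ?_⟩
    obtain ⟨a, ha, w, hw, rfl⟩ := hdec z hz
    rw [map_add, hg1 a ha, hg2 w hw]

theorem main (hK : Nat.card K = 3) (h2 : (2 : K) ≠ 0) {s : V ≃ₗ[K] V} (hs : s ∈ O Q) {C : Subgroup (V ≃ₗ[K] V)}
    (hC : C ≤ O Q) (hcom : ∀ g ∈ C, Commute g s) : ∀ k : ℕ, ND Q (Ep (s ^ (2 ^ (k + 1)))) →
    ∃ m, finrank K (Ep (s ^ (2 ^ (k + 1)))) = finrank K (Ep s) + finrank K (Em s) + 2 * m ∧
      Nat.card C ≤ o (finrank K (Ep s)) * o (finrank K (Em s)) * u m * Nat.card (Fx C (Ep (s ^ (2 ^ (k + 1)))))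
  | 0, hX => by
    have e : s ^ (2 ^ (0 + 1)) = s * s := by rw [zero_add, pow_one, pow_two]
    rw [e] at hX ⊢
    obtain ⟨h3, h4, h5, h6⟩ := split h2 hs hX
    refine ⟨0, by rw [h5, mul_zero, add_zero], ?_⟩
    have h7 := stepO hK h2 _ C (Ep s) rfl hC (fun g hg x hx => by
      rw [mem_Ep] at hx ⊢
      have := congrArg (fun f : V ≃ₗ[K] V => f x) (hcom g hg).eq
      simp only [LinearEquiv.mul_apply] at this
      rw [← this, hx]) h3
    have h8 := stepO hK h2 _ (Fx C (Ep s)) (Em s) rfl (fun g hg => hC hg.1) (fun g hg x hx => by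
      rw [mem_Em] at hx ⊢
      have := congrArg (fun f : V ≃ₗ[K] V => f x) (hcom g hg.1).eq
      simp only [LinearEquiv.mul_apply] at this
      rw [← this, hx, map_neg]) h4
    have h9 := Nat.card_mono (Set.toFinite _) (h6 C)
    have h9' : Nat.card (Fx (Fx C (Ep s)) (Em s)) ≤ Nat.card (Fx C (Ep (s * s))) := h9
    calc Nat.card C ≤ o (finrank K (Ep s)) * Nat.card (Fx C (Ep s)) := h7
      _ ≤ o (finrank K (Ep s)) * (o (finrank K (Em s)) * Nat.card (Fx (Fx C (Ep s)) (Em s))) := by gcongr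
      _ ≤ o (finrank K (Ep s)) * (o (finrank K (Em s)) * Nat.card (Fx C (Ep (s * s)))) := by gcongr
      _ = _ := by rw [u]; ring
  | k + 1, hX => by
    obtain ⟨t, ht⟩ : ∃ t, t = s ^ (2 ^ (k + 1)) := ⟨_, rfl⟩
    obtain ⟨y, hy⟩ : ∃ y, y = s ^ (2 ^ k) := ⟨_, rfl⟩
    have e : s ^ (2 ^ (k + 1 + 1)) = t * t := by rw [ht, ← pow_add, ← two_mul, ← pow_succ']
    have ey : t = y * y := by rw [ht, hy, ← pow_add, ← two_mul, ← pow_succ']
    have htO : t ∈ O Q := by rw [ht]; exact (O Q).pow_mem hs _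
    have hyO : y ∈ O Q := by rw [hy]; exact (O Q).pow_mem hs _
    rw [e] at hX ⊢
    obtain ⟨h3, h4, h5, h6⟩ := split h2 htO hX
    obtain ⟨m, hm, h7⟩ := main hK h2 hs hC hcom k (by rw [← ht]; exact h3)
    rw [← ht] at hm h7
    have hct : ∀ g ∈ C, ∀ x, g (t x) = t (g x) := fun g hg x => by
      have h8 : Commute g t := by rw [ht]; exact (hcom g hg).pow_right _
      exact congrArg (fun f : V ≃ₗ[K] V => f x) h8.eq
    have hcy : ∀ g ∈ C, ∀ x, g (y x) = y (g x) := fun g hg x => by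
      have h8 : Commute g y := by rw [hy]; exact (hcom g hg).pow_right _
      exact congrArg (fun f : V ≃ₗ[K] V => f x) h8.eq
    obtain ⟨m', hm', h8⟩ := stepU hK h2 y.toLinearMap _ (Fx C (Ep t)) (Em t) le_rfl (fun g hg => hC hg.1)
      (fun g hg x hx => by
        rw [mem_Em] at hx ⊢
        rw [← hct g hg.1, hx, map_neg]) h4
      (fun x hx => by
        rw [mem_Em] at hx ⊢
        have h9 : t (y x) = y (t x) := by rw [ey]; rfl
        change t (y x) = -(y x)
        rw [h9, hx, map_neg])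
      (fun x hx => by
        rw [mem_Em, ey] at hx
        exact hx)
      (fun x hx => hyO x)
      (fun g hg x hx => hcy g hg.1 x)
    have h9 : Nat.card (Fx (Fx C (Ep t)) (Em t)) ≤ Nat.card (Fx C (Ep (t * t))) :=
      Nat.card_mono (Set.toFinite _) (h6 C)
    refine ⟨m + m', by rw [h5, hm, hm']; ring, ?_⟩
    calc Nat.card C ≤ o (finrank K (Ep s)) * o (finrank K (Em s)) * u m * Nat.card (Fx C (Ep t)) := h7
      _ ≤ o (finrank K (Ep s)) * o (finrank K (Em s)) * u m * (u m' * Nat.card (Fx (Fx C (Ep t)) (Em t))) := by gcongr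
      _ ≤ o (finrank K (Ep s)) * o (finrank K (Em s)) * u m * (u m' * Nat.card (Fx C (Ep (t * t)))) := by gcongr
      _ = o (finrank K (Ep s)) * o (finrank K (Em s)) * (u m * u m') * Nat.card (Fx C (Ep (t * t))) := by ring
      _ ≤ _ := by gcongr; exact u_mul m m'

end

/-- **The count.** -/
theorem cent_card_le [FiniteDimensional K V] (hK : Nat.card K = 3) (hQ : Nondeg Q) (hV : finrank K V = 9) {s : V ≃ₗ[K] V} (hs : s ∈ O Q)
    {k : ℕ} (hsk : s ^ (2 ^ k) = 1) (h1 : finrank K (LinearMap.ker (s.toLinearMap - LinearMap.id)) ≤ 4)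
    (h1' : finrank K (LinearMap.ker (s.toLinearMap + LinearMap.id)) ≤ 4) :
    Nat.card {g : V ≃ₗ[K] V // g ∈ O Q ∧ g * s = s * g} ≤ 2488492546 := by
  have : Finite K := Nat.finite_of_card_ne_zero (by rw [hK]; norm_num)
  have : Finite V := Module.finite_of_finite K
  have h2 : (2 : K) ≠ 0 := by
    have := Fintype.ofFinite K
    have : Fact (Nat.Prime 3) := ⟨Nat.prime_three⟩
    have hch : CharP K 3 := charP_of_card_eq_prime (by rw [← Nat.card_eq_fintype_card, hK])
    intro h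
    have h3 : 3 ∣ 2 := (CharP.cast_eq_zero_iff K 3 2).1 (by exact_mod_cast h)
    omega
  obtain ⟨C, hC⟩ : ∃ C : Subgroup (V ≃ₗ[K] V), C = O Q ⊓ Subgroup.centralizer {s} := ⟨_, rfl⟩
  have hCs : ∀ g, g ∈ C ↔ g ∈ O Q ∧ g * s = s * g := by
    intro g
    rw [hC, Subgroup.mem_inf, Subgroup.mem_centralizer_singleton_iff]
  have e1 : s ^ (2 ^ (k + 1)) = 1 := by rw [pow_succ, pow_mul, hsk, one_pow]
  have htop : Ep (1 : V ≃ₗ[K] V) = ⊤ := by
    rw [eq_top_iff]
    intro x _
    rw [mem_Ep]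
    rfl
  obtain ⟨m, hm, h3⟩ := main hK h2 hs (C := C) (fun g hg => ((hCs g).1 hg).1) (fun g hg => ((hCs g).1 hg).2) k (by
    rw [e1, htop]
    intro x _ h
    exact hQ x fun y => h y Submodule.mem_top)
  rw [e1, htop] at hm h3
  rw [finrank_top, hV] at hm
  have h4 : Nat.card (Fx C ⊤) = 1 := by
    rw [Nat.card_eq_one_iff_unique]
    refine ⟨⟨fun a b => ?_⟩, ⟨1⟩⟩
    apply Subtype.ext
    apply LinearEquiv.ext
    intro x
    rw [a.2.2 x Submodule.mem_top, b.2.2 x Submodule.mem_top]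
  rw [h4, mul_one] at h3
  have h5 : Nat.card {g : V ≃ₗ[K] V // g ∈ O Q ∧ g * s = s * g} = Nat.card C :=
    Nat.card_congr (Equiv.subtypeEquivRight fun g => (hCs g).symm)
  rw [h5]
  refine h3.trans ?_
  have ha : finrank K (Ep s) ≤ 4 := h1
  have hb : finrank K (Em s) ≤ 4 := h1'
  revert hm ha hb
  generalize finrank K (Ep s) = a
  generalize finrank K (Em s) = b
  intro hm ha hb
  have hm' : m = (9 - a - b) / 2 := by (clear * - hm; omega)
  subst hm'
  interval_cases a <;> interval_cases b <;> first | (clear * - hm; omega) | (simp only [o, u]; norm_num only [])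

end Cfsg.Agent.H150.F43.Dim
end

-- part: H885/Pw/DichF
section
/-!
# `F₄(3)` (S2465): the dichotomy for elements of order `2^a 3^b`, `a ≥ 1` (helper885)

* `dich` : such an element commutes with a long root element, or its centralizer has at most `4976985092` elements.
-/

set_option autoImplicit false
set_option linter.unusedSectionVars false

namespace Cfsg.Agent.H885.Pw.DichF

open Cfsg.Lie Cfsg.Agent.ChevalleyStructure Cfsg.Agent.ChevalleyStructure.CoxeterGeomTypes
  Cfsg.Agent.Nodes.RGDChev Cfsg.Agent.KFacts.RgdChevCoord Cfsg.Agent.OddHalf.NI.ModelChev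
  Cfsg.Agent.H557.SubTab Cfsg.Agent.H557.SubLink Cfsg.Agent.H557.InvClass
  Cfsg.Agent.H557.ToralTypes Cfsg.Agent.H557.OrbF4 Cfsg.Agent.H557.InvF4
open Cfsg.Agent.Tits.Roots Cfsg.Agent.Nodes.BNOf
open Cfsg.Agent.LieClassical.OrthForms Cfsg.Agent.LieClassical.OrthCore
open Cfsg.Agent.H885.Pw.JB Cfsg.Agent.H150.F43

universe u

variable {K : Type u} [Field K]

theorem bnd (hK : Nat.card K = 3) : Bnd K := by
  intro s hs hk h1 h2
  obtain ⟨k, hk⟩ := hk
  have : Finite K := Nat.finite_of_card_ne_zero (by rw [hK]; norm_num)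
  have h3 := Cfsg.Agent.H150.F43.Dim.cent_card_le hK (nondeg_oddForm 4 K (two_ne hK)) finrank_VV hs hk h1 h2
  refine le_trans (le_of_eq ?_) h3
  exact Nat.card_congr (Equiv.subtypeEquivRight fun g => by
    rw [Subgroup.mem_inf, Subgroup.mem_centralizer_singleton_iff])

theorem card_t2 [Finite K] (hK : Nat.card K = 3) :
    Nat.card (Subgroup.centralizer ({t2 K} : Set ↥(chevF4.group K))) = 220096880640 := by
  have : Fintype K := Fintype.ofFinite K
  have ho : Odd (Fintype.card K) := by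
    rw [← Nat.card_eq_fintype_card, hK]
    decide
  obtain ⟨p, hpp, hpc, hp2⟩ := exists_char K ho
  have : Fact p.Prime := ⟨hpp⟩
  have hW : Finite (CoxeterMatrix.F₄).Group := Nat.finite_of_card_ne_zero (by rw [cardW]; norm_num)
  have hc1 : Nat.card (chevF4.diagonalSubgroup K) = (Nat.card K - 1) ^ 4 := by
    have := Cfsg.Agent.S1035.result (F := K) rfl (chevF4, 1) (by simp only [_root_.List.mem_cons, _root_.Prod.mk.injEq, _root_.and_true, _root_.List.not_mem_nil, _root_.or_false, _root_.true_or, _root_.or_true])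
    rw [Nat.card_eq_fintype_card (α := K)]
    rwa [one_mul] at this
  have hT : Nat.card ↥(TT chevF4 K) = (Nat.card K - 1) ^ 4 := by
    rw [← hc1]
    exact Nat.card_congr (Subgroup.subgroupOfEquivOfLe
      (Cfsg.Agent.ChevalleyStructure.Elts.diagonal_le_group (Nodes.KindF.isType).inList K)).toEquiv
  have h := D_TabC3A1.card_cent Cfsg.Agent.H557.OrbF4.hcm (K := K) p (two_ne hK) inj_F4 hT
  have hm : Cfsg.Agent.H557.TabC3A1.tab.m = 10 := by decide +kernel
  rw [hm, hK] at h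
  exact h.trans (by norm_num)

/-- **The dichotomy.** -/
theorem dich (hK : Nat.card K = 3) {g : ↥(chevF4.group K)} {a b : ℕ} (ha : 1 ≤ a)
    (ho : orderOf g = 2 ^ a * 3 ^ b) :
    (∃ x, Commute g (x * xc Cfsg.Agent.Nodes.KindF.isType (vec chevF4 4 47) (1 : K) * x⁻¹)) ∨
      Nat.card (Subgroup.centralizer ({g} : Set ↥(chevF4.group K))) ≤ 4976985092 := by
  have : Finite K := Nat.finite_of_card_ne_zero (by rw [hK]; norm_num)
  have hodd : Odd (Nat.card K) := by rw [hK]; decide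
  -- the involution
  have h2 : 2 ∣ orderOf g := by
    rw [ho]
    exact Dvd.dvd.mul_right (dvd_pow_self 2 (by omega)) _
  obtain ⟨m, hm⟩ := h2
  have hpos : 0 < orderOf g := by
    rw [ho]
    positivity
  have hτ : orderOf (g ^ m) = 2 := by
    have hm0 : m ≠ 0 := by rintro rfl; omega
    rw [orderOf_pow' g hm0, hm, Nat.gcd_eq_right (Dvd.intro_left 2 rfl), Nat.mul_div_cancel _ (Nat.pos_of_ne_zero hm0)]
  -- conjugation
  have conj : ∀ {t y : ↥(chevF4.group K)}, y * g ^ m * y⁻¹ = t → t ∈ Subgroup.zpowers (y * g * y⁻¹) := by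
    rintro t y rfl
    exact ⟨m, by simp only [zpow_natCast, conj_pow]⟩
  have back : ∀ {y z : ↥(chevF4.group K)}, (∃ x, Commute (y * g * y⁻¹) (x * z * x⁻¹)) → ∃ x, Commute g (x * z * x⁻¹) := by
    rintro y z ⟨x, hx⟩
    refine ⟨y⁻¹ * x, ?_⟩
    have h1 : y⁻¹ * x * z * (y⁻¹ * x)⁻¹ = y⁻¹ * (x * z * x⁻¹) * y := by group
    have h3 : g = y⁻¹ * (y * g * y⁻¹) * y := by group
    rw [h1, h3]
    show y⁻¹ * (y * g * y⁻¹) * y * (y⁻¹ * (x * z * x⁻¹) * y) = y⁻¹ * (x * z * x⁻¹) * y * (y⁻¹ * (y * g * y⁻¹) * y)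
    have h4 : ∀ p q : ↥(chevF4.group K), y⁻¹ * p * y * (y⁻¹ * q * y) = y⁻¹ * (p * q) * y := fun p q => by group
    rw [h4, h4, hx.eq]
  have hcc : ∀ y : ↥(chevF4.group K), Nat.card (Subgroup.centralizer ({g} : Set ↥(chevF4.group K))) =
      Nat.card (Subgroup.centralizer ({y * g * y⁻¹} : Set ↥(chevF4.group K))) := fun y =>
    card_centralizer_conj (isConj_iff.2 ⟨y, rfl⟩)
  rcases two_cls hodd hτ with h | h
  · obtain ⟨y, hy⟩ := isConj_iff.1 h
    rcases t1_case hK (bnd hK) (conj hy) (a := a) (b := b) (by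
        rw [conj_pow, ← ho, pow_orderOf_eq_one, mul_one, mul_inv_cancel]) with h3 | h3
    · exact Or.inl (back h3)
    · right
      rw [hcc y]
      exact h3
  · obtain ⟨y, hy⟩ := isConj_iff.1 h
    rcases dich_A45 hK (conj hy) with h3 | h3
    · exact Or.inl (back h3)
    · right
      rw [hcc y]
      rw [card_t2 hK] at h3
      omega

end Cfsg.Agent.H885.Pw.DichF
end

private theorem dce_5defd819d5d2 : _root_.True := by
  try have : _root_.True := by simp only [_root_.Cfsg.Agent.H150.F43.Dim.o.eq_def]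
  try have : _root_.True := by simp only [_root_.Cfsg.Agent.H150.F43.Dim.u.eq_2]
  try have : _root_.True := by simp only [_root_.Cfsg.Agent.H150.F43.Dim.o.eq_2]
  try have : _root_.True := by simp only [_root_.Cfsg.Agent.H150.F43.Dim.o.eq_1]
  try have : _root_.True := by simp only [_root_.Cfsg.Agent.H150.F43.Dim.Ep.eq_1]
  try have : _root_.True := by simp only [_root_.Cfsg.Agent.H150.F43.Dim.u.eq_1]
  try have : _root_.True := by simp only [_root_.Cfsg.Agent.H150.F43.Dim.u.eq_def]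
  try have : _root_.True := by simp only [_root_.Cfsg.Agent.H150.F43.Dim.Em.eq_1]
  exact _root_.True.intro
end
end
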